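import Cfsg.Agent.Lib.BrauerPairs.Bridge
import Cfsg.Agent.Lib.Blocks.PairsAlgebra

/-!
# Defect groups of the local blocks of a Brauer pair
-/

namespace CfsgLib.BrauerPairs

open MonoidAlgebra

section Algebra

variable {k : Type*} [Field k] {G : Type*} [Group G] [Fintype G] {p : ℕ} [CharP k p]
  [hp : Fact p.Prime] {Q T : Subgroup G} {f : MonoidAlgebra k G}

omit [Fintype G] [CharP k p] hp in
theorem brMap_ne_zero_of_le {R S : Subgroup G} (h : R ≤ S) {a : MonoidAlgebra k G}
    (ha : brMap k S a ≠ 0) : brMap k R a ≠ 0 :=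
  fun h0 => ha (by rw [← brMap_brMap_of_le h, h0, map_zero])

omit [Fintype G] [CharP k p] hp in
theorem brMap_sup_of_supp {R : Subgroup G} {a : MonoidAlgebra k G}
    (ha : a ∈ suppAlg k (cz Q)) : brMap k (Q ⊔ R) a = brMap k R a := by
  ext x
  by_cases hx : x ∈ cz R
  · by_cases hq : x ∈ cz Q
    · have : x ∈ cz (Q ⊔ R) := by
        rw [cz, Subgroup.mem_centralizer_iff]
        intro g hg
        have hle : Q ⊔ R ≤ Subgroup.centralizer ({x} : Set G) := sup_le
          (fun q hq' => Subgroup.mem_centralizer_iff.2 fun y hy => by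
            rw [Set.mem_singleton_iff.1 hy]; exact (mem_cz.1 hq q hq').symm)
          (fun r hr => Subgroup.mem_centralizer_iff.2 fun y hy => by
            rw [Set.mem_singleton_iff.1 hy]; exact (mem_cz.1 hx r hr).symm)
        exact (Subgroup.mem_centralizer_iff.1 (hle hg) x rfl).symm
      rw [coeff_brMap_of_mem _ this, coeff_brMap_of_mem _ hx]
    · rw [coeff_brMap_of_notMem _ (fun h => hq (cz_anti le_sup_left h)),
        coeff_brMap_of_mem _ hx, coeff_eq_zero_of_mem_suppAlg ha hq]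
  · rw [coeff_brMap_of_notMem _ (fun h => hx (cz_anti le_sup_right h)),
      coeff_brMap_of_notMem _ hx]

omit [Fintype G] [CharP k p] hp in
/-- The Brauer map commutes with the embedding of a subgroup algebra. -/
theorem inclA_brMap {K : Subgroup G} (R : Subgroup K) (a : MonoidAlgebra k K) :
    inclA k K (brMap k R a) = brMap k (R.map K.subtype) (inclA k K a) := by
  ext x
  by_cases hx : x ∈ K
  · have hiff : x ∈ cz (R.map K.subtype) ↔ (⟨x, hx⟩ : K) ∈ cz R := by
      simp only [mem_cz, Subgroup.mem_map, Subgroup.coe_subtype]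
      constructor
      · intro h q hq; exact Subtype.ext (h q ⟨q, hq, rfl⟩)
      · rintro h _ ⟨q, hq, rfl⟩; exact congrArg Subtype.val (h q hq)
    rw [show (inclA k K (brMap k R a)).coeff x = (brMap k R a).coeff ⟨x, hx⟩ from
      coeff_inclA _ ⟨x, hx⟩]
    by_cases hc : x ∈ cz (R.map K.subtype)
    · rw [coeff_brMap_of_mem _ hc, coeff_brMap_of_mem _ (hiff.1 hc)]
      exact (coeff_inclA a ⟨x, hx⟩).symm
    · rw [coeff_brMap_of_notMem _ hc, coeff_brMap_of_notMem _ (fun h => hc (hiff.2 h))]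
  · rw [coeff_inclA_of_notMem _ hx]
    symm
    by_cases hc : x ∈ cz (R.map K.subtype)
    · rw [coeff_brMap_of_mem _ hc, coeff_inclA_of_notMem _ hx]
    · rw [coeff_brMap_of_notMem _ hc]

omit [CharP k p] hp in
theorem IsDefect.conj (hS : BrSetup p Q f T) {D : Subgroup G} (hD : IsDefect p Q f T D) {t : G}
    (ht : t ∈ T) : IsDefect p Q f T (D.map (MulAut.conj t).toMonoidHom) where
  pgroup := hD.pgroup.map _
  le := (map_conj_eq_self (hS.le_norm ht)).ge.trans (Subgroup.map_mono hD.le)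
  le_T := by
    rintro _ ⟨d, hd, rfl⟩
    exact T.mul_mem (T.mul_mem ht (hD.le_T hd)) (T.inv_mem ht)
  inTr := by
    obtain ⟨a, has, haf, ha⟩ := hD.inTr
    refine ⟨conjA t a, ?_, conjA_mem_fixAlg haf t, by rw [relTr_map_conj hD.le_T ht haf, ha]⟩
    have h := conjA_mem_suppAlg has t
    rwa [map_conj_eq_self (normalizer_le_normalizer_cz Q (hS.le_norm ht))] at h
  br_ne := fun h => hD.br_ne (conjA_inj (g := t)
    (by rw [conjA_zero, conjA_brMap, hS.fixed t ht, h]))

namespace BrSetup

variable (hS : BrSetup p Q f T)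
include hS

theorem card_le_defect {D R : Subgroup G} (hD : IsDefect p Q f T D) (hRp : IsPGroup p R)
    (hRT : R ≤ T) (hbr : brMap k R f ≠ 0) : Nat.card R ≤ Nat.card D := by
  obtain ⟨t, -, ht⟩ := hS.exists_le_conj hD.inTr hRp hRT hbr
  exact (Subgroup.card_le_of_le ht).trans_eq
    (Subgroup.card_map_of_injective (MulAut.conj t).injective)

theorem exists_defect_ge {R : Subgroup G} (hRp : IsPGroup p R) (hRT : R ≤ T)
    (hbr : brMap k R f ≠ 0) : ∃ D, IsDefect p Q f T D ∧ R ≤ D := by
  obtain ⟨D, hD⟩ := hS.exists_isDefect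
  obtain ⟨t, ht, hle⟩ := hS.exists_le_conj hD.inTr hRp hRT hbr
  exact ⟨_, hD.conj hS ht, hle⟩

theorem card_defect_eq {D D' : Subgroup G} (hD : IsDefect p Q f T D)
    (hD' : IsDefect p Q f T D') : Nat.card D = Nat.card D' :=
  le_antisymm (hS.card_le_defect hD' hD.pgroup hD.le_T hD.br_ne)
    (hS.card_le_defect hD hD'.pgroup hD'.le_T hD'.br_ne)

theorem isDefect_of_card {D R : Subgroup G} (hD : IsDefect p Q f T D) (hRp : IsPGroup p R)
    (hRT : R ≤ T) (hbr : brMap k R f ≠ 0) (hcard : Nat.card D ≤ Nat.card R) :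
    IsDefect p Q f T R := by
  obtain ⟨D', hD', hle⟩ := hS.exists_defect_ge hRp hRT hbr
  rwa [Subgroup.eq_of_le_of_card_ge hle ((hS.card_defect_eq hD' hD).le.trans hcard)]

end BrSetup

theorem mem_invAlg_of {K : Subgroup G} {x : MonoidAlgebra k G} (hs : x ∈ suppAlg k K)
    (hf : x ∈ fixAlg k K) : x ∈ BlockAlg.invAlg k K K :=
  BlockAlg.mem_invAlg.2 ⟨fun _ hg => coeff_eq_zero_of_mem_suppAlg hs hg,
    mem_fixAlg_iff_coeff.1 hf⟩

/-- Idempotents of the centre of `k[T]` are supported in the centraliser of a normal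
`p`-subgroup of `T`. -/
theorem brMap_idem_eq (hQ : IsPGroup p Q) (hTQ : T ≤ Subgroup.normalizer (Q : Set G)) (hQT : Q ≤ T)
    (hCT : cz Q ≤ T) {x : MonoidAlgebra k G} (hs : x ∈ suppAlg k T) (hf : x ∈ fixAlg k T)
    (hid : x * x = x) : brMap k Q x = x := by
  have hpk : (p : k) = 0 := CharP.cast_eq_zero k p
  have hbr := BlockAlg.br_idempotent_eq hpk hQ hTQ hQT (mem_invAlg_of hs hf) hid hCT
  conv_rhs => rw [← hbr]
  ext g
  by_cases hg : g ∈ cz Q
  · rw [coeff_brMap_of_mem _ hg, BlockAlg.coeff_br_of_mem hg]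
  · rw [coeff_brMap_of_notMem _ hg, BlockAlg.suppIn_br Q x g hg]

/-- Below a pair, through a subgroup normalising the smaller subgroup. -/
theorem normalSub_through (hk : HasBlocks k G) {P S : Subgroup G} {e : MonoidAlgebra k G}
    (hle : PairLE p (Q, f) (P, e)) (hPp : IsPGroup p P) (he : IsBlockIdem (cz P) e)
    (hQS : Q ≤ S) (hSP : S ≤ P) (hSN : S ≤ Subgroup.normalizer (Q : Set G)) :
    ∃ h, NormalSub p (Q, f) (S, h) ∧ PairLE p (S, h) (P, e) := by
  obtain ⟨h, hh, hleh⟩ := exists_pairLE hk hSP hPp he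
  obtain ⟨f0, hf0⟩ := exists_normalSub hk hQS hSN (hPp.to_le hSP) hh
  have : f0 = f := pairLE_unique hk (b := (P, e)) he hPp
    ((Relation.ReflTransGen.single hf0).trans hleh) hle
  exact ⟨h, this ▸ hf0, hleh⟩

end Algebra

section Blocks

open Cfsg

variable {p : ℕ} {M : Ideal AlgInt}

theorem isDefectClass_twist {A B : Type*} [Group A] [Group B] [Finite A] (φ : A ≃* B)
    {s : Set (IrrCharacter B)} {g : B} (h : IsDefectClass M s g) :
    IsDefectClass M (CharCorr.twistIrr φ '' s) (φ.symm g) := by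
  obtain ⟨h1, h2, h3⟩ := h
  refine ⟨?_, ?_, ?_⟩
  · rwa [blockCoeff_twist, φ.apply_symm_apply]
  · rwa [blockCoeff_twist, φ.apply_symm_apply]
  · rintro _ ⟨χ, hχ, rfl⟩
    show ¬ MemLocalIdeal M (centralChar (fun a => (χ : B → ℂ) (φ a)) (φ.symm g))
    rw [centralChar_twist, φ.apply_symm_apply]
    exact h3 χ hχ

theorem isDefectGroup_twist {A B : Type*} [Group A] [Group B] [Finite A] [Fact p.Prime]
    (φ : A ≃* B) {s : Set (IrrCharacter B)} {D : Subgroup B} (h : IsDefectGroup p M s D) :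
    IsDefectGroup p M (CharCorr.twistIrr φ '' s) (D.map φ.symm.toMonoidHom) := by
  obtain ⟨g, hg, S, rfl⟩ := h
  refine ⟨φ.symm g, isDefectClass_twist φ hg, ?_⟩
  have hC : ∀ u, u ∈ Subgroup.centralizer ({g} : Set B) ↔
      φ.symm u ∈ Subgroup.centralizer ({φ.symm g} : Set A) := by
    intro u
    simp only [Subgroup.mem_centralizer_iff, Set.mem_singleton_iff, forall_eq, ← map_mul,
      φ.symm.injective.eq_iff]
  let ψ : Subgroup.centralizer ({g} : Set B) ≃* Subgroup.centralizer ({φ.symm g} : Set A) :=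
    { toFun := fun u => ⟨φ.symm u, (hC u).1 u.2⟩
      invFun := fun u => ⟨φ u, (hC _).2 (by rw [φ.symm_apply_apply]; exact u.2)⟩
      left_inv := fun u => Subtype.ext (φ.apply_symm_apply _)
      right_inv := fun u => Subtype.ext (φ.symm_apply_apply _)
      map_mul' := fun u v => Subtype.ext (map_mul φ.symm _ _) }
  have : Finite B := Finite.of_equiv A φ.toEquiv
  refine ⟨Sylow.ofCard ((S : Subgroup _).map ψ.toMonoidHom) ?_, ?_⟩
  · rw [Subgroup.card_map_of_injective ψ.injective, S.card_eq_multiplicity,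
      Nat.card_congr ψ.toEquiv]
  · show _ = ((S : Subgroup _).map ψ.toMonoidHom).map _
    rw [Subgroup.map_map, Subgroup.map_map]
    rfl

variable [M.IsMaximal] {G : Type*} [Group G] [Fintype G] [Fact p.Prime]

/-- A defect group of a conjugate local block. -/
theorem isDefectGroup_conjBlock {Q : Subgroup G} (x : G)
    {f : Set (IrrCharacter (cz Q))} {D : Subgroup (cz Q)} (h : IsDefectGroup p M f D) :
    ∃ D', IsDefectGroup p M (conjBlock Q x f) D' ∧
      D'.map (cz (Q.map (MulAut.conj x).toMonoidHom)).subtype =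
        (D.map (cz Q).subtype).map (MulAut.conj x).toMonoidHom := by
  refine ⟨_, conjBlock_eq Q x f ▸
    isDefectGroup_twist (conjEquiv x (mem_cz_map_conj_iff Q x)) h, ?_⟩
  rw [Subgroup.map_map, Subgroup.map_map]
  congr 1

theorem exists_defectGroup (hM : IsPModular p M) {B : Set (IrrCharacter G)} (hB : IsPBlock M B) :
    ∃ D, IsDefectGroup p M B D := by
  obtain ⟨g, hg⟩ := exists_defectClass hM hB
  obtain ⟨S⟩ : Nonempty (Sylow p (Subgroup.centralizer ({g} : Set G))) := inferInstance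
  exact ⟨_, g, hg, S, rfl⟩

theorem defectGroup_card_eq (hM : IsPModular p M) {B : Set (IrrCharacter G)} (hB : IsPBlock M B)
    {D D' : Subgroup G} (hD : IsDefectGroup p M B D) (hD' : IsDefectGroup p M B D') :
    Nat.card D = Nat.card D' := by
  have := charP_res hM
  exact (brSetup_block hM hB).card_defect_eq ((isDefectGroup_iff hM hB D).1 hD)
    ((isDefectGroup_iff hM hB D').1 hD')

theorem exists_defectGroup_ge (hM : IsPModular p M) {B : Set (IrrCharacter G)}
    (hB : IsPBlock M B) {R : Subgroup G} (hRp : IsPGroup p R)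
    (hbr : brMap (ResK M) R (eG hM B) ≠ 0) : ∃ D, IsDefectGroup p M B D ∧ R ≤ D := by
  have := charP_res hM
  obtain ⟨D, hD, hle⟩ := (brSetup_block hM hB).exists_defect_ge hRp le_top hbr
  exact ⟨D, (isDefectGroup_iff hM hB D).2 hD, hle⟩

/-- `P ∩ C(Q)` lies in a defect group of the block of the subpair on `Q`. -/
theorem centralizer_le_defect (hM : IsPModular p M) {P Q : Subgroup G}
    {e : Set (IrrCharacter (cz P))} {f : Set (IrrCharacter (cz Q))}
    (hP : IsPGroup p P) (he : IsPBlock M e) (hf : IsPBlock M f) (hle : SubpairLE p M Q f P e) :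
    ∃ D, IsDefectGroup p M f D ∧ (P ⊓ cz Q).subgroupOf (cz Q) ≤ D := by
  let _ : ∀ H : Subgroup G, Fintype H := fun H => Fintype.ofFinite H
  have := charP_res hM
  have hpair := (subpairLE_iff hM hf he).1 hle
  have hQP : Q ≤ P := hpair.le
  obtain ⟨h, hh, -⟩ := normalSub_through (hasBlocks hM) hpair hP (isBlockIdem_eA hM he)
    (S := Q ⊔ P ⊓ cz Q) le_sup_left (sup_le hQP inf_le_left)
    (sup_le Subgroup.le_normalizer (inf_le_right.trans (cz_le_normalizer Q)))
  have hne : brMap (ResK M) (P ⊓ cz Q) (eA hM (cz Q) f) ≠ 0 := by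
    refine brMap_ne_zero_of_le le_sup_right (S := Q ⊔ P ⊓ cz Q) fun h0 => hh.block_right.ne_zero ?_
    rw [← hh.cover]
    show brMap (ResK M) _ (eA hM (cz Q) f) * h = 0
    rw [h0, zero_mul]
  refine exists_defectGroup_ge hM hf ((hP.to_le inf_le_left).comap_subtype) fun h0 => hne ?_
  have h1 := inclA_brMap (k := ResK M) ((P ⊓ cz Q).subgroupOf (cz Q)) (eG hM f)
  rw [h0, map_zero, inclA_eG, Subgroup.map_subgroupOf_eq_of_le inf_le_right] at h1
  exact h1.symm

/-- Some conjugate of the pair lies below the maximal pair with centraliser part a whole defect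
group of the local block. -/
theorem exists_conj_centralizer_eq (hM : IsPModular p M) {B : Set (IrrCharacter G)}
    {P Q : Subgroup G} {e : Set (IrrCharacter (cz P))} {f : Set (IrrCharacter (cz Q))}
    (hmax : IsMaximalBrauerPair p M B P e) (hf : IsPBlock M f) (hle : SubpairLE p M Q f P e) :
    ∃ x : G, SubpairLE p M (Q.map (MulAut.conj x).toMonoidHom) (conjBlock Q x f) P e ∧
      IsDefectGroup p M (conjBlock Q x f) ((P ⊓ cz (Q.map (MulAut.conj x).toMonoidHom)).subgroupOf
        (cz (Q.map (MulAut.conj x).toMonoidHom))) ∧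
      ∀ R, IsDefectGroup p M f R →
        Nat.card R = Nat.card ↥(P ⊓ cz (Q.map (MulAut.conj x).toMonoidHom)) := by
  let _ : ∀ H : Subgroup G, Fintype H := fun H => Fintype.ofFinite H
  have := charP_res hM
  obtain ⟨hP, hD⟩ := (isMaximalBrauerPair_iff hM B P e).1 hmax
  obtain ⟨he, hB, hOP⟩ := (isBrauerPairOf_iff hM B P e).1 hP
  have hpair := (subpairLE_iff hM hf he).1 hle
  obtain ⟨R', hR'⟩ := exists_defectGroup hM hf
  have hR'd := (isDefectGroup_iff hM hf R').1 hR'
  set R := R'.map (cz Q).subtype with hR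
  have hRC : R ≤ cz Q := Subgroup.map_subtype_le _
  have hQp : IsPGroup p Q := hOP.pgroup.to_le hpair.le
  set S := Q ⊔ R with hS
  have hSp : IsPGroup p S := hQp.to_sup_of_normal_left' (hR'd.pgroup.map _)
    (hRC.trans (cz_le_normalizer Q))
  have hb := isBlockIdem_eA hM hf
  have hfixS : eA hM (cz Q) f ∈ fixAlg (ResK M) S := by
    intro s hs
    have hle' : S ≤ pairStab Q (eA hM (cz Q) f) := sup_le
      (fun q hq => ⟨Subgroup.le_normalizer hq, fixed_of_supp_cz hb.supp q hq⟩)
      (fun r hr => ⟨cz_le_normalizer Q (hRC hr), hb.fixed r (hRC hr)⟩)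
    exact (hle' hs).2
  have hSN : S ≤ Subgroup.normalizer (Q : Set G) :=
    sup_le Subgroup.le_normalizer (hRC.trans (cz_le_normalizer Q))
  have hbrS : brMap (ResK M) S (eA hM (cz Q) f) ≠ 0 := by
    rw [hS, brMap_sup_of_supp hb.supp, ← inclA_eG, hR, ← inclA_brMap]
    exact fun h0 => hR'd.br_ne (inclA_injective _ (h0.trans (map_zero _).symm))
  obtain ⟨h, hh, hcov⟩ := exists_block_le (hasBlocks hM)
    (brMap_mem_suppAlg S (eA hM (cz Q) f))
    (brMap_mem_fixAlg (cz_le_normalizer S) (fixAlg_anti (cz_anti le_sup_left) hb.fixed))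
    (by rw [← brMap_mul hSp hfixS hfixS, hb.idem]) hbrS
  have hstep : NormalSub p (Q, eA hM (cz Q) f) (S, h) :=
    ⟨hQp, hSp, hb, hh, le_sup_left, hSN, hfixS, hcov⟩
  have hbG := isBlockIdem_eG hM hB
  have hOS : OverPair p (⊥ : Subgroup G) (eG hM B) ⊤ S h :=
    ⟨hSp, bot_le, le_top, hh, (brMap_cover_iff (Relation.ReflTransGen.single hstep) hbG.fixed
      hbG.idem).1 ((brMap_cover_iff hpair hbG.fixed hbG.idem).2 hOP.cover)⟩
  obtain ⟨x, -, hx⟩ := (brSetup_block hM hB).exists_conj_le (hasBlocks hM) hOS hD hOP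
  set Q' := Q.map (MulAut.conj x).toMonoidHom with hQ'
  set f' := conjBlock Q x f with hf'
  have hf'B : IsPBlock M f' := isPBlock_conjBlock Q x hf
  have hle' : SubpairLE p M Q' f' P e := by
    refine (subpairLE_iff hM hf'B he).2 ?_
    rw [hf', ← conjA_eA_conjBlock hM Q x f]
    exact Relation.ReflTransGen.head (hstep.conj x) hx
  obtain ⟨D2, hD2, hD2le⟩ := centralizer_le_defect hM hOP.pgroup he hf'B hle'
  obtain ⟨D3, hD3, hD3eq⟩ := isDefectGroup_conjBlock (M := M) x hR'
  have hxR : R.map (MulAut.conj x).toMonoidHom ≤ P ⊓ cz Q' := by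
    refine le_inf ((Subgroup.map_mono le_sup_right).trans hx.le) ?_
    rw [hR, ← hD3eq]
    exact Subgroup.map_subtype_le _
  have hsub : Nat.card ((P ⊓ cz Q').subgroupOf (cz Q')) = Nat.card ↥(P ⊓ cz Q') :=
    Nat.card_congr (Subgroup.subgroupOfEquivOfLe inf_le_right).toEquiv
  have hcard : Nat.card R' ≤ Nat.card ↥(P ⊓ cz Q') := by
    refine le_of_eq_of_le ?_ (Subgroup.card_le_of_le hxR)
    rw [Subgroup.card_map_of_injective (MulAut.conj x).injective, hR,
      Subgroup.card_map_of_injective (cz Q).subtype_injective]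
  have hcard3 : Nat.card D3 = Nat.card R' := by
    rw [← Subgroup.card_map_of_injective (cz Q').subtype_injective (K := D3), hD3eq,
      Subgroup.card_map_of_injective (MulAut.conj x).injective,
      Subgroup.card_map_of_injective (cz Q).subtype_injective]
  have hcard2 : Nat.card D2 = Nat.card R' := (defectGroup_card_eq hM hf'B hD2 hD3).trans hcard3
  have heq : (P ⊓ cz Q').subgroupOf (cz Q') = D2 :=
    Subgroup.eq_of_le_of_card_ge hD2le (by rw [hcard2, hsub]; exact hcard)
  refine ⟨x, hle', heq.symm ▸ hD2, fun R'' hR'' => ?_⟩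
  rw [← hsub, heq, hcard2, defectGroup_card_eq hM hf hR'' hR']

/-- The block of a stabiliser cut out by a local block. -/
theorem exists_stabilizer_block (hM : IsPModular p M) {Q T : Subgroup G}
    {f : Set (IrrCharacter (cz Q))} (hf : IsPBlock M f)
    (hS : BrSetup p Q (eA hM (cz Q) f) T) :
    ∃ F : Set (IrrCharacter T), IsPBlock M F ∧
      (∀ t : T, blockCoeff F t = subgroupBlockCoeff (cz Q) f (t : G)) ∧
      eA hM T F = eA hM (cz Q) f := by
  classical
  have := charP_res hM
  let _ : Fintype T := Fintype.ofFinite _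
  let _ : Fintype (cz Q) := Fintype.ofFinite _
  set c : T → ℂ := fun t => subgroupBlockCoeff (cz Q) f (t : G) with hc
  have hcR : ∀ t, c t ∈ Blocks.lRing hM := fun t => subgroupBlockCoeff_mem hM hf _
  have hcl : ∀ u t : T, c (u * t * u⁻¹) = c t := by
    intro u t
    have hn := normalizer_le_normalizer_cz Q (hS.le_norm u.2)
    have hst := (stabilizesBlock_iff f hn).1
      ((stabilizesBlock_iff_conjA hM hn hf).2 (hS.fixed u u.2))
    have h := subgroupBlockCoeff_twist (u : G) (mem_normalizer_conj_iff hn) f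
      ((u * t * u⁻¹ : T) : G)
    rw [hst] at h
    simp only [hc]
    rw [h]
    congr 1
    simp [mul_assoc]
  set z : MonoidAlgebra ℂ T := Blocks.ofFun c with hz
  have hzc : z ∈ Subalgebra.center ℂ (MonoidAlgebra ℂ T) := ofFun_mem_center hcl
  have hzmap : z = MonoidAlgebra.mapDomainRingHom ℂ (Subgroup.inclusion hS.cz_le)
      (Blocks.blockIdem f) := by
    ext t
    rw [hz, Blocks.coeff_ofFun]
    by_cases ht : (t : G) ∈ cz Q
    · refine (subgroupBlockCoeff_coe (cz Q) f ⟨t, ht⟩).trans ?_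
      rw [← Blocks.coeff_blockIdem]
      exact (Finsupp.mapDomain_apply (Subgroup.inclusion_injective hS.cz_le)
        (Blocks.blockIdem f).coeff ⟨t, ht⟩).symm
    · refine (subgroupBlockCoeff_notMem f ht).trans ?_
      exact (Finsupp.mapDomain_of_notMem_range (Blocks.blockIdem f).coeff t (by
        rintro ⟨y, hy⟩; exact ht (hy ▸ y.2))).symm
  have hzz : z * z = z := by
    rw [hzmap, ← map_mul, Blocks.isIdempotentElem_blockIdem f]
  set A : Set (IrrCharacter T) := {χ | Blocks.omega (χ : T → ℂ) z = 1} with hA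
  have hzA : z = Blocks.blockIdem A := by
    refine Blocks.eq_blockIdem hzc fun χ => ?_
    have h2 : Blocks.omega (χ : T → ℂ) z * Blocks.omega (χ : T → ℂ) z =
        Blocks.omega (χ : T → ℂ) z := by rw [← Blocks.omega_mul χ hzc, hzz]
    by_cases hχ : χ ∈ A
    · rw [if_pos hχ]; exact hχ
    · rw [if_neg hχ]
      rcases mul_eq_zero.1 (by rw [mul_sub, h2, mul_one, sub_self] :
        Blocks.omega (χ : T → ℂ) z * (Blocks.omega (χ : T → ℂ) z - 1) = 0) with h | h
      · exact h
      · exact absurd (sub_eq_zero.1 h) hχ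
  have hcA : ∀ t, blockCoeff A t = c t := fun t => by
    rw [← Blocks.coeff_blockIdem, ← hzA, hz, Blocks.coeff_ofFun]
  have heA : inclA (ResK M) T (eG hM A) = eA hM (cz Q) f := by
    ext g
    by_cases hg : g ∈ T
    · refine (coeff_inclA _ ⟨g, hg⟩).trans ?_
      exact coeff_redFun_congr hM (hcA ⟨g, hg⟩)
    · rw [coeff_inclA_of_notMem _ hg,
        coeff_eq_zero_of_mem_suppAlg (suppAlg_mono hS.cz_le hS.block.supp) hg]
  have key : ∀ χ ∈ A, eA hM T (Cfsg.blockOf M (χ : T → ℂ)) = eA hM (cz Q) f := by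
    intro χ hχ
    set F := Cfsg.blockOf M (χ : T → ℂ)
    have hF : IsPBlock M F := ⟨χ, rfl⟩
    have hsub : F ⊆ A := Blocks.blockOf_subset_of_coeff hM (fun t => hcA t ▸ hcR t) hχ
    have hFA : eG hM F * eG hM A = eG hM F := by
      rw [eG_eq_redFun, eG_eq_redFun, ← redFun_mul hM
        (fun t => by simpa using blockCoeff_mem hM hF t)
        (fun t => by simpa using hcA t ▸ hcR t), Blocks.blockIdem_mul,
        Set.inter_eq_left.2 hsub]
    have hw := isBlockIdem_eA hM (G := G) hF
    have hwz : eA hM T F * eA hM (cz Q) f = eA hM T F := by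
      rw [← heA, ← inclA_eG, ← map_mul, hFA]
    have hwQ := brMap_idem_eq hS.pgroup hS.le_norm hS.le hS.cz_le hw.supp hw.fixed hw.idem
    have hws : eA hM T F ∈ suppAlg (ResK M) (cz Q) := hwQ ▸ brMap_mem_suppAlg Q _
    exact hwz.symm.trans ((hS.block.mul_idem hws (fixAlg_anti hS.cz_le hw.fixed)
      hw.idem).resolve_left fun h0 => hw.ne_zero (hwz.symm.trans h0))
  have hne : A.Nonempty := by
    by_contra h
    rw [Set.not_nonempty_iff_eq_empty] at h
    apply hS.block.ne_zero
    rw [← heA]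
    ext g
    by_cases hg : g ∈ T
    · rw [show (inclA (ResK M) T (eG hM A)).coeff g = (eG hM A).coeff ⟨g, hg⟩ from
        coeff_inclA _ ⟨g, hg⟩, eG, coeff_redFun hM (c := blockCoeff A) (hcA _ ▸ hcR _)]
      simp only [h, blockCoeff, finsum_mem_empty, mul_zero, coeff_zero, Finsupp.zero_apply]
      exact map_zero (resK hM)
    · rw [coeff_inclA_of_notMem _ hg]; simp
  obtain ⟨χ₀, hχ₀⟩ := hne
  set F := Cfsg.blockOf M (χ₀ : T → ℂ) with hFdef
  have hFA : F = A := by
    refine Set.Subset.antisymm (Blocks.blockOf_subset_of_coeff hM (fun t => hcA t ▸ hcR t) hχ₀) ?_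
    intro χ hχ
    rw [hFdef, eA_inj hM (K := T) ⟨χ₀, rfl⟩ ⟨χ, rfl⟩ ((key χ₀ hχ₀).trans (key χ hχ).symm)]
    exact Blocks.mem_blockOf_self hM χ
  exact ⟨F, ⟨χ₀, rfl⟩, fun t => by rw [hFA, hcA], key χ₀ hχ₀⟩

/-- Defect groups of the stabiliser block. -/
theorem isDefectGroup_stabilizer_iff (hM : IsPModular p M) {Q T : Subgroup G}
    {f : MonoidAlgebra (ResK M) G} (hS : BrSetup p Q f T) {F : Set (IrrCharacter T)}
    (hF : IsPBlock M F) (heq : eA hM T F = f) (D : Subgroup T) :
    IsDefectGroup p M F D ↔ IsDefect p Q f T (D.map T.subtype) := by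
  have := charP_res hM
  let _ : Fintype T := Fintype.ofFinite _
  have hST := brSetup_block (p := p) hM hF
  have hbr : ∀ R : Subgroup T, brMap (ResK M) R (eG hM F) ≠ 0 ↔
      brMap (ResK M) (R.map T.subtype) f ≠ 0 := by
    intro R
    rw [← heq, ← inclA_eG, ← inclA_brMap, ne_eq, ne_eq]
    exact not_congr ⟨fun h => by rw [h, map_zero],
      fun h => inclA_injective T (h.trans (map_zero _).symm)⟩
  have hcard : ∀ R : Subgroup T, Nat.card (R.map T.subtype) = Nat.card R := fun R =>
    Subgroup.card_map_of_injective T.subtype_injective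
  obtain ⟨E, hE⟩ := hS.exists_isDefect
  have hET : (E.subgroupOf T).map T.subtype = E := Subgroup.map_subgroupOf_eq_of_le hE.le_T
  obtain ⟨E', hE'⟩ := hST.exists_isDefect
  have h1 : Nat.card E' ≤ Nat.card E := by
    rw [← hcard]
    exact hS.card_le_defect hE (hE'.pgroup.map _) (Subgroup.map_subtype_le _)
      ((hbr _).1 hE'.br_ne)
  have h2 : Nat.card E ≤ Nat.card E' := by
    rw [← hET, hcard]
    exact hST.card_le_defect hE' hE.pgroup.comap_subtype le_top
      ((hbr _).2 (by rw [hET]; exact hE.br_ne))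
  rw [isDefectGroup_iff hM hF]
  constructor
  · intro hD
    refine hS.isDefect_of_card hE (hD.pgroup.map _) (Subgroup.map_subtype_le _)
      ((hbr _).1 hD.br_ne) ?_
    rw [hcard, hST.card_defect_eq hD hE']
    exact h2
  · intro hD
    refine hST.isDefect_of_card hE' ?_ le_top ((hbr _).2 hD.br_ne) ?_
    · have h := hD.pgroup.comap_subtype (K := T)
      rwa [Subgroup.comap_map_eq_self_of_injective T.subtype_injective] at h
    · rw [← hcard D, hS.card_defect_eq hD hE]
      exact h1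

end Blocks

end CfsgLib.BrauerPairs
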