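import Cfsg.Agent.Lib.BrauerPairs.PPowerIndex
import Cfsg.Agent.Lib.BlockCover.PIndex

/-!
# A stable block of a normal subgroup of `p`-power index
-/

set_option autoImplicit false
set_option linter.style.haveILetI false
set_option linter.unusedSectionVars false

namespace CfsgLib.BrauerPairs

open Cfsg MonoidAlgebra
open CfsgLib.Characters CfsgLib.CharCorr

variable {p : ℕ} {M : Ideal AlgInt} {G : Type*} [Group G] [Fintype G] (N : Subgroup G) [N.Normal]
  [Fintype N] {c : Set (IrrCharacter N)}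

theorem orbitSet_eq_self (hst : ∀ x : G, StabilizesBlock N c x) :
    BlockCover.orbitSet N c = c := by
  refine subset_antisymm ?_ (BlockCover.subset_orbitSet N c)
  rintro _ ⟨g, θ, hθ, rfl⟩
  obtain ⟨χ', hχ', h⟩ := (hst g⁻¹).2 θ hθ
  suffices conjIrr N g θ = χ' from this ▸ hχ'
  apply Subtype.ext
  funext n
  rw [conjIrr_apply]
  refine (h _ n ?_).symm
  show (n : G) = g⁻¹ * (g * n * g⁻¹) * g⁻¹⁻¹
  group

theorem exists_block_eq_coeff (hM : IsPModular p M) (hN : ∃ k : ℕ, N.index = p ^ k)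
    (hc : IsPBlock M c) (hst : ∀ x : G, StabilizesBlock N c x) :
    ∃ B : Set (IrrCharacter G), IsPBlock M B ∧
      ∀ g : G, blockCoeff B g = subgroupBlockCoeff N c g := by
  classical
  have horb := orbitSet_eq_self N hst
  have hcl : ∀ a x : G, subgroupBlockCoeff N c (a * x * a⁻¹) = subgroupBlockCoeff N c x := by
    intro a x
    by_cases hx : x ∈ N
    · rw [← show ((⟨x, hx⟩ : N) : G) = x from rfl, subgroupBlockCoeff_coe,
        ← show ((⟨a * x * a⁻¹, ‹N.Normal›.conj_mem x hx a⟩ : N) : G) = a * x * a⁻¹ from rfl,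
        subgroupBlockCoeff_coe]
      have := BlockCover.blockCoeff_orbitSet_conj N c a ⟨x, hx⟩
      rwa [horb] at this
    · rw [subgroupBlockCoeff_notMem c hx, subgroupBlockCoeff_notMem c]
      exact fun h => hx (by simpa [mul_assoc] using ‹N.Normal›.conj_mem _ h a⁻¹)
  set z := Blocks.ofFun (subgroupBlockCoeff N c) with hz
  have hzc : z ∈ Subalgebra.center ℂ (MonoidAlgebra ℂ G) := ofFun_mem_center hcl
  have hω : ∀ χ : IrrCharacter G, Blocks.omega (χ : G → ℂ) z =
      (∑ η : IrrCharacter N, if η ∈ c then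
        classInner ((χ : G → ℂ) ∘ N.subtype) (η : N → ℂ) * (η : N → ℂ) 1 else 0) /
        (χ : G → ℂ) 1 := by
    intro χ
    rw [hz, Blocks.omega_ofFun]
    congr 1
    rw [← Finset.sum_subset (Finset.subset_univ (Finset.univ.filter (· ∈ N))) fun x _ hx => by
        rw [subgroupBlockCoeff_notMem c (by simpa using hx), zero_mul],
      Finset.sum_subtype (p := fun x => x ∈ N) (Finset.univ.filter (· ∈ N)) (by simp)
        (fun x => subgroupBlockCoeff N c x * (χ : G → ℂ) x)]
    have hres := irr_res_eq_sum χ N.subtype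
    have hn : ∀ n : N, (χ : G → ℂ) n = ∑ η : IrrCharacter N,
        classInner ((χ : G → ℂ) ∘ N.subtype) (η : N → ℂ) * (η : N → ℂ) n := fun n => by
      simpa using congrFun hres n
    simp only [subgroupBlockCoeff_coe, hn, Finset.mul_sum]
    rw [Finset.sum_comm]
    refine Finset.sum_congr rfl fun η _ => ?_
    have h := BlockCover.sum_blockCoeff_mul c η
    rw [div_eq_iff (irr_one_ne_zero η)] at h
    rw [show (if η ∈ c then classInner ((χ : G → ℂ) ∘ N.subtype) (η : N → ℂ) * (η : N → ℂ) 1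
      else 0) = classInner ((χ : G → ℂ) ∘ N.subtype) (η : N → ℂ) *
        ((if η ∈ c then 1 else 0) * (η : N → ℂ) 1) by split_ifs <;> simp, ← h, Finset.mul_sum]
    exact Finset.sum_congr rfl fun n _ => by ring
  set A : Set (IrrCharacter G) :=
    {χ | ∃ θ ∈ c, classInner (fun n : N => (χ : G → ℂ) n) (θ : N → ℂ) ≠ 0} with hA
  obtain ⟨χ₀, hχ₀⟩ : A.Nonempty := by
    by_contra hne
    rw [Set.not_nonempty_iff_eq_empty] at hne
    have h0 : z = Blocks.blockIdem (∅ : Set (IrrCharacter G)) := by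
      refine Blocks.eq_blockIdem hzc fun χ => ?_
      rw [hω, if_neg (Set.notMem_empty χ), Finset.sum_eq_zero, zero_div]
      intro η _
      split_ifs with hη
      · rw [show classInner ((χ : G → ℂ) ∘ N.subtype) (η : N → ℂ) = 0 from not_not.1 fun h =>
          (hne ▸ Set.notMem_empty χ : χ ∉ A) ⟨η, hη, h⟩, zero_mul]
      · rfl
    rw [Blocks.blockIdem_empty] at h0
    obtain ⟨θ, hθ⟩ := Blocks.IsPBlock.nonempty hM hc
    have h1 := BlockCover.sum_blockCoeff_mul c θ
    rw [if_pos hθ, Finset.sum_eq_zero, zero_div] at h1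
    · exact zero_ne_one h1
    · intro n _
      have h2 := congrArg (fun a => a.coeff (n : G)) h0
      simp only [hz, Blocks.coeff_ofFun, coeff_zero, Finsupp.zero_apply,
        subgroupBlockCoeff_coe] at h2
      rw [h2, zero_mul]
  refine ⟨blockOf M (χ₀ : G → ℂ), Blocks.isPBlock_blockOf χ₀, fun g => ?_⟩
  set B := blockOf M (χ₀ : G → ℂ) with hBdef
  have hB : IsPBlock M B := Blocks.isPBlock_blockOf χ₀
  have hχB : χ₀ ∈ B := Blocks.mem_blockOf_self hM χ₀
  have hAB : ∀ χ, χ ∈ A → χ ∈ B := fun χ hχ => by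
    rw [BlockCover.cover_unique N hM hN hc hB (Blocks.isPBlock_blockOf χ) ⟨χ₀, hχB, hχ₀⟩
      ⟨χ, Blocks.mem_blockOf_self hM χ, hχ⟩]
    exact Blocks.mem_blockOf_self hM χ
  have hBA : ∀ χ ∈ B, ∀ η : IrrCharacter N,
      classInner (fun n : N => (χ : G → ℂ) n) (η : N → ℂ) ≠ 0 → η ∈ c := by
    intro χ hχ η hη
    obtain ⟨θ, hθ, hθ0⟩ := hχ₀
    rw [← horb]
    exact BlockCover.mem_orbitSet_of_congr N hM hc hθ fun n =>
      BlockCover.induced_congr_of_cover N hM ((Blocks.IsPBlock.mem_iff hM hB hχB χ).1 hχ) hθ0 hη n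
  have hzB : z = Blocks.blockIdem B := by
    refine Blocks.eq_blockIdem hzc fun χ => ?_
    rw [hω]
    by_cases hχ : χ ∈ B
    · rw [if_pos hχ, div_eq_one_iff_eq (irr_one_ne_zero χ), irr_res_one χ N.subtype]
      refine Finset.sum_congr rfl fun η _ => ?_
      split_ifs with hη
      · rfl
      · rw [show classInner ((χ : G → ℂ) ∘ N.subtype) (η : N → ℂ) = 0 from
          not_not.1 fun h => hη (hBA χ hχ η h), zero_mul]
    · rw [if_neg hχ, Finset.sum_eq_zero, zero_div]
      intro η _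
      split_ifs with hη
      · rw [show classInner ((χ : G → ℂ) ∘ N.subtype) (η : N → ℂ) = 0 from
          not_not.1 fun h => hχ (hAB χ ⟨η, hη, h⟩), zero_mul]
      · rfl
  have h := congrArg (fun a => a.coeff g) hzB
  simpa [hz] using h.symm

section Trace

variable {k : Type*} [Field k] [CharP k p] [Fact p.Prime]

theorem sup_eq_top_of_inTr (hN : ∃ m : ℕ, N.index = p ^ m) {e : MonoidAlgebra k G}
    (he : IsBlockIdem N e) (hef : e ∈ fixAlg k (⊤ : Subgroup G)) {P : Subgroup G}
    (hTr : InTr (⊥ : Subgroup G) P ⊤ e) : N ⊔ P = ⊤ := by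
  classical
  have hp : p.Prime := Fact.out
  by_contra hne
  set H := N ⊔ P with hH
  obtain ⟨m, hm⟩ := hN
  have hdvd : p ∣ H.index := by
    obtain ⟨i, -, hi⟩ := (Nat.dvd_prime_pow hp).1 (hm ▸ Subgroup.index_dvd_of_le (le_sup_left : N ≤ H))
    rcases Nat.eq_zero_or_pos i with h0 | h0
    · exact absurd (Subgroup.index_eq_one.1 (by rw [hi, h0, pow_zero])) hne
    · exact hi ▸ dvd_pow_self p h0.ne'
  obtain ⟨a, -, haP, hae⟩ := hTr
  set b := relTr k P H a with hb
  have hbH : b ∈ fixAlg k H := relTr_mem_fixAlg haP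
  have hbe : relTr k H ⊤ b = e := by rw [hb, relTr_relTr le_sup_right le_top haP, hae]
  -- the part of `b` inside `N`
  let π : MonoidAlgebra k G → MonoidAlgebra k G := fun x =>
    MonoidAlgebra.ofCoeff (x.coeff.filter (· ∈ N))
  have hπc : ∀ x y, (π x).coeff y = if y ∈ N then x.coeff y else 0 := fun x y => by
    simp only [π, MonoidAlgebra.coeff_ofCoeff, Finsupp.filter_apply]
  have hNc : ∀ (u y : G), u⁻¹ * y * u ∈ N ↔ y ∈ N := fun u y => by
    constructor
    · intro h
      simpa [mul_assoc] using ‹N.Normal›.conj_mem _ h u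
    · intro h
      simpa using ‹N.Normal›.conj_mem _ h u⁻¹
  have hπconj : ∀ (u : G) (x : MonoidAlgebra k G), π (conjA u x) = conjA u (π x) := by
    intro u x
    ext y
    simp only [hπc, coeff_conjA, hNc]
  have hπb : π b ∈ fixAlg k H := fun u hu => by rw [← hπconj, hbH u hu]
  have hπs : π b ∈ suppAlg k N := fun y hy => by
    rw [hπc] at hy
    by_contra hyN
    exact hy (if_neg hyN)
  have hπe : relTr k H ⊤ (π b) = e := by
    ext y
    by_cases hy : y ∈ N
    · conv_rhs => rw [← hbe]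
      rw [relTr_eq_sum, relTr_eq_sum]
      simp only [coeff_sum, Finsupp.finsetSum_apply, coeff_conjA, hπc]
      exact Finset.sum_congr rfl fun q _ => if_pos ((hNc _ y).2 hy)
    · rw [coeff_eq_zero_of_mem_suppAlg (relTr_mem_suppAlg
        (fun u _ => by rw [Subgroup.normalizer_eq_top_iff.2 ‹N.Normal›]; trivial) hπs) hy,
        coeff_eq_zero_of_mem_suppAlg he.supp hy]
  obtain ⟨t, n, hn⟩ := he.locally (π b) hπs (fixAlg_anti le_sup_left hπb)
  set ν := π b * e - t • e with hν
  have heH : e ∈ fixAlg k H := fixAlg_anti le_top hef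
  have hνH : ν ∈ fixAlg k H := sub_mem (mul_mem hπb heH) ((fixAlg k H).smul_mem heH t)
  have hνs : ν ∈ suppAlg k N :=
    sub_mem (mul_mem hπs he.supp) ((suppAlg k N).smul_mem he.supp t)
  have hsum : relTr k H ⊤ ν = e := by
    have h1 : relTr k H ⊤ (π b * e) = e := by rw [← relTr_mul_right hef, hπe, he.idem]
    have h2 : relTr k H ⊤ (t • e) = 0 := by
      rw [relTr_smul, relTr_of_fixed hef, Subgroup.relIndex_top_right,
        (CharP.cast_eq_zero_iff k p _).2 hdvd, zero_smul, smul_zero]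
    have h3 := relTr_add (k := k) H ⊤ ν (t • e)
    rwa [hν, sub_add_cancel, h1, h2, add_zero, eq_comm] at h3
  apply he.ne_zero
  refine eq_zero_of_nilpotent_idem ?_ he.idem
  rw [← hsum, relTr_eq_sum]
  refine Commute.isNilpotent_sum (fun q _ => ?_) fun q r _ _ => ?_
  · exact ⟨n, by rw [← conjA_pow, hn, conjA_zero]⟩
  · refine commute_of_supp_fix (H := N) (fun y hy => ?_) fun u hu => ?_
    · rw [coeff_conjA] at hy
      exact (hNc _ y).1 (hνs _ hy)
    · rw [← conjA_mul_left]
      generalize ((r.out : (⊤ : Subgroup G)) : G) = v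
      rw [show u * v = v * (v⁻¹ * u * v) by group, conjA_mul_left,
        hνH _ (le_sup_left (a := N) ((hNc v u).2 hu))]

end Trace

variable [M.IsMaximal] [Fact p.Prime]

theorem defect_of_coeff (hM : IsPModular p M) (hN : ∃ k : ℕ, N.index = p ^ k)
    (hc : IsPBlock M c) {B : Set (IrrCharacter G)} (hB : IsPBlock M B)
    (hBc : ∀ g : G, blockCoeff B g = subgroupBlockCoeff N c g) {P : Subgroup G}
    (hP : IsDefectGroup p M B P) :
    N ⊔ P = ⊤ ∧ IsDefectGroup p M c ((P ⊓ N).subgroupOf N) := by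
  classical
  have := charP_res hM
  have hS := brSetup_block (p := p) hM hB
  have hD := (isDefectGroup_iff hM hB P).1 hP
  have heq : eA hM N c = eG hM B := eA_eq_of_coeff hM hBc
  have heb : IsBlockIdem N (eG hM B) := heq ▸ isBlockIdem_eA hM hc
  refine ⟨sup_eq_top_of_inTr N hN heb (isBlockIdem_eG hM hB).fixed hD.inTr, ?_⟩
  set R := (P ⊓ N).subgroupOf N with hR
  have hmap : R.map N.subtype = P ⊓ N := Subgroup.map_subgroupOf_eq_of_le inf_le_right
  have hbr : ∀ S : Subgroup N, brMap (ResK M) S (eG hM c) ≠ 0 ↔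
      brMap (ResK M) (S.map N.subtype) (eG hM B) ≠ 0 := by
    intro S
    rw [← heq, ← inclA_eG, ← inclA_brMap, ne_eq, ne_eq, not_iff_not]
    exact ⟨fun h => by rw [h, map_zero], fun h => inclA_injective N (by rw [h, map_zero])⟩
  obtain ⟨D, hD'⟩ := exists_defectGroup hM hc
  have hDc := (isDefectGroup_iff hM hc D).1 hD'
  refine (isDefectGroup_iff hM hc R).2 ((brSetup_block hM hc).isDefect_of_card hDc
    (hD.pgroup.to_le inf_le_left).comap_subtype le_top ?_ ?_)
  · rw [hbr, hmap]
    exact brMap_ne_zero_of_le inf_le_left hD.br_ne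
  · obtain ⟨t, -, ht⟩ := hS.exists_le_conj hD.inTr (hDc.pgroup.map N.subtype) le_top
      ((hbr D).1 hDc.br_ne)
    have hle : D.map N.subtype ≤ (P ⊓ N).map (MulAut.conj t).toMonoidHom := by
      intro y hy
      obtain ⟨z, hz, rfl⟩ := ht hy
      refine ⟨z, ⟨hz, ?_⟩, rfl⟩
      have h1 : (MulAut.conj t).toMonoidHom z ∈ N := Subgroup.map_subtype_le _ hy
      simpa [mul_assoc] using ‹N.Normal›.conj_mem _ h1 t⁻¹
    have h2 := Subgroup.card_le_of_le hle
    rw [Subgroup.card_map_of_injective N.subtype_injective,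
      Subgroup.card_map_of_injective (MulAut.conj t).injective, ← hmap,
      Subgroup.card_map_of_injective N.subtype_injective] at h2
    exact h2

end CfsgLib.BrauerPairs
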