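import Cfsg.Agent.Lib.BrauerPairs.Trace
import Mathlib.Algebra.Ring.GeomSum
import Mathlib.GroupTheory.Nilpotent
import Mathlib.Logic.Relation

/-!
# Defect groups and Brauer pairs over a local block

A setting is a `p`-subgroup `Q`, a block idempotent `f` of `k[C(Q)]` and a subgroup `T` of
`N(Q)` fixing `f` and containing `Q` and `C(Q)`. The case `Q = 1`, `T = G` is that of a block
of `G` itself.
-/

namespace CfsgLib.BrauerPairs

open MonoidAlgebra

variable {k : Type*} [Field k] {G : Type*} [Group G]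

/-- A block idempotent of `k[H]`: a central idempotent whose corner of the centre is local with
residue field `k`. -/
structure IsBlockIdem (H : Subgroup G) (e : MonoidAlgebra k G) : Prop where
  supp : e ∈ suppAlg k H
  fixed : e ∈ fixAlg k H
  idem : e * e = e
  ne_zero : e ≠ 0
  locally : ∀ z : MonoidAlgebra k G, z ∈ suppAlg k H → z ∈ fixAlg k H →
    ∃ c : k, IsNilpotent (z * e - c • e)

variable (k G) in
/-- Every subgroup algebra decomposes into block idempotents. -/
def HasBlocks : Prop :=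
  ∀ H : Subgroup G, ∃ s : Finset (MonoidAlgebra k G),
    (∀ e ∈ s, IsBlockIdem H e) ∧ ∑ e ∈ s, e = 1

theorem eq_zero_of_nilpotent_idem {A : Type*} [MonoidWithZero A] {a : A}
    (h : IsNilpotent a) (h2 : a * a = a) : a = 0 := by
  obtain ⟨n, hn⟩ := h
  have hpow : ∀ m : ℕ, a ^ (m + 1) = a := fun m => by
    induction m with
    | zero => simp
    | succ m ih => rw [pow_succ, ih, h2]
  calc a = a ^ (n + 1) := (hpow n).symm
    _ = 0 := by rw [pow_succ, hn, zero_mul]

theorem eq_zero_of_nilpotent_mul {A : Type*} [MonoidWithZero A] {a b : A}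
    (h : IsNilpotent a) (hab : a * b = b) : b = 0 := by
  obtain ⟨n, hn⟩ := h
  have hpow : ∀ m : ℕ, a ^ m * b = b := fun m => by
    induction m with
    | zero => simp
    | succ m ih => rw [pow_succ, mul_assoc, hab, ih]
  rw [← hpow n, hn, zero_mul]

theorem IsBlockIdem.mul_idem {H : Subgroup G} {e z : MonoidAlgebra k G} (he : IsBlockIdem H e)
    (hzs : z ∈ suppAlg k H) (hzf : z ∈ fixAlg k H) (hz : z * z = z) :
    z * e = 0 ∨ z * e = e := by
  obtain ⟨c, hc⟩ := he.locally z hzs hzf
  have hcomm : z * e = e * z := (commute_of_supp_fix hzs he.fixed).eq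
  have hze : (z * e) * (z * e) = z * e := by
    rw [mul_assoc, ← mul_assoc e z e, ← hcomm, mul_assoc z e e, he.idem, ← mul_assoc, hz]
  by_cases hc0 : c = 0
  · left
    refine eq_zero_of_nilpotent_idem ?_ hze
    simpa [hc0] using hc
  · right
    set d := e - z * e with hd
    have hd1 : (z * e) * d = 0 := by
      rw [hd, mul_sub, hze, mul_assoc, he.idem, sub_self]
    have hd2 : e * d = d := by
      rw [hd, mul_sub, he.idem, ← mul_assoc, ← hcomm, mul_assoc, he.idem]
    obtain ⟨n, hn⟩ := hc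
    have hpow : ∀ m : ℕ, (z * e - c • e) ^ m * d = (-c) ^ m • d := fun m => by
      induction m with
      | zero => simp
      | succ m ih =>
        rw [pow_succ, mul_assoc, sub_mul, hd1, smul_mul_assoc, hd2, zero_sub, ← neg_smul,
          mul_smul_comm, ih, smul_smul, pow_succ']
    have h := hpow n
    rw [hn, zero_mul] at h
    have : d = 0 := (smul_eq_zero.1 h.symm).resolve_left (pow_ne_zero _ (neg_ne_zero.2 hc0))
    exact (sub_eq_zero.1 this).symm

theorem IsBlockIdem.eq_of_mul_ne_zero {H : Subgroup G} {e e' : MonoidAlgebra k G}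
    (he : IsBlockIdem H e) (he' : IsBlockIdem H e') (h : e * e' ≠ 0) : e = e' := by
  have h1 := (he'.mul_idem he.supp he.fixed he.idem).resolve_left h
  have hcomm : e * e' = e' * e := (commute_of_supp_fix he.supp he'.fixed).eq
  have h2 := (he.mul_idem he'.supp he'.fixed he'.idem).resolve_left (hcomm ▸ h)
  rw [← h2, ← hcomm, h1]

theorem IsBlockIdem.mul_eq_zero {H : Subgroup G} {e e' : MonoidAlgebra k G}
    (he : IsBlockIdem H e) (he' : IsBlockIdem H e') (h : e ≠ e') : e * e' = 0 :=
  not_not.1 fun hne => h (he.eq_of_mul_ne_zero he' hne)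

theorem IsBlockIdem.conjA {H : Subgroup G} {e : MonoidAlgebra k G} (he : IsBlockIdem H e) (g : G) :
    IsBlockIdem (H.map (MulAut.conj g).toMonoidHom) (conjA g e) where
  supp := conjA_mem_suppAlg he.supp g
  fixed := conjA_mem_fixAlg he.fixed g
  idem := by rw [← conjA_mul, he.idem]
  ne_zero h := he.ne_zero (conjA_inj (g := g) (by rw [h, conjA_zero]))
  locally z hzs hzf := by
    have hmap : (H.map (MulAut.conj g).toMonoidHom).map (MulAut.conj g⁻¹).toMonoidHom = H := by
      ext x
      simp [Subgroup.mem_map, mul_assoc]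
    obtain ⟨c, hc⟩ := he.locally _ (hmap ▸ conjA_mem_suppAlg hzs g⁻¹)
      (hmap ▸ conjA_mem_fixAlg hzf g⁻¹)
    refine ⟨c, ?_⟩
    have h := hc.map (conjHom (k := k) g)
    have hg : CfsgLib.BrauerPairs.conjA g (CfsgLib.BrauerPairs.conjA g⁻¹ z) = z := by
      rw [← conjA_mul_left, mul_inv_cancel, conjA_one_left]
    simpa [map_sub, map_mul, map_smul, conjHom, hg] using h

theorem exists_block_le (hk : HasBlocks k G) {H : Subgroup G} {z : MonoidAlgebra k G}
    (hzs : z ∈ suppAlg k H) (hzf : z ∈ fixAlg k H) (hz : z * z = z) (h0 : z ≠ 0) :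
    ∃ e, IsBlockIdem H e ∧ z * e = e := by
  obtain ⟨s, hs, hsum⟩ := hk H
  by_contra hcon
  simp only [not_exists, not_and] at hcon
  refine h0 ?_
  rw [← mul_one z, ← hsum, Finset.mul_sum]
  exact Finset.sum_eq_zero fun e he =>
    ((hs e he).mul_idem hzs hzf hz).resolve_right (hcon e (hs e he))

theorem cz_le_normalizer (R : Subgroup G) : cz R ≤ Subgroup.normalizer (R : Set G) := by
  intro g hg x
  simp only [SetLike.mem_coe]
  have h := mem_cz.1 hg
  constructor
  · intro hx
    rw [← h x hx]; simpa using hx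
  · intro hx
    have h' := h _ hx
    have h3 : g * x = g * (g * x * g⁻¹) := by simpa [mul_assoc] using h'
    rw [mul_left_cancel h3]; exact hx

/-- Elements supported on the centraliser of `R` are fixed by `R`. -/
theorem fixed_of_supp_cz {R : Subgroup G} {a : MonoidAlgebra k G}
    (ha : a ∈ suppAlg k (cz R)) : a ∈ fixAlg k R := by
  intro r hr
  ext x
  rw [coeff_conjA]
  by_cases hx : x ∈ cz R
  · congr 1
    rw [mul_assoc, ← mem_cz.1 hx r hr, inv_mul_cancel_left]
  · have hx' : r⁻¹ * x * r ∉ cz R := fun h => hx (by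
      have h2 := mem_cz_iff_conj.1 h r hr
      have h3 : x = r⁻¹ * x * r := by simpa [mul_assoc] using h2
      rw [h3]; exact h)
    rw [coeff_eq_zero_of_mem_suppAlg ha hx, coeff_eq_zero_of_mem_suppAlg ha hx']

/-- The stabiliser of a pair `(R, h)`. -/
noncomputable def pairStab (R : Subgroup G) (h : MonoidAlgebra k G) : Subgroup G where
  carrier := {g | g ∈ Subgroup.normalizer (R : Set G) ∧ conjA g h = h}
  one_mem' := ⟨Subgroup.one_mem _, conjA_one_left h⟩
  mul_mem' {a b} ha hb := ⟨Subgroup.mul_mem _ ha.1 hb.1, by rw [conjA_mul_left, hb.2, ha.2]⟩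
  inv_mem' {a} ha := ⟨Subgroup.inv_mem _ ha.1, by
    conv_lhs => rw [← ha.2]
    rw [← conjA_mul_left, inv_mul_cancel, conjA_one_left]⟩

theorem mem_pairStab {R : Subgroup G} {h : MonoidAlgebra k G} {g : G} :
    g ∈ pairStab R h ↔ g ∈ Subgroup.normalizer (R : Set G) ∧ conjA g h = h := Iff.rfl

/-- A setting for the relative theory. -/
structure BrSetup (p : ℕ) (Q : Subgroup G) (f : MonoidAlgebra k G) (T : Subgroup G) : Prop where
  pgroup : IsPGroup p Q
  block : IsBlockIdem (cz Q) f
  le_norm : T ≤ Subgroup.normalizer (Q : Set G)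
  cz_le : cz Q ≤ T
  le : Q ≤ T
  fixed : f ∈ fixAlg k T

/-- `z` is a trace from `R` to `T` of an element of `k[C(Q)]`. -/
def InTr (Q R T : Subgroup G) (z : MonoidAlgebra k G) : Prop :=
  ∃ a : MonoidAlgebra k G, a ∈ suppAlg k (cz Q) ∧ a ∈ fixAlg k R ∧ relTr k R T a = z

/-- A pair `(R, h)` over the setting. -/
structure OverPair (p : ℕ) (Q : Subgroup G) (f : MonoidAlgebra k G) (T R : Subgroup G)
    (h : MonoidAlgebra k G) : Prop where
  pgroup : IsPGroup p R
  le : Q ≤ R
  le_T : R ≤ T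
  block : IsBlockIdem (cz R) h
  cover : brMap k R f * h = h

/-- `D` is a defect group of the setting. -/
structure IsDefect (p : ℕ) (Q : Subgroup G) (f : MonoidAlgebra k G) (T D : Subgroup G) : Prop where
  pgroup : IsPGroup p D
  le : Q ≤ D
  le_T : D ≤ T
  inTr : InTr Q D T f
  br_ne : brMap k D f ≠ 0

/-- Normal inclusion of algebraic Brauer pairs. -/
structure NormalSub (p : ℕ) (a b : Subgroup G × MonoidAlgebra k G) : Prop where
  pgroup_left : IsPGroup p a.1
  pgroup_right : IsPGroup p b.1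
  block_left : IsBlockIdem (cz a.1) a.2
  block_right : IsBlockIdem (cz b.1) b.2
  le : a.1 ≤ b.1
  le_norm : b.1 ≤ Subgroup.normalizer (a.1 : Set G)
  fixed : a.2 ∈ fixAlg k b.1
  cover : brMap k b.1 a.2 * b.2 = b.2

/-- Inclusion of algebraic Brauer pairs. -/
def PairLE (p : ℕ) : Subgroup G × MonoidAlgebra k G → Subgroup G × MonoidAlgebra k G → Prop :=
  Relation.ReflTransGen (NormalSub p)

/-- Conjugate of a pair. -/
noncomputable def conjPair (g : G) (a : Subgroup G × MonoidAlgebra k G) :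
    Subgroup G × MonoidAlgebra k G :=
  (a.1.map (MulAut.conj g).toMonoidHom, conjA g a.2)

theorem conjPair_mul (g h : G) (a : Subgroup G × MonoidAlgebra k G) :
    conjPair (g * h) a = conjPair g (conjPair h a) := by
  refine Prod.ext ?_ (conjA_mul_left g h a.2)
  show a.1.map _ = (a.1.map _).map _
  rw [Subgroup.map_map]
  congr 1
  ext x
  simp [mul_assoc]

theorem conjPair_one (a : Subgroup G × MonoidAlgebra k G) : conjPair (1 : G) a = a := by
  refine Prod.ext ?_ (conjA_one_left a.2)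
  ext x
  simp [conjPair, Subgroup.mem_map]

theorem NormalSub.conj {p : ℕ} {a b : Subgroup G × MonoidAlgebra k G} (h : NormalSub p a b)
    (g : G) : NormalSub p (conjPair g a) (conjPair g b) where
  pgroup_left := h.pgroup_left.map _
  pgroup_right := h.pgroup_right.map _
  block_left := by show IsBlockIdem (cz (a.1.map _)) _; rw [cz_map_conj]; exact h.block_left.conjA g
  block_right := by show IsBlockIdem (cz (b.1.map _)) _; rw [cz_map_conj]; exact h.block_right.conjA g
  le := Subgroup.map_mono h.le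
  le_norm := by
    rintro _ ⟨x, hx, rfl⟩ y
    have hn := h.le_norm hx
    simp only [conjPair, SetLike.mem_coe, Subgroup.mem_map, MulEquiv.coe_toMonoidHom,
      MulAut.conj_apply]
    constructor
    · rintro ⟨z, hz, rfl⟩
      exact ⟨x * z * x⁻¹, (hn z).1 hz, by simp [mul_assoc]⟩
    · rintro ⟨z, hz, hzy⟩
      refine ⟨x⁻¹ * z * x, (hn _).2 (by simpa [mul_assoc] using hz), ?_⟩
      have h2 := congrArg (fun w => g * x⁻¹ * g⁻¹ * w * (g * x * g⁻¹)) hzy
      simpa [mul_assoc] using h2
  fixed := conjA_mem_fixAlg h.fixed g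
  cover := by
    show brMap k (b.1.map _) (conjA g a.2) * conjA g b.2 = conjA g b.2
    rw [← conjA_brMap, ← conjA_mul, h.cover]

theorem PairLE.conj {p : ℕ} {a b : Subgroup G × MonoidAlgebra k G} (h : PairLE p a b) (g : G) :
    PairLE p (conjPair g a) (conjPair g b) :=
  Relation.ReflTransGen.lift (conjPair g) (fun _ _ h => NormalSub.conj h g) _ _ h

theorem PairLE.le {p : ℕ} {a b : Subgroup G × MonoidAlgebra k G} (h : PairLE p a b) :
    a.1 ≤ b.1 := by
  induction h with
  | refl => exact le_rfl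
  | tail _ h2 ih => exact ih.trans h2.le

variable [Fintype G] {p : ℕ} {Q T : Subgroup G} {f : MonoidAlgebra k G}

theorem InTr.mem_fixAlg {R : Subgroup G} {z : MonoidAlgebra k G} (h : InTr Q R T z) :
    z ∈ fixAlg k T := by
  obtain ⟨a, -, ha, rfl⟩ := h
  exact relTr_mem_fixAlg ha

theorem InTr.mem_suppAlg (hT : T ≤ Subgroup.normalizer (Q : Set G)) {R : Subgroup G}
    {z : MonoidAlgebra k G} (h : InTr Q R T z) : z ∈ suppAlg k (cz Q) := by
  obtain ⟨a, ha, -, rfl⟩ := h
  exact relTr_mem_suppAlg (hT.trans (normalizer_le_normalizer_cz Q)) ha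

theorem InTr.mul_left {R : Subgroup G} (hRT : R ≤ T) {w z : MonoidAlgebra k G}
    (hws : w ∈ suppAlg k (cz Q)) (hwf : w ∈ fixAlg k T) (h : InTr Q R T z) :
    InTr Q R T (w * z) := by
  obtain ⟨a, ha, ha', rfl⟩ := h
  exact ⟨w * a, Subalgebra.mul_mem _ hws ha, Subalgebra.mul_mem _ (fixAlg_anti hRT hwf) ha',
    (relTr_mul_left hwf a).symm⟩

namespace BrSetup

variable (hS : BrSetup p Q f T)
include hS

omit [Fintype G] in
theorem locally_fixed {z : MonoidAlgebra k G} (hzs : z ∈ suppAlg k (cz Q))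
    (hzf : z ∈ fixAlg k T) : ∃ c : k, IsNilpotent (z * f - c • f) :=
  hS.block.locally z hzs (fixAlg_anti hS.cz_le hzf)

/-- If the product of a trace with `f` is not nilpotent, then `f` is such a trace. -/
theorem inTr_of_not_nilpotent {R : Subgroup G} (hRT : R ≤ T) {z : MonoidAlgebra k G}
    (hz : InTr Q R T z) (hn : ¬ IsNilpotent (z * f)) : InTr Q R T f := by
  have hzs := hz.mem_suppAlg hS.le_norm
  have hzf := hz.mem_fixAlg
  obtain ⟨c, hc⟩ := hS.locally_fixed hzs hzf
  have hc0 : c ≠ 0 := fun h => hn (by simpa [h] using hc)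
  set u := c⁻¹ • (z * f - c • f) with hu
  obtain ⟨m, hm⟩ := IsNilpotent.smul hc c⁻¹
  rw [← hu] at hm
  have hus : u ∈ suppAlg k (cz Q) := Subalgebra.smul_mem _ (Subalgebra.sub_mem _
    (Subalgebra.mul_mem _ hzs hS.block.supp) (Subalgebra.smul_mem _ hS.block.supp c)) _
  have huf : u ∈ fixAlg k T := Subalgebra.smul_mem _ (Subalgebra.sub_mem _
    (Subalgebra.mul_mem _ hzf hS.fixed) (Subalgebra.smul_mem _ hS.fixed c)) _
  have hzfc : c⁻¹ • (z * f) = f + u := by
    rw [hu, smul_sub, smul_smul, inv_mul_cancel₀ hc0, one_smul]; abel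
  set w := ∑ i ∈ Finset.range m, (-u) ^ i with hw
  have hw1 : w * (1 + u) = 1 := by
    have := geom_sum_mul_neg (-u) m
    rw [sub_neg_eq_add, neg_pow u m, hm, mul_zero, sub_zero] at this
    exact this
  have hws : w ∈ suppAlg k (cz Q) :=
    Subalgebra.sum_mem _ fun i _ => Subalgebra.pow_mem _ (Subalgebra.neg_mem _ hus) i
  have hwf : w ∈ fixAlg k T :=
    Subalgebra.sum_mem _ fun i _ => Subalgebra.pow_mem _ (Subalgebra.neg_mem _ huf) i
  have hcomm : z * f = f * z := (commute_of_supp_fix hzs (fixAlg_anti hS.cz_le hS.fixed)).eq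
  have huf' : u * f = u := by
    rw [hu, smul_mul_assoc, sub_mul, mul_assoc, hS.block.idem, smul_mul_assoc, hS.block.idem]
  have hfin : f = (c⁻¹ • (w * f)) * z := by
    rw [smul_mul_assoc, mul_assoc, ← hcomm, ← mul_smul_comm, hzfc]
    calc f = (w * (1 + u)) * f := by rw [hw1, one_mul]
      _ = w * (f + u) := by rw [mul_assoc, add_mul, one_mul, huf']
  rw [hfin]
  exact hz.mul_left hRT (Subalgebra.smul_mem _ (Subalgebra.mul_mem _ hws hS.block.supp) _)
    (Subalgebra.smul_mem _ (Subalgebra.mul_mem _ hwf hS.fixed) _)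

/-- Rosenberg's lemma. -/
theorem rosenberg (P : Subgroup G → Prop) (hP : ∀ S, P S → S ≤ T)
    (h : f ∈ AddSubmonoid.closure {z : MonoidAlgebra k G | ∃ S, P S ∧ InTr Q S T z}) :
    ∃ S, P S ∧ InTr Q S T f := by
  by_contra hcon
  simp only [not_exists, not_and] at hcon
  have key : ∀ z ∈ AddSubmonoid.closure {z : MonoidAlgebra k G | ∃ S, P S ∧ InTr Q S T z},
      z ∈ suppAlg k (cz Q) ∧ z ∈ fixAlg k T ∧ IsNilpotent (z * f) := by
    intro z hz
    induction hz using AddSubmonoid.closure_induction with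
    | mem z hz =>
      obtain ⟨S, hPS, hzS⟩ := hz
      exact ⟨hzS.mem_suppAlg hS.le_norm, hzS.mem_fixAlg,
        not_not.1 fun hn => hcon S hPS (hS.inTr_of_not_nilpotent (hP S hPS) hzS hn)⟩
    | zero => exact ⟨Subalgebra.zero_mem _, Subalgebra.zero_mem _, by simp⟩
    | add x y _ _ hx hy =>
      refine ⟨Subalgebra.add_mem _ hx.1 hy.1, Subalgebra.add_mem _ hx.2.1 hy.2.1, ?_⟩
      rw [add_mul]
      exact (commute_of_supp_fix (Subalgebra.mul_mem _ hx.1 hS.block.supp)
        (fixAlg_anti hS.cz_le (Subalgebra.mul_mem _ hy.2.1 hS.fixed))).isNilpotent_add hx.2.2 hy.2.2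
  obtain ⟨-, -, hn⟩ := key f h
  exact hS.block.ne_zero (eq_zero_of_nilpotent_mul hn (by rw [hS.block.idem, hS.block.idem]))

omit [Fintype G] in
theorem brMap_fixed {R : Subgroup G} (hRT : R ≤ T) :
    brMap k R f ∈ fixAlg k (T ⊓ Subgroup.normalizer (R : Set G)) :=
  brMap_mem_fixAlg inf_le_right (fixAlg_anti inf_le_left hS.fixed)

omit [Fintype G] in
theorem cz_le_inf {R : Subgroup G} (hQR : Q ≤ R) :
    cz R ≤ T ⊓ Subgroup.normalizer (R : Set G) :=
  le_inf ((cz_anti hQR).trans hS.cz_le) (cz_le_normalizer R)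

omit [Fintype G] in
theorem setup_stab {R : Subgroup G} {h : MonoidAlgebra k G} (hR : OverPair p Q f T R h) :
    BrSetup p R h (T ⊓ pairStab R h) where
  pgroup := hR.pgroup
  block := hR.block
  le_norm _ ht := ht.2.1
  cz_le := le_inf ((cz_anti hR.le).trans hS.cz_le)
    fun _ hc => ⟨cz_le_normalizer R hc, hR.block.fixed _ hc⟩
  le := le_inf hR.le_T fun r hr =>
    ⟨Subgroup.le_normalizer hr, fixed_of_supp_cz hR.block.supp r hr⟩
  fixed _ ht := ht.2.2

variable [CharP k p] [Fact p.Prime]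

/-- Defect groups exist. -/
theorem exists_isDefect : ∃ D, IsDefect p Q f T D := by
  classical
  have hQp : IsPGroup p (Q.subgroupOf T) := hS.pgroup.comap_of_injective _ T.subtype_injective
  obtain ⟨S0, hS0⟩ := hQp.exists_le_sylow
  set S : Subgroup G := (S0 : Subgroup T).map T.subtype with hSdef
  have hSp : IsPGroup p S := S0.2.map _
  have hSle : S ≤ T := Subgroup.map_subtype_le _
  have hQS : Q ≤ S := fun q hq => ⟨⟨q, hS.le hq⟩, hS0 hq, rfl⟩
  have hidx : ((S.relIndex T : ℕ) : k) ≠ 0 := by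
    rw [Ne, CharP.cast_eq_zero_iff k p, Subgroup.relIndex, hSdef, Subgroup.subgroupOf,
      Subgroup.comap_map_eq_self_of_injective T.subtype_injective]
    exact S0.not_dvd_index
  have hTrS : InTr Q S T f := by
    refine ⟨((S.relIndex T : ℕ) : k)⁻¹ • f, Subalgebra.smul_mem _ hS.block.supp _,
      Subalgebra.smul_mem _ (fixAlg_anti hSle hS.fixed) _, ?_⟩
    rw [relTr_smul, relTr_of_fixed hS.fixed, smul_smul, inv_mul_cancel₀ hidx, one_smul]
  have hex : ∃ n, ∃ D : Subgroup G, Nat.card D = n ∧ IsPGroup p D ∧ Q ≤ D ∧ D ≤ T ∧ InTr Q D T f :=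
    ⟨_, S, rfl, hSp, hQS, hSle, hTrS⟩
  obtain ⟨D, hDn, hDp, hQD, hDT, hTr⟩ := Nat.find_spec hex
  refine ⟨D, hDp, hQD, hDT, hTr, fun hbr => ?_⟩
  obtain ⟨a, has, haf, hfa⟩ := hTr
  have hclos : f ∈ AddSubmonoid.closure
      {z : MonoidAlgebra k G | ∃ S, (Q ≤ S ∧ S < D) ∧ InTr Q S T z} := by
    set C := AddSubmonoid.closure
      {z : MonoidAlgebra k G | ∃ S, (Q ≤ S ∧ S < D) ∧ InTr Q S T z}
    let J : AddSubmonoid (MonoidAlgebra k G) :=
      { carrier := {y | y ∈ suppAlg k (cz Q) ∧ y ∈ fixAlg k D ∧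
          relTr k D T (y * a) ∈ C}
        zero_mem' := ⟨Subalgebra.zero_mem _, Subalgebra.zero_mem _,
          by rw [zero_mul, relTr_zero]; exact C.zero_mem⟩
        add_mem' := fun {x y} hx hy => ⟨Subalgebra.add_mem _ hx.1 hy.1,
          Subalgebra.add_mem _ hx.2.1 hy.2.1,
          by rw [add_mul, relTr_add]; exact C.add_mem hx.2.2 hy.2.2⟩ }
    have hfJ : f ∈ J := mem_of_brMap_eq_zero hQD
      (hDT.trans hS.le_norm) J (fun S hQS' hSD b hbs hbf => by
        have hbn : b * a ∈ fixAlg k S := Subalgebra.mul_mem _ hbf (fixAlg_anti hSD.le haf)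
        have hbt : relTr k S D b * a = relTr k S D (b * a) := relTr_mul_right haf b
        refine ⟨relTr_mem_suppAlg
          ((hDT.trans hS.le_norm).trans (normalizer_le_normalizer_cz Q)) hbs,
          relTr_mem_fixAlg hbf, AddSubmonoid.subset_closure ⟨S, ⟨hQS', hSD⟩,
          b * a, Subalgebra.mul_mem _ hbs has, hbn, ?_⟩⟩
        rw [hbt, relTr_relTr hSD.le hDT hbn])
      hS.block.supp (fixAlg_anti hDT hS.fixed) hbr
    have h2 := hfJ.2.2
    rwa [← relTr_mul_left hS.fixed, hfa, hS.block.idem] at h2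
  obtain ⟨S', ⟨hQS', hS'D⟩, hS'⟩ := hS.rosenberg (fun S => Q ≤ S ∧ S < D)
    (fun S hh => hh.2.le.trans hDT) hclos
  have hlt : Nat.card S' < Nat.find hex := hDn ▸
    lt_of_le_of_ne (Subgroup.card_le_of_le hS'D.le)
      (fun h => hS'D.ne (Subgroup.eq_of_le_of_card_ge hS'D.le h.ge))
  exact Nat.find_min hex hlt ⟨S', rfl, hDp.to_le hS'D.le, hQS', hS'D.le.trans hDT, hS'⟩

/-- A `p`-subgroup whose Brauer map does not kill `f` lies in a conjugate of any subgroup from
which `f` is a trace. -/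
theorem exists_le_conj {D R : Subgroup G} (hD : InTr Q D T f) (hRp : IsPGroup p R)
    (hRT : R ≤ T) (hbr : brMap k R f ≠ 0) :
    ∃ t ∈ T, R ≤ D.map (MulAut.conj t).toMonoidHom := by
  by_contra hcon
  simp only [not_exists, not_and] at hcon
  obtain ⟨a, -, ha, hfa⟩ := hD
  exact hbr (by rw [← hfa]; exact brMap_relTr_eq_zero hRp hRT ha hcon)

theorem brMap_ne_zero {R : Subgroup G} {h : MonoidAlgebra k G} (hR : OverPair p Q f T R h) :
    brMap k R f ≠ 0 := fun h0 => hR.block.ne_zero (by rw [← hR.cover, h0, zero_mul])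

/-- Defect groups are conjugate. -/
theorem isDefect_conj {D D' : Subgroup G} (hD : IsDefect p Q f T D) (hD' : IsDefect p Q f T D') :
    ∃ t ∈ T, D' = D.map (MulAut.conj t).toMonoidHom := by
  obtain ⟨t, ht, hle⟩ := hS.exists_le_conj hD.inTr hD'.pgroup hD'.le_T hD'.br_ne
  obtain ⟨t', -, hle'⟩ := hS.exists_le_conj hD'.inTr hD.pgroup hD.le_T hD.br_ne
  refine ⟨t, ht, Subgroup.eq_of_le_of_card_ge hle ?_⟩
  calc Nat.card (D.map (MulAut.conj t).toMonoidHom) = Nat.card D :=
        Subgroup.card_map_of_injective (MulAut.conj t).injective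
    _ ≤ Nat.card (D'.map (MulAut.conj t').toMonoidHom) := Subgroup.card_le_of_le hle'
    _ = Nat.card D' := Subgroup.card_map_of_injective (MulAut.conj t').injective

/-- A pair whose subgroup is not a defect group extends to a larger one. -/
theorem exists_bigger (hk : HasBlocks k G) {R : Subgroup G} {h : MonoidAlgebra k G}
    (hR : OverPair p Q f T R h) (hno : ¬ InTr Q R T f) :
    ∃ S h', R < S ∧ OverPair p Q f T S h' ∧ NormalSub p (R, h) (S, h') := by
  classical
  have hS' := hS.setup_stab hR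
  obtain ⟨S, hD⟩ := hS'.exists_isDefect
  have hST : S ≤ T := hD.le_T.trans inf_le_left
  have hSN : S ≤ Subgroup.normalizer (R : Set G) := hD.le_T.trans (fun _ ht => ht.2.1)
  by_cases hSR : S = R
  · exfalso
    subst hSR
    obtain ⟨a, has, haf, hha⟩ := hD.inTr
    set N := T ⊓ Subgroup.normalizer (S : Set G) with hN
    set E := relTr k (T ⊓ pairStab S h) N h with hE
    set z := relTr k S T a with hz
    have hstN : T ⊓ pairStab S h ≤ N := inf_le_inf_left T fun _ ht => ht.1
    have hzTr : InTr Q S T z := ⟨a, suppAlg_mono (cz_anti hR.le) has, haf, rfl⟩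
    have hbrz : brMap k S z = E := by
      rw [hz, brMap_relTr_self hR.pgroup hR.le_T haf, brMap_eq_self has, hE,
        ← relTr_relTr hD.le_T hstN haf, hha]
    have hEh : E * h = h := by
      rw [hE, relTr_eq_sum, Finset.sum_mul,
        Finset.sum_eq_single (QuotientGroup.mk 1 : N ⧸ (T ⊓ pairStab S h).subgroupOf N)]
      · rw [conjA_out_eq hS'.fixed, Subgroup.coe_one, conjA_one_left, hR.block.idem]
      · intro q _ hq
        have hblk := hR.block.conjA ((q.out : N) : G)
        rw [map_conj_eq_self (normalizer_le_normalizer_cz S (q.out).2.2)] at hblk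
        refine hblk.mul_eq_zero hR.block fun heq => hq ?_
        conv_lhs => rw [← QuotientGroup.out_eq' q]
        rw [QuotientGroup.eq, Subgroup.mem_subgroupOf, mul_one]
        exact Subgroup.inv_mem _ ⟨(q.out).2.1, (q.out).2.2, heq⟩
      · exact fun h' => absurd (Finset.mem_univ _) h'
    refine hno (hS.inTr_of_not_nilpotent hR.le_T hzTr fun hn => hR.block.ne_zero ?_)
    obtain ⟨n, hn⟩ := hn
    have hfS : f ∈ fixAlg k S := fixAlg_anti hR.le_T hS.fixed
    have hzS : z ∈ fixAlg k S := fixAlg_anti hR.le_T hzTr.mem_fixAlg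
    refine eq_zero_of_nilpotent_mul (a := brMap k S (z * f)) ⟨n, ?_⟩ ?_
    · rw [← brMap_pow hR.pgroup (Subalgebra.mul_mem _ hzS hfS), hn, map_zero]
    · rw [brMap_mul hR.pgroup hzS hfS, hbrz, mul_assoc, hR.cover, hEh]
  · have hlt : R < S := lt_of_le_of_ne hD.le (Ne.symm hSR)
    have hfix : h ∈ fixAlg k S := fixAlg_anti hD.le_T hS'.fixed
    have hbr_fix : brMap k S h ∈ fixAlg k (cz S) :=
      brMap_mem_fixAlg (cz_le_normalizer S) (fixAlg_anti (cz_anti hD.le) hR.block.fixed)
    obtain ⟨h', hh', hcov⟩ := exists_block_le hk (brMap_mem_suppAlg S h) hbr_fix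
      (by rw [← brMap_mul hD.pgroup hfix hfix, hR.block.idem]) hD.br_ne
    refine ⟨S, h', hlt, ⟨hD.pgroup, hR.le.trans hD.le, hST, hh', ?_⟩,
      ⟨hR.pgroup, hD.pgroup, hR.block, hh', hD.le, hSN, hfix, hcov⟩⟩
    have hbrRf : brMap k R f ∈ fixAlg k S := fixAlg_anti (le_inf hST hSN) (hS.brMap_fixed hR.le_T)
    have hbh : brMap k S f * brMap k S h = brMap k S h := by
      conv_lhs => rw [← brMap_brMap_of_le hD.le f]
      rw [← brMap_mul hD.pgroup hbrRf hfix, hR.cover]
    calc brMap k S f * h' = brMap k S f * (brMap k S h * h') := by rw [hcov]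
      _ = h' := by rw [← mul_assoc, hbh, hcov]

/-- Every pair lies below a pair on a defect group. -/
theorem exists_le_defect (hk : HasBlocks k G) {R : Subgroup G} {h : MonoidAlgebra k G}
    (hR : OverPair p Q f T R h) :
    ∃ D h', IsDefect p Q f T D ∧ OverPair p Q f T D h' ∧ PairLE p (R, h) (D, h') := by
  induction hn : Nat.card G - Nat.card R using Nat.strong_induction_on generalizing R h with
  | _ n ih =>
    by_cases htr : InTr Q R T f
    · exact ⟨R, h, ⟨hR.pgroup, hR.le, hR.le_T, htr, hS.brMap_ne_zero hR⟩, hR,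
        Relation.ReflTransGen.refl⟩
    · obtain ⟨S, h', hlt, hover, hstep⟩ := hS.exists_bigger hk hR htr
      have h1 : Nat.card R < Nat.card S := lt_of_le_of_ne (Subgroup.card_le_of_le hlt.le)
        fun hh => hlt.ne (Subgroup.eq_of_le_of_card_ge hlt.le hh.ge)
      have h2 : Nat.card S ≤ Nat.card G := Subgroup.card_le_card_group S
      obtain ⟨D, h'', hD, hover', hle⟩ := ih _ (by omega) hover rfl
      exact ⟨D, h'', hD, hover', Relation.ReflTransGen.head hstep hle⟩

/-- Pairs on one defect group are conjugate under its normaliser. -/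
theorem exists_conj_eq {D : Subgroup G} (hD : IsDefect p Q f T D) {h₁ h₂ : MonoidAlgebra k G}
    (h1 : OverPair p Q f T D h₁) (h2 : OverPair p Q f T D h₂) :
    ∃ n ∈ T ⊓ Subgroup.normalizer (D : Set G), conjA n h₁ = h₂ := by
  classical
  by_contra hcon
  simp only [not_exists, not_and] at hcon
  obtain ⟨a, has, haf, hfa⟩ := hD.inTr
  set N := T ⊓ Subgroup.normalizer (D : Set G) with hN
  set E := relTr k (T ⊓ pairStab D h₁) N h₁ with hE
  have hstab : h₁ ∈ fixAlg k (T ⊓ pairStab D h₁) := fun t ht => ht.2.2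
  have hEN : E ∈ fixAlg k N := relTr_mem_fixAlg hstab
  have hEs : E ∈ suppAlg k (cz D) :=
    relTr_mem_suppAlg (inf_le_right.trans (normalizer_le_normalizer_cz D)) h1.block.supp
  have hblk : ∀ q : N, IsBlockIdem (cz D) (conjA (q : G) h₁) := fun q => by
    have hb := h1.block.conjA (q : G)
    rwa [map_conj_eq_self (normalizer_le_normalizer_cz D q.2.2)] at hb
  have hEh1 : E * h₁ = h₁ := by
    rw [hE, relTr_eq_sum, Finset.sum_mul,
      Finset.sum_eq_single (QuotientGroup.mk 1 : N ⧸ (T ⊓ pairStab D h₁).subgroupOf N)]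
    · rw [conjA_out_eq hstab, Subgroup.coe_one, conjA_one_left, h1.block.idem]
    · intro q _ hq
      refine (hblk q.out).mul_eq_zero h1.block fun heq => hq ?_
      conv_lhs => rw [← QuotientGroup.out_eq' q]
      rw [QuotientGroup.eq, Subgroup.mem_subgroupOf, mul_one]
      exact Subgroup.inv_mem _ ⟨(q.out).2.1, (q.out).2.2, heq⟩
    · exact fun h' => absurd (Finset.mem_univ _) h'
  have hEh2 : E * h₂ = 0 := by
    rw [hE, relTr_eq_sum, Finset.sum_mul]
    exact Finset.sum_eq_zero fun q _ => (hblk q.out).mul_eq_zero h2.block (hcon _ (q.out).2)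
  have hDN : D ≤ N := le_inf hD.le_T Subgroup.le_normalizer
  set a' := E * brMap k D a with ha'
  have ha's : a' ∈ suppAlg k (cz D) := Subalgebra.mul_mem _ hEs (brMap_mem_suppAlg D a)
  have ha'f : a' ∈ fixAlg k D :=
    Subalgebra.mul_mem _ (fixAlg_anti hDN hEN) (brMap_mem_fixAlg Subgroup.le_normalizer haf)
  set z := relTr k D T a' with hz
  have hzTr : InTr Q D T z := ⟨a', suppAlg_mono (cz_anti hD.le) ha's, ha'f, rfl⟩
  have hbrz : brMap k D z = E * brMap k D f := by
    rw [hz, brMap_relTr_self hD.pgroup hD.le_T ha'f, brMap_eq_self ha's, ha', ← relTr_mul_left hEN,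
      ← hfa, brMap_relTr_self hD.pgroup hD.le_T haf]
  obtain ⟨c, n, hn⟩ := hS.locally_fixed (hzTr.mem_suppAlg hS.le_norm) hzTr.mem_fixAlg
  have hfD : f ∈ fixAlg k D := fixAlg_anti hD.le_T hS.fixed
  have hzD : z ∈ fixAlg k D := fixAlg_anti hD.le_T hzTr.mem_fixAlg
  set Y := brMap k D (z * f - c • f) with hY
  have hYn : Y ^ n = 0 := by
    rw [hY, ← brMap_pow hD.pgroup (Subalgebra.sub_mem _ (Subalgebra.mul_mem _ hzD hfD)
      (Subalgebra.smul_mem _ hfD c)), hn, map_zero]
  have hY' : ∀ h : MonoidAlgebra k G, brMap k D f * h = h → Y * h = E * h - c • h := by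
    intro h hh
    rw [hY, map_sub, map_smul, brMap_mul hD.pgroup hzD hfD, hbrz, sub_mul, smul_mul_assoc, hh,
      mul_assoc, mul_assoc, hh, hh]
  have hY2 : Y * h₂ = (-c) • h₂ := by rw [hY' h₂ h2.cover, hEh2, zero_sub, neg_smul]
  have hc0 : c = 0 := by
    by_contra hc
    have hpow : ∀ m : ℕ, Y ^ m * h₂ = (-c) ^ m • h₂ := fun m => by
      induction m with
      | zero => simp
      | succ m ih => rw [pow_succ, mul_assoc, hY2, mul_smul_comm, ih, smul_smul, pow_succ']
    have h := hpow n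
    rw [hYn, zero_mul] at h
    exact h2.block.ne_zero
      ((smul_eq_zero.1 h.symm).resolve_left (pow_ne_zero _ (neg_ne_zero.2 hc)))
  exact h1.block.ne_zero (eq_zero_of_nilpotent_mul ⟨n, hYn⟩
    (by rw [hY' h₁ h1.cover, hEh1, hc0, zero_smul, sub_zero]))

omit [Fintype G] [CharP k p] [Fact p.Prime] in
theorem overPair_conj {R : Subgroup G} {h : MonoidAlgebra k G} (hR : OverPair p Q f T R h) {t : G}
    (ht : t ∈ T) :
    OverPair p Q f T (R.map (MulAut.conj t).toMonoidHom) (conjA t h) where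
  pgroup := hR.pgroup.map _
  le := (map_conj_eq_self (hS.le_norm ht)).ge.trans (Subgroup.map_mono hR.le)
  le_T := by
    rintro _ ⟨r, hr, rfl⟩
    exact T.mul_mem (T.mul_mem ht (hR.le_T hr)) (T.inv_mem ht)
  block := by rw [cz_map_conj]; exact hR.block.conjA t
  cover := by
    conv_lhs => rw [← hS.fixed t ht]
    rw [← conjA_brMap, ← conjA_mul, hR.cover]

/-- Every pair is conjugate to one below a given pair on a defect group. -/
theorem exists_conj_le (hk : HasBlocks k G) {R D : Subgroup G} {h hD' : MonoidAlgebra k G}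
    (hR : OverPair p Q f T R h) (hD : IsDefect p Q f T D) (hpair : OverPair p Q f T D hD') :
    ∃ t ∈ T, PairLE p (conjPair t (R, h)) (D, hD') := by
  obtain ⟨D₁, h₁, hD₁, hover₁, hle⟩ := hS.exists_le_defect hk hR
  obtain ⟨t, ht, hDt⟩ := hS.isDefect_conj hD₁ hD
  have h2 : OverPair p Q f T D (conjA t h₁) := hDt ▸ hS.overPair_conj hover₁ ht
  obtain ⟨n, hn, hnh⟩ := hS.exists_conj_eq hD h2 hpair
  refine ⟨n * t, T.mul_mem hn.1 ht, ?_⟩
  have h3 : conjPair (n * t) (D₁, h₁) = (D, hD') := by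
    rw [conjPair_mul]
    refine Prod.ext ?_ hnh
    show (D₁.map _).map _ = D
    rw [← hDt, map_conj_eq_self hn.2]
  exact h3 ▸ hle.conj (n * t)

/-- A pair of maximal order is on a defect group. -/
theorem isDefect_of_maximal (hk : HasBlocks k G) {R : Subgroup G} {h : MonoidAlgebra k G}
    (hR : OverPair p Q f T R h)
    (hmax : ∀ S h', OverPair p Q f T S h' → PairLE p (R, h) (S, h') → S = R) :
    IsDefect p Q f T R := by
  obtain ⟨D, h', hD, hover, hle⟩ := hS.exists_le_defect hk hR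
  exact hmax D h' hover hle ▸ hD

end BrSetup

end CfsgLib.BrauerPairs
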