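import Cfsg.Prelude.Def_BrauerPairs
import Cfsg.Agent.Lib.Characters.Basic
import Cfsg.Agent.Lib.CharCorr.Basic
import Cfsg.Agent.Lib.BrauerPairs.Setup

/-!
# Blocks under isomorphisms and conjugation
-/

namespace CfsgLib.BrauerPairs

open Cfsg CfsgLib.CharCorr

section Equiv

variable {A : Type*} [Group A] {B : Type*} [Group B]

theorem twistIrr_injective (e : A ≃* B) : Function.Injective (twistIrr e) := by
  intro χ ψ h
  refine Subtype.ext (funext fun b => ?_)
  have := congrArg (fun θ : IrrCharacter A => (θ : A → ℂ) (e.symm b)) h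
  simpa using this

theorem twistIrr_symm (e : A ≃* B) (χ : IrrCharacter A) :
    twistIrr e (twistIrr e.symm χ) = χ := by
  ext a; simp

theorem index_centralizer_equiv (e : A ≃* B) (a : A) :
    (Subgroup.centralizer ({e a} : Set B)).index = (Subgroup.centralizer ({a} : Set A)).index := by
  have : (Subgroup.centralizer ({e a} : Set B)).comap e.toMonoidHom =
      Subgroup.centralizer ({a} : Set A) := by
    ext x
    simp only [Subgroup.mem_comap, Subgroup.mem_centralizer_iff, Set.mem_singleton_iff, forall_eq]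
    show e a * e x = e x * e a ↔ _
    rw [← map_mul, ← map_mul]
    exact e.injective.eq_iff
  rw [← this, Subgroup.index_comap_of_surjective]
  exact e.surjective

theorem centralChar_twist (e : A ≃* B) (χ : B → ℂ) (a : A) :
    centralChar (fun x => χ (e x)) a = centralChar χ (e a) := by
  simp [centralChar, index_centralizer_equiv]

theorem sameBlock_twist_iff (M : Ideal AlgInt) (e : A ≃* B) (χ ψ : B → ℂ) :
    SameBlock M (fun x => χ (e x)) (fun x => ψ (e x)) ↔ SameBlock M χ ψ := by
  constructor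
  · intro h b
    have := h (e.symm b)
    rw [centralChar_twist, centralChar_twist, e.apply_symm_apply] at this
    exact this
  · intro h a
    rw [centralChar_twist, centralChar_twist]
    exact h (e a)

theorem twist_blockOf (M : Ideal AlgInt) (e : A ≃* B) (χ : IrrCharacter B) :
    twistIrr e '' blockOf M (χ : B → ℂ) = blockOf M (twistIrr e χ : A → ℂ) := by
  ext ψ
  simp only [Set.mem_image, blockOf, Set.mem_ofPred_eq]
  constructor
  · rintro ⟨θ, hθ, rfl⟩
    exact (sameBlock_twist_iff M e _ _).2 hθ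
  · intro h
    refine ⟨twistIrr e.symm ψ, (sameBlock_twist_iff M e _ _).1 ?_, twistIrr_symm e ψ⟩
    rw [← twistIrr_symm e ψ] at h
    exact h

theorem isPBlock_twist {M : Ideal AlgInt} (e : A ≃* B) {s : Set (IrrCharacter B)}
    (hs : IsPBlock M s) : IsPBlock M (twistIrr e '' s) := by
  obtain ⟨χ, rfl⟩ := hs
  exact ⟨twistIrr e χ, twist_blockOf M e χ⟩

theorem blockCoeff_twist [Finite A] (e : A ≃* B) (s : Set (IrrCharacter B)) (a : A) :
    blockCoeff (twistIrr e '' s) a = blockCoeff s (e a) := by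
  unfold blockCoeff
  rw [finsum_mem_image (twistIrr_injective e).injOn, Nat.card_congr e.toEquiv]
  simp

end Equiv

variable {G : Type*} [Group G]

/-- Conjugation `K' → K`, `k ↦ x⁻¹ k x`, when `K' = x K x⁻¹`. -/
def conjEquiv {K K' : Subgroup G} (x : G) (h : ∀ k, k ∈ K' ↔ x⁻¹ * k * x ∈ K) : K' ≃* K where
  toFun k := ⟨x⁻¹ * k * x, (h k).1 k.2⟩
  invFun k := ⟨x * k * x⁻¹, (h _).2 (by simp [mul_assoc])⟩
  left_inv k := Subtype.ext (by simp [mul_assoc])
  right_inv k := Subtype.ext (by simp [mul_assoc])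
  map_mul' a b := Subtype.ext (by simp [mul_assoc])

@[simp] theorem coe_conjEquiv {K K' : Subgroup G} (x : G) (h : ∀ k, k ∈ K' ↔ x⁻¹ * k * x ∈ K)
    (k : K') : ((conjEquiv x h k : K) : G) = x⁻¹ * k * x := rfl

theorem mem_normalizer_conj_iff {K : Subgroup G} {x : G}
    (hx : x ∈ Subgroup.normalizer (K : Set G)) (k : G) : k ∈ K ↔ x⁻¹ * k * x ∈ K := by
  have h := hx (x⁻¹ * k * x)
  simp only [SetLike.mem_coe] at h
  rw [h]; simp [mul_assoc]

theorem isConjCharOf_iff {K : Subgroup G} {x : G} (hx : x ∈ Subgroup.normalizer (K : Set G))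
    (χ χ' : IrrCharacter K) :
    IsConjCharOf K x (χ : K → ℂ) (χ' : K → ℂ) ↔
      χ' = twistIrr (conjEquiv x (mem_normalizer_conj_iff hx)) χ := by
  constructor
  · intro h
    ext k
    rw [twistIrr_apply]
    exact h _ k (by rw [coe_conjEquiv]; simp [mul_assoc])
  · rintro rfl k k' hk
    rw [twistIrr_apply]
    have hkk : conjEquiv x (mem_normalizer_conj_iff hx) k' = k :=
      Subtype.ext (by rw [coe_conjEquiv, hk]; group)
    rw [hkk]

theorem stabilizesBlock_iff [Finite G] {K : Subgroup G} {x : G} (f : Set (IrrCharacter K))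
    (hx : x ∈ Subgroup.normalizer (K : Set G)) :
    StabilizesBlock K f x ↔ twistIrr (conjEquiv x (mem_normalizer_conj_iff hx)) '' f = f := by
  have : Finite (IrrCharacter K) := Characters.instFiniteIrrCharacter
  constructor
  · rintro ⟨-, h⟩
    refine Set.eq_of_subset_of_ncard_le ?_ ?_ (Set.toFinite f)
    · rintro _ ⟨χ, hχ, rfl⟩
      obtain ⟨χ', hχ', hc⟩ := h χ hχ
      rw [← (isConjCharOf_iff hx χ χ').1 hc]
      exact hχ'
    · rw [Set.ncard_image_of_injective _ (twistIrr_injective _)]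
  · intro h
    exact ⟨hx, fun χ hχ => ⟨_, h ▸ Set.mem_image_of_mem _ hχ, (isConjCharOf_iff hx χ _).2 rfl⟩⟩

theorem mem_cz_map_conj_iff (Q : Subgroup G) (x k : G) :
    k ∈ cz (Q.map (MulAut.conj x).toMonoidHom) ↔ x⁻¹ * k * x ∈ cz Q := by
  rw [cz_map_conj, Subgroup.mem_map]
  constructor
  · rintro ⟨y, hy, rfl⟩; simpa [mul_assoc] using hy
  · intro h; exact ⟨_, h, by simp [mul_assoc]⟩

theorem conjBlock_eq (Q : Subgroup G) (x : G)
    (f : Set (IrrCharacter (Subgroup.centralizer (Q : Set G)))) :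
    conjBlock Q x f = twistIrr (conjEquiv x (mem_cz_map_conj_iff Q x)) '' f := by
  ext ξ'
  constructor
  · rintro ⟨ξ, hξ, h⟩
    refine ⟨ξ, hξ, ?_⟩
    ext k
    rw [twistIrr_apply]
    exact (h _ k (by rw [coe_conjEquiv]; simp [mul_assoc])).symm
  · rintro ⟨ξ, hξ, rfl⟩
    refine ⟨ξ, hξ, fun c c' hc => ?_⟩
    rw [twistIrr_apply]
    have hcc : conjEquiv x (mem_cz_map_conj_iff Q x) c' = c :=
      Subtype.ext (by rw [coe_conjEquiv, hc]; group)
    exact congrArg (ξ : _ → ℂ) hcc

theorem isPBlock_conjBlock {M : Ideal AlgInt} (Q : Subgroup G) (x : G)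
    {f : Set (IrrCharacter (Subgroup.centralizer (Q : Set G)))} (hf : IsPBlock M f) :
    IsPBlock M (conjBlock Q x f) :=
  conjBlock_eq Q x f ▸ isPBlock_twist _ hf

theorem subgroupBlockCoeff_twist [Finite G] {K K' : Subgroup G} (x : G)
    (h : ∀ k, k ∈ K' ↔ x⁻¹ * k * x ∈ K) (f : Set (IrrCharacter K)) (g : G) :
    subgroupBlockCoeff K' (twistIrr (conjEquiv x h) '' f) g =
      subgroupBlockCoeff K f (x⁻¹ * g * x) := by
  classical
  unfold subgroupBlockCoeff
  by_cases hg : g ∈ K'
  · rw [dif_pos hg, dif_pos ((h g).1 hg), blockCoeff_twist]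
    rfl
  · rw [dif_neg hg, dif_neg (fun h' => hg ((h g).2 h'))]

theorem subgroupBlockCoeff_conjBlock [Finite G] (Q : Subgroup G) (x g : G)
    (f : Set (IrrCharacter (Subgroup.centralizer (Q : Set G)))) :
    subgroupBlockCoeff (Subgroup.centralizer ((Q.map (MulAut.conj x).toMonoidHom : Subgroup G) :
      Set G)) (conjBlock Q x f) g =
      subgroupBlockCoeff (Subgroup.centralizer (Q : Set G)) f (x⁻¹ * g * x) := by
  rw [conjBlock_eq]
  exact subgroupBlockCoeff_twist x (mem_cz_map_conj_iff Q x) f g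

end CfsgLib.BrauerPairs
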