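import Cfsg.Agent.Lib.BrauerPairs.Bridge
import Cfsg.Agent.Lib.Blocks.BrauerMap
import Cfsg.Agent.Lib.Blocks.WeakOrth
import Cfsg.Agent.Lib.BlockCover.Basic

/-!
# The principal Brauer pairs
-/

set_option autoImplicit false

namespace CfsgLib.BrauerPairs

open Cfsg

variable {p : ℕ} [hp : Fact p.Prime] {M : Ideal AlgInt} {G : Type*} [Group G] [Finite G]

/-- The coefficients of the principal idempotent add up to one on the centraliser of a
`p`-subgroup, modulo the local ideal. -/
theorem sum_centralizer_blockCoeff_congr [Fintype G] (hM : IsPModular p M) {Q : Subgroup G}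
    (hQ : IsPGroup p Q) [Fintype (cz Q)] :
    MemLocalIdeal M (∑ x : cz Q, blockCoeff (principalBlock M G) (x : G) - 1) := by
  classical
  haveI : M.IsMaximal := hM.2.1
  have := charP_res (p := p) hM
  set B := principalBlock M G
  have hB : IsPBlock M B := Blocks.isPBlock_principalBlock M
  have hone : ∑ x : G, blockCoeff B x = 1 := by
    have h := Blocks.omega_blockIdem B (Characters.principalIrr G)
    have hmem : Characters.principalIrr G ∈ B := by
      simp only [B, Blocks.principalBlock_eq]
      exact Blocks.mem_blockOf_self hM (Characters.principalIrr G)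
    rw [if_pos hmem, Blocks.omega_apply] at h
    simpa using h
  let _ : MulAction Q G := MulAction.compHom G (MulAut.conj.comp Q.subtype)
  have hfix : ∀ x : G, x ∈ MulAction.fixedPoints Q G ↔ x ∈ cz Q := fun x => by
    rw [mem_cz_iff_conj]
    exact ⟨fun h q hq => h ⟨q, hq⟩, fun h q => h q q.2⟩
  have hA : ∀ a : ResK M, p • a = 0 := fun a => by
    rw [nsmul_eq_mul, CharP.cast_eq_zero, zero_mul]
  let f : G → Blocks.lRing hM := fun x => ⟨blockCoeff B x, blockCoeff_mem hM hB x⟩
  have h := BlockAlg.sum_eq_sum_fixed hA hQ (fun x => resK hM (f x)) fun q x => congrArg _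
    (Subtype.ext (blockCoeff_conj B q x))
  rw [← map_sum, ← map_sum] at h
  have hval : ∀ s : Finset G, ((∑ x ∈ s, f x : Blocks.lRing hM) : ℂ) = ∑ x ∈ s, blockCoeff B x :=
    fun s => by push_cast; rfl
  have h2 := (resK_eq_iff hM _ _).1 h.symm
  rw [hval, hval, hone] at h2
  rwa [← Finset.sum_subtype (Finset.univ.filter (· ∈ MulAction.fixedPoints Q G))
    (fun x => by simp [hfix]) (blockCoeff B)]

/-- The principal block of the centraliser of a `p`-subgroup gives a pair of the principal block. -/
theorem isBrauerPairOf_principalPair (hM : IsPModular p M) {Q : Subgroup G} (hQ : IsPGroup p Q) :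
    IsBrauerPairOf p M (principalBlock M G) Q (principalBlock M (cz Q)) := by
  classical
  have : Fintype G := Fintype.ofFinite G
  have : Fintype (cz Q) := Fintype.ofFinite _
  have hB : IsPBlock M (principalBlock M G) := Blocks.isPBlock_principalBlock M
  refine ⟨⟨hQ, Blocks.isPBlock_principalBlock M⟩, hB, fun ξ hξ => ?_⟩
  let z : MonoidAlgebra ℂ (cz Q) := Blocks.ofFun fun x => blockCoeff (principalBlock M G) (x : G)
  have hz : z ∈ Subalgebra.center ℂ (MonoidAlgebra ℂ (cz Q)) := by
    rw [Blocks.mem_center_iff_coeff]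
    intro g h
    simp only [z, Blocks.coeff_ofFun, Subgroup.coe_mul, Subgroup.coe_inv, blockCoeff_conj]
  have hR : ∀ x, MemLocalRing M (z.coeff x) := fun x => by
    simp only [z, Blocks.coeff_ofFun]
    exact Blocks.memLocalRing_blockCoeff hM hB _
  have hcongr := Blocks.omega_congr_of_sameBlock (χ := Characters.principalIrr (cz Q)) (ψ := ξ)
    hM hξ hz hR
  have h1 : Blocks.omega (Characters.principalIrr (cz Q) : cz Q → ℂ) z =
      ∑ x : cz Q, blockCoeff (principalBlock M G) (x : G) := by
    simp [z, Blocks.omega_apply]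
  have h2 : Blocks.omega (ξ : cz Q → ℂ) z =
      brauerOmega Q (blockCoeff (principalBlock M G)) (ξ : cz Q → ℂ) := by
    rw [brauerOmega, finsum_eq_sum_of_fintype, Blocks.omega_apply, Finset.sum_div]
    simp [z]
  rw [h1, h2] at hcongr
  have := Blocks.MemLocalIdeal.sub hM (sum_centralizer_blockCoeff_congr hM hQ) hcongr
  rwa [sub_sub_sub_cancel_left] at this

/-- The principal block is stable under every automorphism coming from a normaliser. -/
theorem stabilizesBlock_principal (hM : IsPModular p M) {K : Subgroup G} {g : G}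
    (hg : g ∈ Subgroup.normalizer (K : Set G)) : StabilizesBlock K (principalBlock M K) g := by
  have : Fintype G := Fintype.ofFinite G
  have : Fintype K := Fintype.ofFinite K
  refine ⟨hg, fun χ hχ => ?_⟩
  let e : K ≃* K :=
    { toFun := fun k => ⟨g⁻¹ * k * g, (Subgroup.mem_normalizer_iff''.1 hg k).1 k.2⟩
      invFun := fun k => ⟨g * k * g⁻¹, (Subgroup.mem_normalizer_iff.1 hg k).1 k.2⟩
      left_inv := fun k => Subtype.ext (by simp [mul_assoc])
      right_inv := fun k => Subtype.ext (by simp [mul_assoc])
      map_mul' := fun a b => Subtype.ext (by simp [mul_assoc]) }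
  refine ⟨CharCorr.twistIrr e χ, ?_, fun k k' hk => ?_⟩
  · have h := BlockCover.sameBlock_twistIrr (M := M) e
      (show SameBlock M (Characters.principalIrr K : K → ℂ) (χ : K → ℂ) from hχ)
    exact h
  · show (χ : K → ℂ) (e k') = (χ : K → ℂ) k
    refine congrArg _ (Subtype.ext ?_)
    show g⁻¹ * (k' : G) * g = k
    rw [hk]
    simp [mul_assoc]

end CfsgLib.BrauerPairs
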