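import Cfsg.Agent.Lib.BrauerPairs.Local
import Cfsg.Agent.Lib.Fusion.Saturated

/-!
# The fusion system on a maximal pair, and its saturation
-/

namespace CfsgLib.BrauerPairs

open Cfsg MonoidAlgebra Cfsg.FusionSystem

set_option linter.unusedSectionVars false

variable {k : Type*} [Field k] {G : Type*} [Group G] [Fintype G]
variable {p : ℕ}

theorem PairLE.block_left {a b : Subgroup G × MonoidAlgebra k G} (h : PairLE p a b)
    (hb : IsBlockIdem (cz b.1) b.2) : IsBlockIdem (cz a.1) a.2 := by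
  rcases h.cases_head with rfl | ⟨c, hc, -⟩
  · exact hb
  · exact hc.block_left

theorem PairLE.snd_eq {a b : Subgroup G × MonoidAlgebra k G} (h : PairLE p a b)
    (he : a.1 = b.1) : a = b := by
  rcases h.eq_or_strict with h' | ⟨c, -, hlt, hle⟩
  · exact h'
  · exact absurd (hlt.trans_le hle.le) (he ▸ lt_irrefl _)

theorem conjPair_inv_cancel (g : G) (a : Subgroup G × MonoidAlgebra k G) :
    conjPair g⁻¹ (conjPair g a) = a := by
  rw [← conjPair_mul, inv_mul_cancel, conjPair_one]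

theorem conjPair_of_mem {P : Subgroup G} {E : MonoidAlgebra k G} (hE : IsBlockIdem (cz P) E)
    {g : G} (hg : g ∈ P) : conjPair g (P, E) = (P, E) :=
  Prod.ext (map_conj_eq_self (Subgroup.le_normalizer hg)) (fixed_of_supp_cz hE.supp g hg)

theorem map_range_of_conj {Q : Subgroup G} {φ : Q →* G} {g : G}
    (h : ∀ u : Q, φ u = g * (u : G) * g⁻¹) :
    Q.map (MulAut.conj g).toMonoidHom = φ.range := by
  ext y
  constructor
  · rintro ⟨u, hu, rfl⟩; exact ⟨⟨u, hu⟩, h _⟩
  · rintro ⟨u, rfl⟩; exact ⟨u, u.2, (h u).symm⟩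

/-- `g` carries the pair on `Q` below `(P, E)` to a pair below `(P, E)`. -/
def ConnPair (p : ℕ) (P : Subgroup G) (E : MonoidAlgebra k G) (g : G) (Q : Subgroup G) : Prop :=
  ∃ a, PairLE p (Q, a) (P, E) ∧ PairLE p (conjPair g (Q, a)) (P, E)

theorem ConnPair.le {P : Subgroup G} {E : MonoidAlgebra k G} {g : G} {Q : Subgroup G}
    (h : ConnPair p P E g Q) : Q ≤ P :=
  h.choose_spec.1.le

theorem ConnPair.map_le {P : Subgroup G} {E : MonoidAlgebra k G} {g : G} {Q : Subgroup G}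
    (h : ConnPair p P E g Q) : Q.map (MulAut.conj g).toMonoidHom ≤ P :=
  h.choose_spec.2.le

variable [CharP k p] [Fact p.Prime]

theorem pairLE_of_le (hk : HasBlocks k G) {P Q R : Subgroup G} {E a b : MonoidAlgebra k G}
    (hP : IsPGroup p P) (hE : IsBlockIdem (cz P) E) (ha : PairLE p (Q, a) (P, E))
    (hb : PairLE p (R, b) (P, E)) (hQR : Q ≤ R) : PairLE p (Q, a) (R, b) := by
  obtain ⟨a', -, ha'⟩ := exists_pairLE hk hQR (hP.to_le hb.le) (hb.block_left hE)
  rwa [pairLE_unique hk (b := (P, E)) hE hP ha (ha'.trans hb)]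

theorem ConnPair.one (hk : HasBlocks k G) {P Q : Subgroup G} {E : MonoidAlgebra k G}
    (hP : IsPGroup p P) (hE : IsBlockIdem (cz P) E) {g : G} (hQ : Q ≤ P) (hg : g ∈ P) :
    ConnPair p P E g Q := by
  obtain ⟨a, -, ha⟩ := exists_pairLE hk hQ hP hE
  exact ⟨a, ha, conjPair_of_mem hE hg ▸ ha.conj g⟩

theorem ConnPair.mul (hk : HasBlocks k G) {P Q R : Subgroup G} {E : MonoidAlgebra k G}
    (hP : IsPGroup p P) (hE : IsBlockIdem (cz P) E) {g g' : G} (h : ConnPair p P E g Q)
    (h' : ConnPair p P E g' R) (hQR : Q.map (MulAut.conj g).toMonoidHom ≤ R) :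
    ConnPair p P E (g' * g) Q := by
  obtain ⟨a, ha, ha'⟩ := h
  obtain ⟨b, hb, hb'⟩ := h'
  refine ⟨a, ha, ?_⟩
  rw [conjPair_mul]
  exact ((pairLE_of_le hk hP hE (Q := (conjPair g (Q, a)).1) (a := (conjPair g (Q, a)).2)
    ha' hb hQR).conj g').trans hb'

omit [CharP k p] [Fact p.Prime] in
theorem ConnPair.inv {P Q : Subgroup G} {E : MonoidAlgebra k G} {g : G}
    (h : ConnPair p P E g Q) : ConnPair p P E g⁻¹ (Q.map (MulAut.conj g).toMonoidHom) := by
  obtain ⟨a, ha, ha'⟩ := h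
  refine ⟨conjA g a, ha', ?_⟩
  rw [show ((Q.map (MulAut.conj g).toMonoidHom), conjA g a) = conjPair g (Q, a) from rfl,
    conjPair_inv_cancel]
  exact ha

/-- The fusion system on the pair `(P, E)`. -/
def pairSystem (hk : HasBlocks k G) {P : Subgroup G} {E : MonoidAlgebra k G}
    (hP : IsPGroup p P) (hE : IsBlockIdem (cz P) E) : FusionSystem P where
  Hom Q := {φ | ∃ g : G, (∀ u : Q, φ u = g * (u : G) * g⁻¹) ∧ ConnPair p P E g Q}
  le_of_mem := by
    rintro Q φ ⟨g, hg, hc⟩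
    exact ⟨hc.le, fun x => hc.map_le ((map_range_of_conj hg).ge ⟨x, rfl⟩)⟩
  injective_of_mem := by
    rintro Q φ ⟨g, hg, -⟩ a b hab
    have h := ((hg a).symm.trans hab).trans (hg b)
    exact Subtype.ext (mul_left_cancel (mul_right_cancel h))
  conj_mem := fun hQ hg => ⟨_, fun u => rfl, ConnPair.one hk hP hE hQ hg⟩
  comp_mem := by
    rintro Q R φ ψ ⟨g, hg, hc⟩ ⟨g', hg', hc'⟩ h
    refine ⟨g' * g, fun u => ?_, hc.mul hk hP hE hc' ?_⟩
    · show ψ (φ.codRestrict R h u) = _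
      rw [hg']
      show g' * φ u * g'⁻¹ = _
      rw [hg, mul_inv_rev]
      simp only [mul_assoc]
    · rw [map_range_of_conj hg]
      rintro _ ⟨x, rfl⟩
      exact h x
  inv_mem := by
    rintro Q φ ⟨g, hg, hc⟩
    refine ⟨Cfsg.conjHom φ.range g⁻¹, ⟨g⁻¹, fun u => rfl, map_range_of_conj hg ▸ hc.inv⟩, fun x => ?_⟩
    show g⁻¹ * φ x * g⁻¹⁻¹ = x
    rw [hg, inv_inv]
    simp only [mul_assoc, inv_mul_cancel, mul_one, inv_mul_cancel_left]

variable {B : MonoidAlgebra k G} {P : Subgroup G} {E : MonoidAlgebra k G} {F : FusionSystem P}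

/-- `F` has the maps of the system of the pair. -/
def IsPairSystem (p : ℕ) (P : Subgroup G) (E : MonoidAlgebra k G) (F : FusionSystem P) : Prop :=
  ∀ (Q : Subgroup G) (φ : Q →* G),
    φ ∈ F.Hom Q ↔ ∃ g : G, (∀ u : Q, φ u = g * (u : G) * g⁻¹) ∧ ConnPair p P E g Q

/-- For a fully normalised `Q`, `N_P(Q)` is a defect group of the setting of the stabiliser. -/
theorem IsPairSystem.isDefect_normalizerIn (hF : IsPairSystem p P E F) (hk : HasBlocks k G)
    (hS : BrSetup p (⊥ : Subgroup G) B ⊤) (hD : IsDefect p ⊥ B ⊤ P)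
    (hO : OverPair p ⊥ B ⊤ P E) {Q : Subgroup G} {f : MonoidAlgebra k G}
    (hle : PairLE p (Q, f) (P, E)) {T : Subgroup G} (hT : BrSetup p Q f T)
    (hTfull : pairStab Q f ≤ T) (hn : F.IsFullyNormalized Q) :
    IsDefect p Q f T (normalizerIn P Q) := by
  have hNP : normalizerIn P Q ≤ P := inf_le_left
  obtain ⟨h, hh, -⟩ := normalSub_through hk hle hO.pgroup hO.block
    (S := normalizerIn P Q) (le_inf hle.le Subgroup.le_normalizer) hNP (inf_le_right : normalizerIn P Q ≤ _)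
  have hNT : normalizerIn P Q ≤ T := fun y hy => hTfull ⟨hy.2, hh.fixed y hy⟩
  have hne : brMap k (normalizerIn P Q) f ≠ 0 := fun h0 => hh.block_right.ne_zero (by
    rw [← hh.cover]
    show brMap k _ f * h = 0
    rw [h0, zero_mul])
  obtain ⟨D, hDd, hDge⟩ := hT.exists_defect_ge (hO.pgroup.to_le hNP) hNT hne
  have hfD : f ∈ fixAlg k D := fixAlg_anti hDd.le_T hT.fixed
  obtain ⟨h', hh', hcov⟩ := exists_block_le hk (brMap_mem_suppAlg D f)
    (brMap_mem_fixAlg_of_block hDd.le hT.block)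
    (by rw [← brMap_mul hDd.pgroup hfD hfD, hT.block.idem]) hDd.br_ne
  have hstep : NormalSub p (Q, f) (D, h') :=
    ⟨hT.pgroup, hDd.pgroup, hT.block, hh', hDd.le, hDd.le_T.trans hT.le_norm, hfD, hcov⟩
  have hOS : OverPair p (⊥ : Subgroup G) B ⊤ D h' :=
    ⟨hDd.pgroup, bot_le, le_top, hh', (brMap_cover_iff (Relation.ReflTransGen.single hstep)
      hS.fixed hS.block.idem).1 ((brMap_cover_iff hle hS.fixed hS.block.idem).2 hO.cover)⟩
  obtain ⟨x, -, hx⟩ := hS.exists_conj_le hk hOS hD hO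
  have hQ' : PairLE p (conjPair x (Q, f)) (P, E) :=
    Relation.ReflTransGen.head (hstep.conj x) hx
  have hconj : F.IsConj Q (Q.map (MulAut.conj x).toMonoidHom) :=
    ⟨Cfsg.conjHom Q x, (hF Q _).2 ⟨x, fun u => rfl, f, hle, hQ'⟩,
      (map_range_of_conj (g := x) fun u => rfl).symm⟩
  have hle' : D.map (MulAut.conj x).toMonoidHom ≤
      normalizerIn P (Q.map (MulAut.conj x).toMonoidHom) :=
    le_inf hx.le (hstep.conj x).le_norm
  have hcard := (Subgroup.card_le_of_le hle').trans (hn.2 _ hconj)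
  rw [Subgroup.card_map_of_injective (MulAut.conj x).injective] at hcard
  rwa [← Subgroup.eq_of_le_of_card_ge hDge hcard] at hDd

/-- Conversely. -/
theorem IsPairSystem.fullyNormalized_of_isDefect (hF : IsPairSystem p P E F) (hk : HasBlocks k G)
    (hP : IsPGroup p P) (hE : IsBlockIdem (cz P) E)
    {Q : Subgroup G} {f : MonoidAlgebra k G}
    (hle : PairLE p (Q, f) (P, E)) {T : Subgroup G} (hT : BrSetup p Q f T)
    (hTfull : pairStab Q f ≤ T) (hDd : IsDefect p Q f T (normalizerIn P Q)) :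
    F.IsFullyNormalized Q := by
  refine ⟨hle.le, ?_⟩
  rintro Q' ⟨φ, hφ, rfl⟩
  obtain ⟨g, hg, a, ha, ha'⟩ := (hF Q φ).1 hφ
  obtain rfl : a = f := pairLE_unique hk (b := (P, E)) hE hP ha hle
  rw [← map_range_of_conj hg]
  set Q' := Q.map (MulAut.conj g).toMonoidHom
  obtain ⟨h, hh, -⟩ := normalSub_through hk (Q := Q') (f := conjA g a) ha' hP hE
    (S := normalizerIn P Q') (le_inf ha'.le Subgroup.le_normalizer) inf_le_left inf_le_right
  have hh2 := hh.conj g⁻¹
  rw [show ((Q', conjA g a) : Subgroup G × MonoidAlgebra k G) = conjPair g (Q, a) from rfl,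
    conjPair_inv_cancel] at hh2
  calc Nat.card (normalizerIn P Q') = Nat.card ((conjPair g⁻¹ (normalizerIn P Q', h)).1) :=
        (Subgroup.card_map_of_injective (MulAut.conj g⁻¹).injective).symm
    _ ≤ _ := hT.card_le_defect hDd hh2.pgroup_right
        (fun y hy => hTfull ⟨hh2.le_norm hy, hh2.fixed y hy⟩)
        (fun h0 => hh2.block_right.ne_zero (by rw [← hh2.cover, h0, zero_mul]))

/-- A defect group `N_P(Q)` of the setting of the stabiliser makes `Q` receptive. -/
theorem IsPairSystem.receptive_of_isDefect (hF : IsPairSystem p P E F) (hk : HasBlocks k G)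
    (hP : IsPGroup p P) (hE : IsBlockIdem (cz P) E)
    {Q : Subgroup G} {f : MonoidAlgebra k G}
    (hle : PairLE p (Q, f) (P, E)) {T : Subgroup G} (hT : BrSetup p Q f T)
    (hDd : IsDefect p Q f T (normalizerIn P Q)) : F.IsReceptive Q := by
  refine ⟨hle.le, fun R φ hφ hr => ?_⟩
  obtain ⟨g, hg, a, ha, ha'⟩ := (hF R φ).1 hφ
  have hRQ : R.map (MulAut.conj g).toMonoidHom = Q := (map_range_of_conj hg).trans hr
  have hpair : conjPair g (R, a) = (Q, f) := by
    refine Prod.ext hRQ (pairLE_unique hk (b := (P, E)) hE hP (Q := Q) ?_ hle)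
    exact hRQ ▸ ha'
  have hφP : ∀ x : R, φ x ∈ P := fun x => hle.le (hr.le ⟨x, rfl⟩)
  set N := extender P R φ with hN
  obtain ⟨b, hb, hbP⟩ := normalSub_through hk ha hP hE (S := N)
    (Fusion.le_extender ha.le hφP)
    (Fusion.extender_le_normalizerIn.trans inf_le_left)
    (Fusion.extender_le_normalizerIn.trans inf_le_right)
  have hbg := hb.conj g
  rw [hpair] at hbg
  -- the smaller setting
  set T₂ : Subgroup G := normalizerIn P Q ⊔ cz Q with hT₂
  have hT₂T : T₂ ≤ T := sup_le hDd.le_T hT.cz_le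
  have hS₂ : BrSetup p Q f T₂ :=
    ⟨hT.pgroup, hT.block, hT₂T.trans hT.le_norm, le_sup_right,
      (le_inf hle.le Subgroup.le_normalizer).trans le_sup_left, fixAlg_anti hT₂T hT.fixed⟩
  have hNT₂ : N.map (MulAut.conj g).toMonoidHom ≤ T₂ := by
    rintro _ ⟨x, hx, rfl⟩
    obtain ⟨-, hxN, h, hh, hxh⟩ := Fusion.mem_extender.1 hx
    have hxR := Subgroup.mem_normalizer_iff.1 hxN
    have key : ∀ q ∈ Q, (g * x * g⁻¹) * q * (g * x * g⁻¹)⁻¹ = h * q * h⁻¹ := by
      intro q hq
      obtain ⟨u, rfl⟩ := hr.ge hq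
      have h1 := hxh u ((hxR u).1 u.2)
      rw [hg] at h1
      rw [← h1, hg]
      simp only [mul_inv_rev, inv_inv, mul_assoc, inv_mul_cancel_left]
    have hgxg : g * x * g⁻¹ ∈ Subgroup.normalizer (Q : Set G) :=
      hbg.le_norm ⟨x, hx, rfl⟩
    have hhQ : h ∈ Subgroup.normalizer (Q : Set G) := by
      refine Fusion.mem_normalizer_of_forall fun q hq => ?_
      rw [← key q hq]
      exact (Subgroup.mem_normalizer_iff.1 hgxg q).1 hq
    have hc : h⁻¹ * (g * x * g⁻¹) ∈ cz Q := by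
      rw [mem_cz]
      intro q hq
      have := key q hq
      calc q * (h⁻¹ * (g * x * g⁻¹)) = h⁻¹ * (h * q * h⁻¹) * (g * x * g⁻¹) := by group
        _ = h⁻¹ * (g * x * g⁻¹) * q := by rw [← this]; group
    have := T₂.mul_mem (Subgroup.mem_sup_left (T := cz Q) (show h ∈ normalizerIn P Q from ⟨hh, hhQ⟩))
      (Subgroup.mem_sup_right hc)
    rwa [mul_inv_cancel_left] at this
  have hR₂ : OverPair p Q f T₂ (N.map (MulAut.conj g).toMonoidHom) (conjA g b) :=
    ⟨hbg.pgroup_right, hbg.le, hNT₂, hbg.block_right, hbg.cover⟩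
  obtain ⟨h, hh, hhP⟩ := normalSub_through hk hle hP hE (S := normalizerIn P Q)
    (le_inf hle.le Subgroup.le_normalizer) (inf_le_left : normalizerIn P Q ≤ P)
    (inf_le_right : normalizerIn P Q ≤ Subgroup.normalizer (Q : Set G))
  have hO₂ : OverPair p Q f T₂ (normalizerIn P Q) h :=
    ⟨hh.pgroup_right, hh.le, le_sup_left, hh.block_right, hh.cover⟩
  obtain ⟨D', hD'⟩ := hS₂.exists_isDefect
  have hD₂ : IsDefect p Q f T₂ (normalizerIn P Q) :=
    hS₂.isDefect_of_card hD' hh.pgroup_right le_sup_left hDd.br_ne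
      (hT.card_le_defect hDd hD'.pgroup (hD'.le_T.trans hT₂T) hD'.br_ne)
  obtain ⟨t, ht, htle⟩ := hS₂.exists_conj_le hk hR₂ hD₂ hO₂
  have hnorm : normalizerIn P Q ≤ Subgroup.normalizer (cz Q : Set G) :=
    inf_le_right.trans (normalizer_le_normalizer_cz Q)
  have ht' : t ∈ ((normalizerIn P Q ⊔ cz Q : Subgroup G) : Set G) := ht
  rw [Subgroup.coe_mul_of_left_le_normalizer_right _ _ hnorm] at ht'
  obtain ⟨n, hn, c, hc, rfl⟩ := Set.mem_mul.1 ht'
  have h3 := htle.conj n⁻¹
  rw [conjPair_mul, conjPair_inv_cancel, conjPair_of_mem hh.block_right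
    ((normalizerIn P Q).inv_mem hn)] at h3
  refine ⟨Cfsg.conjHom N (c * g), (hF N _).2 ⟨c * g, fun u => rfl, b, hbP, ?_⟩, fun x hxR hxN => ?_⟩
  · rw [conjPair_mul]
    exact h3.trans hhP
  · show c * g * x * (c * g)⁻¹ = φ ⟨x, hxR⟩
    rw [hg]
    have hm : g * x * g⁻¹ ∈ Q := hRQ ▸ ⟨x, hxR, rfl⟩
    have h5 := mem_cz.1 hc _ hm
    calc c * g * x * (c * g)⁻¹ = c * (g * x * g⁻¹) * c⁻¹ := by group
      _ = g * x * g⁻¹ := by rw [← h5, mul_inv_cancel_right]

/-- If `D = P` is a defect group in the setting of `(P, E)`, the index of `P C(P)` is prime to `p`. -/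
theorem not_dvd_relIndex_stab {T : Subgroup G} (hT : BrSetup p P E T)
    (hD : IsDefect p P E T P) : ¬ p ∣ (P ⊔ cz P).relIndex T := by
  classical
  intro hdvd
  obtain ⟨a, has, haf, ha⟩ := hD.inTr
  set C := P ⊔ cz P
  have hCT : C ≤ T := sup_le hT.le hT.cz_le
  have hTn : T ≤ Subgroup.normalizer (cz P : Set G) :=
    hT.le_norm.trans (normalizer_le_normalizer_cz P)
  set z := relTr k P C a
  have hzC : z ∈ fixAlg k C := relTr_mem_fixAlg haf
  have hzs : z ∈ suppAlg k (cz P) := relTr_mem_suppAlg (hCT.trans hTn) has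
  have hzf : z ∈ fixAlg k (cz P) := fixAlg_anti le_sup_right hzC
  have hE : E = relTr k C T (z * E) := by
    rw [← relTr_mul_right hT.fixed z, relTr_relTr le_sup_left hCT haf, ha, hT.block.idem]
  obtain ⟨c, hc⟩ := hT.block.locally z hzs hzf
  set n := z * E - c • E with hn
  have hnC : n ∈ fixAlg k C :=
    sub_mem (mul_mem hzC (fixAlg_anti hCT hT.fixed))
      ((fixAlg k C).smul_mem (fixAlg_anti hCT hT.fixed) c)
  have hns : n ∈ suppAlg k (cz P) :=
    sub_mem (mul_mem hzs hT.block.supp) ((suppAlg k (cz P)).smul_mem hT.block.supp c)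
  have hnil : IsNilpotent (relTr k C T n) := by
    rw [relTr_eq_sum]
    have hmem : ∀ q : T ⧸ C.subgroupOf T, conjA ((q.out : T) : G) n ∈ suppAlg k (cz P) ∧
        conjA ((q.out : T) : G) n ∈ fixAlg k (cz P) := by
      intro q
      have h1 := conjA_mem_suppAlg hns ((q.out : T) : G)
      have h2 := conjA_mem_fixAlg (fixAlg_anti (le_sup_right : cz P ≤ C) hnC) ((q.out : T) : G)
      rw [map_conj_eq_self (hTn (q.out).2)] at h1 h2
      exact ⟨h1, h2⟩
    refine Commute.isNilpotent_sum (fun q _ => ?_) fun q q' _ _ =>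
      commute_of_supp_fix (hmem q).1 (hmem q').2
    obtain ⟨m, hm⟩ := hc
    refine ⟨m, ?_⟩
    rw [← conjA_pow, hm, conjA_zero]
  have hEn : E = relTr k C T n := by
    calc E = relTr k C T (c • E + n) := by rw [hn, add_sub_cancel, ← hE]
      _ = _ := by
        rw [relTr_add, relTr_smul, relTr_of_fixed hT.fixed,
          show ((C.relIndex T : ℕ) : k) = 0 from (CharP.cast_eq_zero_iff k p _).2 hdvd, zero_smul,
          smul_zero, zero_add]
  exact hT.block.ne_zero (eq_zero_of_nilpotent_idem (hEn ▸ hnil) hT.block.idem)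

theorem IsPairSystem.fullyAutomized_top (hF : IsPairSystem p P E F) (hk : HasBlocks k G)
    (hS : BrSetup p (⊥ : Subgroup G) B ⊤) (hD : IsDefect p ⊥ B ⊤ P)
    (hO : OverPair p ⊥ B ⊤ P E) : F.IsFullyAutomized p P := by
  set T := pairStab P E with hTdef
  have hb := hO.block
  have hT : BrSetup p P E T :=
    ⟨hO.pgroup, hb, fun _ h => h.1, fun y hy => ⟨cz_le_normalizer P hy, hb.fixed y hy⟩,
      fun y hy => ⟨Subgroup.le_normalizer hy, fixed_of_supp_cz hb.supp y hy⟩, fun _ h => h.2⟩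
  have hPN : normalizerIn P P = P := inf_eq_left.2 Subgroup.le_normalizer
  have hn : F.IsFullyNormalized P := ⟨le_rfl, fun R hR =>
    (Subgroup.card_le_of_le Fusion.normalizerIn_le).trans_eq (by rw [hPN])⟩
  have hdef := hF.isDefect_normalizerIn hk hS hD hO Relation.ReflTransGen.refl hT le_rfl hn
  rw [hPN] at hdef
  have haut : F.autGroup P = autInducedBy T P := by
    ext α
    rw [Fusion.mem_autGroup le_rfl, Fusion.mem_autInducedBy]
    constructor
    · intro h
      obtain ⟨g, hg, a, ha, ha'⟩ := (hF P _).1 h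
      obtain rfl : a = E := congrArg Prod.snd (ha.snd_eq rfl)
      have hgN : g ∈ Subgroup.normalizer (P : Set G) := Fusion.mem_normalizer_of_aut hg
      exact ⟨g, ⟨hgN, congrArg Prod.snd (ha'.snd_eq (map_conj_eq_self hgN))⟩, hg⟩
    · rintro ⟨g, ⟨hgN, hgE⟩, hg⟩
      refine (hF P _).2 ⟨g, hg, E, Relation.ReflTransGen.refl, ?_⟩
      rw [show conjPair g (P, E) = (P, E) from Prod.ext (map_conj_eq_self hgN) hgE]
      exact Relation.ReflTransGen.refl
  have hle : autInducedBy P P ≤ F.autGroup P := Fusion.autInducedBy_le_autGroup le_rfl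
  have := Fusion.finite_mulAut (S := P) (le_refl P)
  have hidx : ¬ p ∣ ((autInducedBy P P).subgroupOf (F.autGroup P)).index := by
    intro hdvd
    change p ∣ (autInducedBy P P).relIndex (F.autGroup P) at hdvd
    refine not_dvd_relIndex_stab hT hdef (hdvd.trans ?_)
    have heq : autInducedBy (P ⊔ cz P) P = autInducedBy P P := by
      refine le_antisymm (fun α hα => ?_) (Fusion.autInducedBy_mono le_sup_left P)
      obtain ⟨g, hg, hgα⟩ := Fusion.mem_autInducedBy.1 hα
      have hg' : g ∈ ((P ⊔ cz P : Subgroup G) : Set G) := hg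
      rw [Subgroup.coe_mul_of_left_le_normalizer_right _ _
        (Subgroup.le_normalizer.trans (normalizer_le_normalizer_cz P))] at hg'
      obtain ⟨u, hu, c, hc, rfl⟩ := Set.mem_mul.1 hg'
      refine Fusion.mem_autInducedBy.2 ⟨u, hu, fun x => ?_⟩
      rw [hgα]
      have h5 : (x : G) * c = c * x := mem_cz.1 hc _ x.2
      calc u * c * (x : G) * (u * c)⁻¹ = u * (c * x) * c⁻¹ * u⁻¹ := by group
        _ = u * (x : G) * u⁻¹ := by rw [← h5]; group
    have hTN : T ≤ Subgroup.normalizer (P : Set G) := hT.le_norm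
    rw [haut, ← heq, Fusion.autInducedBy_eq_map, Fusion.autInducedBy_eq_map,
      Subgroup.relIndex_map_map]
    rw [← Subgroup.relIndex_subgroupOf (H := P ⊔ cz P) hTN]
    refine (dvd_of_eq ?_)
    have hker : P.normalizerMonoidHom.ker ≤
        (P ⊔ cz P).subgroupOf (Subgroup.normalizer (P : Set G)) := by
      intro y hy
      rw [Subgroup.mem_subgroupOf]
      refine Subgroup.mem_sup_right (mem_cz.2 fun x hx => ?_)
      have h5 := congrArg (fun α : MulAut P => ((α ⟨x, hx⟩ : P) : G)) (MonoidHom.mem_ker.1 hy)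
      simp only [Fusion.coe_normalizerMonoidHom, MulAut.one_apply] at h5
      exact (mul_inv_eq_iff_eq_mul.1 h5).symm
    rw [sup_eq_left.2 hker, sup_eq_left.2 (show P.normalizerMonoidHom.ker ≤ T.subgroupOf (Subgroup.normalizer (P : Set G)) from hker.trans fun y hy => sup_le hT.le hT.cz_le hy)]
  exact ⟨le_rfl, ((Fusion.isPGroup_autInducedBy hO.pgroup P).comap_subtype).toSylow hidx,
    IsPGroup.toSylow_coe _ _⟩

theorem IsPairSystem.isSaturated (hF : IsPairSystem p P E F) (hk : HasBlocks k G)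
    (hS : BrSetup p (⊥ : Subgroup G) B ⊤) (hD : IsDefect p ⊥ B ⊤ P)
    (hO : OverPair p ⊥ B ⊤ P E) : F.IsSaturated p := by
  refine Fusion.saturated_of_top_and_receptive hO.pgroup (hF.fullyAutomized_top hk hS hD hO)
    fun Q hn => ?_
  obtain ⟨f, hf, hle⟩ := exists_pairLE hk hn.1 hO.pgroup hO.block
  have hT : BrSetup p Q f (pairStab Q f) :=
    ⟨hO.pgroup.to_le hn.1, hf, fun _ h => h.1,
      fun y hy => ⟨cz_le_normalizer Q hy, hf.fixed y hy⟩,
      fun y hy => ⟨Subgroup.le_normalizer hy, fixed_of_supp_cz hf.supp y hy⟩, fun _ h => h.2⟩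
  exact hF.receptive_of_isDefect hk hO.pgroup hO.block hle hT
    (hF.isDefect_normalizerIn hk hS hD hO hle hT le_rfl hn)

end CfsgLib.BrauerPairs
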