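import Cfsg.Agent.Lib.BrauerPairs.Local

/-!
# A block of the centraliser of `P` that induces `B` gives a pair of `B` at `P`
-/

set_option autoImplicit false

namespace CfsgLib.BrauerPairs

open Cfsg

variable {p : ℕ} {M : Ideal AlgInt} {G : Type*} [Group G] [Finite G]

open scoped Classical in
/-- The truncated central character, grouped by the classes of the whole group. -/
theorem brauerOmega_eq_sum_classes [Fintype G] (P : Subgroup G) (B : Set (IrrCharacter G))
    (ξ : cz P → ℂ) :
    brauerOmega P (blockCoeff B) ξ =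
      ∑ d : ConjClasses G, blockCoeff B d.out * inducedCentralChar (cz P) ξ d.out := by
  have : Fintype (cz P) := Fintype.ofFinite _
  have hd : ∀ (d : ConjClasses G) (x : G), ConjClasses.mk x = d ↔ IsConj d.out x := fun d x => by
    rw [isConj_comm, ← ConjClasses.mk_eq_mk_iff_isConj,
      show ConjClasses.mk d.out = d from Quotient.out_eq d]
  rw [brauerOmega, finsum_eq_sum_of_fintype,
    ← Finset.sum_fiberwise Finset.univ (fun x : cz P => ConjClasses.mk (x : G))]
  refine Finset.sum_congr rfl fun d _ => ?_
  rw [inducedCentralChar, finsum_mem_eq_finite_toFinset_sum _ (Set.toFinite _), Finset.mul_sum]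
  refine Finset.sum_congr ?_ fun x hx => ?_
  · ext x
    simp only [Finset.mem_filter, Finset.mem_univ, true_and, Set.Finite.mem_toFinset,
      Set.mem_setOf_eq, hd]
  · have hx' : IsConj d.out (x : G) := by simpa using hx
    rw [← Blocks.blockCoeff_of_isConj B hx', mul_div_assoc]

/-- A block of `C(P)` inducing `B` makes `P` and that block a pair of `B`. -/
theorem isBrauerPairOf_of_isInducedBlock (hM : IsPModular p M) {P : Subgroup G}
    (hP : IsPGroup p P) {c : Set (IrrCharacter (cz P))} {B : Set (IrrCharacter G)}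
    (h : IsInducedBlock M (cz P) c B) : IsBrauerPairOf p M B P c := by
  classical
  have : Fintype G := Fintype.ofFinite G
  obtain ⟨hc, hB, hcong⟩ := h
  refine ⟨⟨hP, hc⟩, hB, fun ξ hξ => ?_⟩
  obtain ⟨χ, hχ⟩ := Blocks.IsPBlock.nonempty hM hB
  rw [brauerOmega_eq_sum_classes, ← Blocks.sum_blockCoeff_mul_centralChar hχ,
    ← Finset.sum_sub_distrib]
  refine Blocks.MemLocalIdeal.sum hM _ fun d _ => ?_
  rw [← mul_sub]
  exact Blocks.MemLocalIdeal.mul_left hM (Blocks.memLocalRing_blockCoeff hM hB _)
    (hcong ξ hξ χ hχ _)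

end CfsgLib.BrauerPairs
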