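import Cfsg.Agent.Lib.BrauerPairs.FirstMain
import Cfsg.Agent.Lib.BrauerPairs.Induced
import Cfsg.Agent.Lib.BlockCover.Basic
import Cfsg.Agent.Lib.Blocks.BlockKernel
import Cfsg.Agent.Lib.OddOrder.Transitivity

/-!
# Normal subgroups in the kernels of the blocks of Brauer pairs
-/

set_option autoImplicit false
set_option linter.style.haveILetI false
set_option linter.unusedSectionVars false

namespace CfsgLib.BrauerPairs

open Cfsg MonoidAlgebra
open CfsgLib.Blocks (lRing)
open CfsgLib.OddOrder (PiNat)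

section Alg

variable {k : Type*} [Field k] {G : Type*} [Group G]

/-- Every element of `K` fixes `f` under left multiplication. -/
def Kills (K : Subgroup G) (f : MonoidAlgebra k G) : Prop := ∀ n ∈ K, single n (1 : k) * f = f

theorem Kills.mono {K K' : Subgroup G} {f : MonoidAlgebra k G} (h : Kills K' f) (hle : K ≤ K') :
    Kills K f := fun n hn => h n (hle hn)

theorem Kills.mul_right {K : Subgroup G} {f : MonoidAlgebra k G} (h : Kills K f)
    (a : MonoidAlgebra k G) : Kills K (f * a) := fun n hn => by rw [← mul_assoc, h n hn]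

theorem kills_of_map_conj {K : Subgroup G} {f : MonoidAlgebra k G} (t : G)
    (h : Kills (K.map (MulAut.conj t).toMonoidHom) (conjA t f)) : Kills K f := by
  intro n hn
  refine conjA_inj (g := t) ?_
  have h1 : conjA t (single n (1 : k)) = single (t * n * t⁻¹) 1 := by
    simp [conjA, single_mul_single]
  rw [conjA_mul, h1]
  exact h _ ⟨n, hn, rfl⟩

variable [Fintype G]

variable (k) in
/-- The sum of the elements of a subgroup. -/
noncomputable def subSum (K : Subgroup G) : MonoidAlgebra k G := by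
  classical exact ∑ n ∈ Finset.univ.filter (· ∈ K), single n (1 : k)

theorem coeff_subSum (K : Subgroup G) (x : G) [Decidable (x ∈ K)] :
    (subSum k K).coeff x = if x ∈ K then 1 else 0 := by
  classical
  rw [subSum, coeff_sum, Finsupp.finsetSum_apply]
  simp only [coeff_single, Finsupp.single_apply]
  rw [Finset.sum_ite_eq']
  simp only [Finset.mem_filter, Finset.mem_univ, true_and]

theorem subSum_mem_suppAlg {K H : Subgroup G} (h : K ≤ H) : subSum k K ∈ suppAlg k H := by
  classical
  intro x hx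
  by_contra hxH
  rw [coeff_subSum, if_neg fun h' => hxH (h h')] at hx
  exact hx rfl

theorem subSum_mem_fixAlg {K H : Subgroup G} (h : H ≤ Subgroup.normalizer (K : Set G)) :
    subSum k K ∈ fixAlg k H := by
  classical
  refine mem_fixAlg_iff_coeff.2 fun g hg x => ?_
  rw [coeff_subSum, coeff_subSum]
  exact if_congr ((Subgroup.mem_normalizer_iff.1 (h hg) x).symm) rfl rfl

theorem single_mul_subSum {K : Subgroup G} {n : G} (hn : n ∈ K) :
    single n (1 : k) * subSum k K = subSum k K := by
  classical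
  rw [subSum, Finset.mul_sum]
  refine Finset.sum_equiv (Equiv.mulLeft n) (fun x => ?_) fun x _ => by
    rw [single_mul_single, one_mul]; rfl
  simp [K.mul_mem_cancel_left hn]

theorem subSum_mul {K : Subgroup G} {f : MonoidAlgebra k G} (h : Kills K f) :
    subSum k K * f = (Nat.card K : k) • f := by
  classical
  rw [subSum, Finset.sum_mul, Finset.sum_congr rfl fun n hn => h n (Finset.mem_filter.1 hn).2,
    Finset.sum_const, ← Fintype.card_subtype, ← Nat.card_eq_fintype_card, Nat.cast_smul_eq_nsmul]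

theorem brMap_subSum (R K : Subgroup G) : brMap k R (subSum k K) = subSum k (K ⊓ cz R) := by
  classical
  ext x
  by_cases hx : x ∈ cz R
  · rw [coeff_brMap_of_mem _ hx, coeff_subSum, coeff_subSum]
    exact if_congr ⟨fun h => ⟨h, hx⟩, fun h => h.1⟩ rfl rfl
  · rw [coeff_brMap_of_notMem _ hx, coeff_subSum, if_neg fun h => hx h.2]

theorem coeff_single_one_mul' (n : G) (a : MonoidAlgebra k G) (x : G) :
    (single n (1 : k) * a).coeff x = a.coeff (n⁻¹ * x) := by
  rw [coeff_single_mul_eq_mul_coeff (x := a) (n⁻¹ * x) (fun m _ => by rw [eq_inv_mul_iff_mul_eq]),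
    one_mul]

theorem brMap_single_mul {R : Subgroup G} {n : G} (hn : n ∈ cz R) (a : MonoidAlgebra k G) :
    brMap k R (single n (1 : k) * a) = single n (1 : k) * brMap k R a := by
  ext x
  rw [coeff_single_one_mul']
  have hiff : n⁻¹ * x ∈ cz R ↔ x ∈ cz R := (cz R).mul_mem_cancel_left ((cz R).inv_mem hn)
  by_cases hx : x ∈ cz R
  · rw [coeff_brMap_of_mem _ hx, coeff_brMap_of_mem _ (hiff.2 hx), coeff_single_one_mul']
  · rw [coeff_brMap_of_notMem _ hx, coeff_brMap_of_notMem _ (fun h => hx (hiff.1 h))]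

variable {p : ℕ} [CharP k p] [Fact p.Prime]

theorem natCard_ne_zero {K : Subgroup G} (h : ¬ p ∣ Nat.card K) : (Nat.card K : k) ≠ 0 :=
  fun h0 => h ((CharP.cast_eq_zero_iff k p _).1 h0)

/-- If the Brauer image of a block idempotent covers an element killed by `K ∩ C(R)`, then the
block idempotent is killed by `K`. -/
theorem kills_of_cover {H K R : Subgroup G} {f h : MonoidAlgebra k G} (hf : IsBlockIdem H f)
    (hKH : K ≤ H) (hHK : H ≤ Subgroup.normalizer (K : Set G))
    (hRK : R ≤ Subgroup.normalizer (K : Set G)) (hR : IsPGroup p R) (hfR : f ∈ fixAlg k R)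
    (hcard : ¬ p ∣ Nat.card K) (hne : h ≠ 0) (hcov : brMap k R f * h = h)
    (hC : Kills (K ⊓ cz R) h) : Kills K f := by
  have hK0 : (Nat.card K : k) ≠ 0 := natCard_ne_zero hcard
  have hC0 : (Nat.card (K ⊓ cz R : Subgroup G) : k) ≠ 0 :=
    natCard_ne_zero fun hd => hcard (hd.trans (Subgroup.card_dvd_of_le inf_le_left))
  set z := (Nat.card K : k)⁻¹ • subSum k K with hz
  have hzn : ∀ n ∈ K, single n (1 : k) * z = z := fun n hn => by
    rw [hz, mul_smul_comm, single_mul_subSum hn]
  have hzz : z * z = z := by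
    rw [show z * z = (Nat.card K : k)⁻¹ • (subSum k K * z) by rw [← smul_mul_assoc],
      subSum_mul hzn, smul_smul, inv_mul_cancel₀ hK0, one_smul]
  have hzR : z ∈ fixAlg k R := Subalgebra.smul_mem _ (subSum_mem_fixAlg hRK) _
  have hne0 : z * f ≠ 0 := by
    intro h0
    have h1 : brMap k R (z * f) * h = 0 := by rw [h0, map_zero, zero_mul]
    rw [brMap_mul hR hzR hfR, mul_assoc, hcov, hz, map_smul, brMap_subSum, smul_mul_assoc,
      subSum_mul hC, smul_smul] at h1
    exact hne ((smul_eq_zero.1 h1).resolve_left (mul_ne_zero (inv_ne_zero hK0) hC0))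
  have hzf : z * f = f := (hf.mul_idem (Subalgebra.smul_mem _ (subSum_mem_suppAlg hKH) _)
    (Subalgebra.smul_mem _ (subSum_mem_fixAlg hHK) _) hzz).resolve_left hne0
  intro n hn
  rw [← hzf, ← mul_assoc, hzn n hn]

/-- All normal subgroups of `C(R)` of order prime to `π` kill `h`. -/
def KillsPi (π : Set ℕ) (R : Subgroup G) (h : MonoidAlgebra k G) : Prop :=
  ∀ K : Subgroup G, K ≤ cz R → cz R ≤ Subgroup.normalizer (K : Set G) →
    PiNat {q | q ∉ π} (Nat.card K) → Kills K h

theorem not_dvd_of_piNat {π : Set ℕ} (hpπ : p ∈ π) {n : ℕ} (h : PiNat {q | q ∉ π} n) : ¬ p ∣ n :=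
  fun hd => h p Fact.out hd hpπ

theorem killsPi_of_normalSub {π : Set ℕ} (hpπ : p ∈ π) {a b : Subgroup G × MonoidAlgebra k G}
    (hab : NormalSub p a b) (hb : KillsPi π b.1 b.2) : KillsPi π a.1 a.2 := by
  intro K hK hKn hpi
  set K₀ := piCoreOf {q | q ∉ π} (cz a.1) with hK₀
  have hle : K ≤ K₀ := CfsgLib.OddOrder.le_piCoreOf hK hKn hpi
  have hn₀ := CfsgLib.OddOrder.piCoreOf_normal {q | q ∉ π} (cz a.1)
  have hcard := CfsgLib.OddOrder.piNat_card_piCoreOf {q | q ∉ π} (cz a.1)
  refine (kills_of_cover hab.block_left (CfsgLib.OddOrder.piCoreOf_le _ _) hn₀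
    (hab.le_norm.trans ((normalizer_le_normalizer_cz a.1).trans
      (CfsgLib.OddOrder.Transitivity.normalizer_le_normalizer_piCoreOf _ _)))
    hab.pgroup_right hab.fixed (not_dvd_of_piNat hpπ hcard) hab.block_right.ne_zero hab.cover
    (hb _ inf_le_right ?_ (hcard.dvd (Subgroup.card_dvd_of_le inf_le_left)))).mono hle
  exact le_trans (le_inf ((cz_anti hab.le).trans hn₀) Subgroup.le_normalizer)
    Subgroup.inf_normalizer_le_normalizer_inf

/-- The kernel condition descends along inclusions of pairs. -/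
theorem killsPi_of_pairLE {π : Set ℕ} (hpπ : p ∈ π) {a b : Subgroup G × MonoidAlgebra k G}
    (hab : PairLE p a b) (hb : KillsPi π b.1 b.2) : KillsPi π a.1 a.2 := by
  induction hab using Relation.ReflTransGen.head_induction_on with
  | refl => exact hb
  | @head x y hxy _ ih => exact killsPi_of_normalSub hpπ hxy ih

theorem killsPi_of_conjPair {π : Set ℕ} (t : G) {a : Subgroup G × MonoidAlgebra k G}
    (h : KillsPi π (conjPair t a).1 (conjPair t a).2) : KillsPi π a.1 a.2 := by
  intro K hK hKn hpi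
  refine kills_of_map_conj t (h _ ?_ ?_ ?_)
  · show _ ≤ cz (a.1.map (MulAut.conj t).toMonoidHom)
    rw [cz_map_conj]
    exact Subgroup.map_mono hK
  · show cz (a.1.map (MulAut.conj t).toMonoidHom) ≤ _
    rw [cz_map_conj]
    exact (Subgroup.map_mono hKn).trans (Subgroup.le_normalizer_map _)
  · rwa [Subgroup.card_map_of_injective (MulAut.conj t).injective]

end Alg

section Dictionary

variable {p : ℕ} {M : Ideal AlgInt} [M.IsMaximal] {G : Type*} [Group G] [Fintype G]
  [Fact p.Prime]

/-- An element of the kernel of every member fixes the block idempotent. -/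
theorem kills_eG_of_blockKer (hM : IsPModular p M) {B : Set (IrrCharacter G)}
    {n : G} (hn : n ∈ blockKer B) : single n (1 : ResK M) * eG hM B = eG hM B := by
  ext x
  rw [coeff_single_one_mul']
  refine coeff_redFun_congr hM ?_
  unfold blockCoeff
  congr 1
  refine finsum_congr fun χ => finsum_congr fun hχ => ?_
  obtain ⟨f, d, ρ, hρ, rfl⟩ := χ
  have h := hn _ hχ
  change ρ.character n = ρ.character 1 at h
  rw [Representation.char_one] at h
  have h1 : ρ n = 1 := (CfsgLib.Characters.char_eq_degree_iff ρ n).mp h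
  have h2 : ρ.character (n⁻¹ * x) = ρ.character x := by
    have h3 : ρ x = ρ (n⁻¹ * x) := by
      conv_lhs => rw [← mul_inv_cancel_left n x, map_mul ρ, h1, one_mul]
    simp only [Representation.character, h3]
  show ρ.character 1 * (starRingEnd ℂ) (ρ.character (n⁻¹ * x)) = _
  rw [h2]

/-- A normal `p'`-subgroup fixing the block idempotent lies in the kernel of the block. -/
theorem blockKer_of_kills (hM : IsPModular p M) {B : Set (IrrCharacter G)} (hB : IsPBlock M B)
    {N : Subgroup G} [hN : N.Normal] (hp : ¬ p ∣ Nat.card N)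
    (h : Kills N (eG hM B)) {n : G} (hn : n ∈ N) : n ∈ blockKer B := by
  classical
  intro χ hχ
  refine CfsgLib.Blocks.apply_eq_one_of_omega_avgElt ?_ hn
  let c : G → ℂ := fun x => if x ∈ N then (Nat.card N : ℂ)⁻¹ else 0
  have hc : ∀ x, c x ∈ lRing hM := fun x => by
    simp only [c]
    split_ifs
    · exact CfsgLib.Blocks.inv_natCast_mem_lRing hM hp
    · exact (lRing hM).zero_mem
  have hcl : ∀ g x, c (g * x * g⁻¹) = c x := fun g x => by
    simp only [c]
    refine if_congr ⟨fun hh => ?_, fun hh => hN.conj_mem x hh g⟩ rfl rfl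
    simpa [mul_assoc] using hN.conj_mem _ hh g⁻¹
  set c₀ := resK hM ⟨_, CfsgLib.Blocks.inv_natCast_mem_lRing hM hp⟩ with hc₀
  have hc1 : c₀ * (Nat.card N : ResK M) = 1 := by
    rw [← map_natCast (resK hM) (Nat.card N), hc₀, ← map_mul]
    refine (congrArg _ (Subtype.ext ?_)).trans (map_one _)
    show (Nat.card N : ℂ)⁻¹ * ((Nat.card N : lRing hM) : ℂ) = 1
    simp
  have hred : redFun hM c = c₀ • subSum (ResK M) N := by
    ext x
    rw [coeff_smul_apply, smul_eq_mul, coeff_subSum, coeff_redFun hM (hc x)]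
    by_cases hx : x ∈ N
    · rw [if_pos hx, mul_one]
      exact congrArg _ (Subtype.ext (if_pos hx))
    · rw [if_neg hx, mul_zero]
      exact (congrArg _ (Subtype.ext (if_neg hx))).trans (map_zero _)
  have := charP_res hM
  have hid : redFun hM c * redFun hM c = redFun hM c := by
    rw [hred, smul_mul_assoc, mul_smul_comm, subSum_mul fun m hm => single_mul_subSum hm,
      smul_smul, smul_smul, mul_assoc, hc1, mul_one]
  have hfix : redFun hM c * eG hM B = eG hM B := by
    rw [hred, smul_mul_assoc, subSum_mul h, smul_smul, hc1, one_smul]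
  have h1 := (mul_eq_iff_memLocalIdeal hM hB hχ hc hcl hid).1 hfix
  rw [omega_sum_eq] at h1
  change MemLocalIdeal M (Blocks.omega (χ : G → ℂ) (Blocks.avgElt N) - 1) at h1
  have h3 : Blocks.omega (χ : G → ℂ) (Blocks.avgElt N) * Blocks.omega (χ : G → ℂ) (Blocks.avgElt N) =
      Blocks.omega (χ : G → ℂ) (Blocks.avgElt N) := by
    rw [← Blocks.omega_mul χ (Blocks.avgElt_mem_center N), Blocks.isIdempotentElem_avgElt N]
  rcases mul_left_eq_self₀.1 h3 with h4 | h4
  · exact h4
  · rw [h4, zero_sub] at h1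
    exact absurd (by simpa using Blocks.MemLocalIdeal.neg hM h1)
      (Blocks.not_memLocalIdeal_one hM)

theorem kills_eA_of_blockKer (hM : IsPModular p M) {H : Subgroup G} {b : Set (IrrCharacter H)}
    {n : H} (hn : n ∈ blockKer b) : single (n : G) (1 : ResK M) * eA hM H b = eA hM H b := by
  let _ := Fintype.ofFinite H
  have h := congrArg (inclA (ResK M) H) (kills_eG_of_blockKer hM hn)
  rw [map_mul, inclA_eG] at h
  rwa [show inclA (ResK M) H (single n 1) = single (n : G) 1 from MonoidAlgebra.mapDomain_single]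
    at h

theorem blockKer_of_kills_eA (hM : IsPModular p M) {H : Subgroup G} {b : Set (IrrCharacter H)}
    (hb : IsPBlock M b) {N : Subgroup H} [N.Normal] (hp : ¬ p ∣ Nat.card N)
    (h : Kills (N.map H.subtype) (eA hM H b)) {n : H} (hn : n ∈ N) : n ∈ blockKer b := by
  let _ := Fintype.ofFinite H
  refine blockKer_of_kills hM hb hp (fun m hm => inclA_injective H ?_) hn
  rw [map_mul, inclA_eG,
    show inclA (ResK M) H (single m 1) = single (m : G) 1 from MonoidAlgebra.mapDomain_single]
  exact h _ ⟨m, hm, rfl⟩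

/-- The Brauer image of an induced block covers the pairs of the inducing block. -/
theorem cover_of_induced (hM : IsPModular p M) {H P : Subgroup G} (hP : IsPGroup p P)
    (hPH : P ≤ H) (hCH : cz P ≤ H) {b : Set (IrrCharacter H)} {B : Set (IrrCharacter G)}
    (hind : IsInducedBlock M H b B) {h : MonoidAlgebra (ResK M) G} (hh : IsBlockIdem (cz P) h)
    (hcov : brMap (ResK M) P (eA hM H b) * h = h) :
    brMap (ResK M) P (eG hM B) * h = h := by
  classical
  let _ := Fintype.ofFinite H
  have := charP_res hM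
  obtain ⟨hb, hB, hcong⟩ := hind
  obtain ⟨ξ, hξ⟩ := Blocks.IsPBlock.nonempty hM hb
  obtain ⟨χ, hχ⟩ := Blocks.IsPBlock.nonempty hM hB
  let c : H → ℂ := fun x => blockCoeff B (x : G)
  have hc : ∀ x, c x ∈ lRing hM := fun x => blockCoeff_mem hM hB _
  have hcl : ∀ g x, c (g * x * g⁻¹) = c x := fun g x => blockCoeff_conj B g x
  have hn := nilpotent_sub hM hb hξ hc hcl
  have hl : resK hM ⟨_, omega_sum_mem hM ξ hc hcl⟩ = 1 := by
    rw [← map_one (resK hM), resK_eq_iff]
    have h1 := BlockCover.sum_mul_congr_induced H hM ξ χ (hcong ξ hξ χ hχ)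
      (BlockCover.isClassFunction_blockCoeff B) (Blocks.memLocalRing_blockCoeff hM hB)
    rw [BlockCover.sum_blockCoeff_mul, if_pos hχ] at h1
    convert h1 using 2
    · show (∑ᶠ x : H, c x * (ξ : H → ℂ) x / (ξ : H → ℂ) 1) = _
      rw [finsum_eq_sum_of_fintype, Finset.sum_div]
    · simp
  rw [hl, one_smul] at hn
  have hn' := hn.map (inclA (ResK M) H)
  rw [map_sub, map_mul, inclA_eG] at hn'
  set t := inclA (ResK M) H (redFun hM c) with ht
  have hbe := isBlockIdem_eG hM hB
  have htP : t ∈ fixAlg (ResK M) P := by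
    refine fixAlg_anti hPH ?_
    rw [ht]
    refine mem_fixAlg_iff_coeff.2 fun g hg x => ?_
    by_cases hx : x ∈ H
    · rw [show (inclA (ResK M) H (redFun hM c)).coeff x = _ from coeff_inclA _ ⟨x, hx⟩,
        show (inclA (ResK M) H (redFun hM c)).coeff (g * x * g⁻¹) = _ from
          coeff_inclA _ (⟨g, hg⟩ * ⟨x, hx⟩ * ⟨g, hg⟩⁻¹)]
      exact coeff_redFun_congr hM (hcl _ _)
    · rw [coeff_inclA_of_notMem _ hx, coeff_inclA_of_notMem _ fun h' => hx (by
        simpa [mul_assoc] using H.mul_mem (H.mul_mem (H.inv_mem hg) h') hg)]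
  have hbt : brMap (ResK M) P t = brMap (ResK M) P (eG hM B) := by
    ext x
    by_cases hx : x ∈ cz P
    · rw [coeff_brMap_of_mem _ hx, coeff_brMap_of_mem _ hx, ht,
        show (inclA (ResK M) H (redFun hM c)).coeff x = _ from coeff_inclA _ ⟨x, hCH hx⟩]
      exact coeff_redFun_congr hM rfl
    · rw [coeff_brMap_of_notMem _ hx, coeff_brMap_of_notMem _ hx]
  have he0 : eA hM H b ∈ fixAlg (ResK M) P := fixAlg_anti hPH (isBlockIdem_eA hM hb).fixed
  obtain ⟨m, hm⟩ := hn'
  set Y := brMap (ResK M) P (t * eA hM H b - eA hM H b) with hY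
  have hYn : Y ^ m = 0 := by
    rw [hY, ← brMap_pow hP (Subalgebra.sub_mem _ (Subalgebra.mul_mem _ htP he0) he0), hm, map_zero]
  have hfP : eG hM B ∈ fixAlg (ResK M) P := fixAlg_anti le_top hbe.fixed
  have hYh : Y * h = brMap (ResK M) P (eG hM B) * h - h := by
    rw [hY, map_sub, brMap_mul hP htP he0, hbt, sub_mul, mul_assoc, hcov]
  refine (hh.mul_idem (brMap_mem_suppAlg _ _) (brMap_mem_fixAlg (cz_le_normalizer P)
    (fixAlg_anti le_top hbe.fixed)) (by rw [← brMap_mul hP hfP hfP, hbe.idem])).resolve_left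
      fun h0 => hh.ne_zero ?_
  rw [h0, zero_sub] at hYh
  exact eq_zero_of_nilpotent_mul (IsNilpotent.neg ⟨m, hYn⟩) (by rw [neg_mul, hYh, neg_neg])

/-- An inducing block with nonzero Brauer image gives a pair of the induced block. -/
theorem exists_pair_of_induced (hM : IsPModular p M) {H P : Subgroup G} (hP : IsPGroup p P)
    (hPH : P ≤ H) (hCH : cz P ≤ H) {b : Set (IrrCharacter H)} {B : Set (IrrCharacter G)}
    (hind : IsInducedBlock M H b B) (hne : brMap (ResK M) P (eA hM H b) ≠ 0) :
    ∃ h, OverPair p (⊥ : Subgroup G) (eG hM B) ⊤ P h ∧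
      brMap (ResK M) P (eA hM H b) * h = h := by
  have := charP_res hM
  have hb := isBlockIdem_eA hM hind.1
  have hfP : eA hM H b ∈ fixAlg (ResK M) P := fixAlg_anti hPH hb.fixed
  obtain ⟨s, hs, hsum⟩ := hasBlocks hM (G := G) (cz P)
  obtain ⟨h, hh, hmul⟩ : ∃ h ∈ s, brMap (ResK M) P (eA hM H b) * h ≠ 0 := by
    by_contra hcon
    simp only [not_exists, not_and, not_not] at hcon
    refine hne ?_
    rw [← mul_one (brMap (ResK M) P (eA hM H b)), ← hsum, Finset.mul_sum]
    exact Finset.sum_eq_zero hcon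
  have hcov := ((hs h hh).mul_idem (brMap_mem_suppAlg _ _) (brMap_mem_fixAlg (cz_le_normalizer P)
    (fixAlg_anti hCH hb.fixed)) (by rw [← brMap_mul hP hfP hfP, hb.idem])).resolve_left hmul
  exact ⟨h, ⟨hP, bot_le, le_top, hs h hh, cover_of_induced hM hP hPH hCH hind (hs h hh) hcov⟩,
    hcov⟩

/-- The pair on the defect group of a Brauer correspondent whose kernel contains the core. -/
theorem exists_killsPi_pair (hM : IsPModular p M) {π : Set ℕ} {B : Set (IrrCharacter G)}
    (hB : IsPBlock M B) {D : Subgroup G} (hBD : IsDefectGroup p M B D)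
    {B₁ : Set (IrrCharacter (Subgroup.normalizer (D : Set G)))}
    (hB₁ : IsInducedBlock M (Subgroup.normalizer (D : Set G)) B₁ B)
    (hB₁D : IsDefectGroup p M B₁ (D.subgroupOf (Subgroup.normalizer (D : Set G))))
    (hker : ∀ n : ↥(Subgroup.normalizer (D : Set G)),
      n ∈ piCore {q | q ∉ π} ↥(Subgroup.normalizer (D : Set G)) → n ∈ blockKer B₁) :
    IsDefect p (⊥ : Subgroup G) (eG hM B) ⊤ D ∧ ∃ h,
      OverPair p (⊥ : Subgroup G) (eG hM B) ⊤ D h ∧ KillsPi π D h := by
  have := charP_res hM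
  have hD := (isDefectGroup_iff hM hB D).1 hBD
  set N := Subgroup.normalizer (D : Set G)
  have hDN : D ≤ N := Subgroup.le_normalizer
  obtain ⟨h, hpair, hcov⟩ := exists_pair_of_induced hM hD.pgroup hDN (cz_le_normalizer D) hB₁
    (brMap_ne_zero_of_defect hM hDN hB₁.1 hB₁D)
  refine ⟨hD, h, hpair, fun K hK hKn hpi n hn => ?_⟩
  have h1 : piCoreOf {q | q ∉ π} (cz D) ≤ piCoreOf {q | q ∉ π} N :=
    CfsgLib.OddOrder.le_piCoreOf ((CfsgLib.OddOrder.piCoreOf_le _ _).trans (cz_le_normalizer D))
      ((normalizer_le_normalizer_cz D).trans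
        (CfsgLib.OddOrder.Transitivity.normalizer_le_normalizer_piCoreOf _ _))
      (CfsgLib.OddOrder.piNat_card_piCoreOf _ _)
  obtain ⟨m, hm, hmn⟩ := h1 (CfsgLib.OddOrder.le_piCoreOf hK hKn hpi hn)
  have h2 := congrArg (brMap (ResK M) D) (kills_eA_of_blockKer hM (hker m hm))
  rw [show ((m : N) : G) = n from hmn, brMap_single_mul (hK hn)] at h2
  conv_lhs => rw [← hcov, ← mul_assoc, h2, hcov]

/-- Every pair of the block satisfies the kernel condition. -/
theorem killsPi_of_correspondent (hM : IsPModular p M) {π : Set ℕ} (hpπ : p ∈ π)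
    {B : Set (IrrCharacter G)} (hB : IsPBlock M B) {D : Subgroup G}
    (hBD : IsDefectGroup p M B D)
    {B₁ : Set (IrrCharacter (Subgroup.normalizer (D : Set G)))}
    (hB₁ : IsInducedBlock M (Subgroup.normalizer (D : Set G)) B₁ B)
    (hB₁D : IsDefectGroup p M B₁ (D.subgroupOf (Subgroup.normalizer (D : Set G))))
    (hker : ∀ n : ↥(Subgroup.normalizer (D : Set G)),
      n ∈ piCore {q | q ∉ π} ↥(Subgroup.normalizer (D : Set G)) → n ∈ blockKer B₁)
    {R : Subgroup G} {h : MonoidAlgebra (ResK M) G}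
    (hR : OverPair p (⊥ : Subgroup G) (eG hM B) ⊤ R h) : KillsPi π R h := by
  have := charP_res hM
  obtain ⟨hD, hD', hpair, hk⟩ := exists_killsPi_pair hM hB hBD hB₁ hB₁D hker
  obtain ⟨t, -, hle⟩ := (brSetup_block hM hB).exists_conj_le (hasBlocks hM) hR hD hpair
  exact killsPi_of_conjPair (a := (R, h)) t (killsPi_of_pairLE hpπ hle hk)

end Dictionary

end CfsgLib.BrauerPairs
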