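import Cfsg.Agent.Lib.BrauerPairs.Setup

/-!
# Inclusion of Brauer pairs: existence and uniqueness of subpairs
-/

namespace CfsgLib.BrauerPairs

open MonoidAlgebra

variable {k : Type*} [Field k] {G : Type*} [Group G] [Fintype G]
variable {p : ℕ} [CharP k p] [Fact p.Prime]

omit [Fintype G] [CharP k p] [Fact p.Prime] in
theorem brMap_mem_fixAlg_of_block {Q R : Subgroup G} (hQR : Q ≤ R) {f : MonoidAlgebra k G}
    (hf : IsBlockIdem (cz Q) f) : brMap k R f ∈ fixAlg k (cz R) :=
  brMap_mem_fixAlg (cz_le_normalizer R) (fixAlg_anti (cz_anti hQR) hf.fixed)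

/-- Below a pair there is a pair on each normal subgroup. -/
theorem exists_normalSub (hk : HasBlocks k G) {Q R : Subgroup G} {h : MonoidAlgebra k G}
    (hQR : Q ≤ R) (hRQ : R ≤ Subgroup.normalizer (Q : Set G)) (hRp : IsPGroup p R)
    (hh : IsBlockIdem (cz R) h) : ∃ f, NormalSub p (Q, f) (R, h) := by
  classical
  obtain ⟨s, hs, hsum⟩ := hk (cz Q)
  have hperm : ∀ r : R, ∀ e ∈ s, conjA (r : G) e ∈ s := by
    intro r e he
    have hb := (hs e he).conjA (r : G)
    rw [map_conj_eq_self (normalizer_le_normalizer_cz Q (hRQ r.2))] at hb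
    have h1 : conjA (r : G) e = ∑ e' ∈ s, conjA (r : G) e * e' := by
      rw [← Finset.mul_sum, hsum, mul_one]
    by_contra hcon
    exact hb.ne_zero (h1.trans (Finset.sum_eq_zero fun e' he' =>
      hb.mul_eq_zero (hs e' he') fun hh' => hcon (hh' ▸ he')))
  let _ : MulAction R s :=
    { smul := fun r e => ⟨conjA (r : G) e.1, hperm r e.1 e.2⟩
      one_smul := fun e => Subtype.ext (conjA_one_left _)
      mul_smul := fun r r' e => Subtype.ext (conjA_mul_left _ _ _) }
  set F : s → MonoidAlgebra k G := fun e => brMap k R e.1 * h with hF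
  have hFinv : ∀ (r : R) (e : s), F (r • e) = F e := by
    intro r e
    show brMap k R (conjA (r : G) e.1) * h = brMap k R e.1 * h
    have h1 : conjA (r : G) (brMap k R e.1) = brMap k R (conjA (r : G) e.1) := by
      rw [conjA_brMap, map_conj_eq_self (Subgroup.le_normalizer r.2)]
    rw [← h1, fixed_of_supp_cz (brMap_mem_suppAlg R e.1) r r.2]
  have hFsum : ∑ e : s, F e = h := by
    rw [hF, ← Finset.sum_mul, ← map_sum, Finset.sum_coe_sort s (fun e => e), hsum, brMap_one,
      one_mul]
  have hfixsum : h = ∑ e ∈ Finset.univ.filter (fun e => e ∈ MulAction.fixedPoints R s), F e := by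
    conv_lhs => rw [← hFsum]
    ext x
    rw [coeff_sum, coeff_sum, Finsupp.finsetSum_apply, Finsupp.finsetSum_apply]
    exact sum_eq_sum_fixedPoints (p := p) hRp _ fun r e => by rw [hFinv]
  obtain ⟨e, he, hne⟩ : ∃ e ∈ Finset.univ.filter (fun e => e ∈ MulAction.fixedPoints R s),
      F e ≠ 0 := by
    by_contra hcon
    simp only [not_exists, not_and, not_not] at hcon
    exact hh.ne_zero (hfixsum.trans (Finset.sum_eq_zero hcon))
  have hefix : e.1 ∈ fixAlg k R := fun r hr =>
    congrArg Subtype.val ((Finset.mem_filter.1 he).2 ⟨r, hr⟩)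
  have hidem : brMap k R e.1 * brMap k R e.1 = brMap k R e.1 := by
    rw [← brMap_mul hRp hefix hefix, (hs e.1 e.2).idem]
  refine ⟨e.1, ⟨hRp.to_le hQR, hRp, hs e.1 e.2, hh, hQR, hRQ, hefix, ?_⟩⟩
  exact (hh.mul_idem (brMap_mem_suppAlg R e.1) (brMap_mem_fixAlg_of_block hQR (hs e.1 e.2))
    hidem).resolve_left hne

/-- The pair below on a normal subgroup is unique. -/
theorem normalSub_unique {Q : Subgroup G} {f f' : MonoidAlgebra k G}
    {b : Subgroup G × MonoidAlgebra k G} (h1 : NormalSub p (Q, f) b) (h2 : NormalSub p (Q, f') b) :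
    f = f' := by
  by_contra hne
  apply h1.block_right.ne_zero
  calc b.2 = brMap k b.1 f * (brMap k b.1 f' * b.2) := by rw [h2.cover, h1.cover]
    _ = brMap k b.1 (f * f') * b.2 := by
      rw [brMap_mul h1.pgroup_right h1.fixed h2.fixed, mul_assoc]
    _ = 0 := by rw [h1.block_left.mul_eq_zero h2.block_left hne, map_zero, zero_mul]

/-- Below a pair there is a pair on each subgroup. -/
theorem exists_pairLE (hk : HasBlocks k G) {Q R : Subgroup G} {h : MonoidAlgebra k G}
    (hQR : Q ≤ R) (hRp : IsPGroup p R) (hh : IsBlockIdem (cz R) h) :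
    ∃ f, IsBlockIdem (cz Q) f ∧ PairLE p (Q, f) (R, h) := by
  induction hn : Nat.card R - Nat.card Q using Nat.strong_induction_on generalizing Q with
  | _ n ih =>
    by_cases hQ : Q = R
    · subst hQ; exact ⟨h, hh, Relation.ReflTransGen.refl⟩
    set Q1 := R ⊓ Subgroup.normalizer (Q : Set G) with hQ1
    have hlt : Q < Q1 := by
      refine lt_of_le_of_ne (le_inf hQR Subgroup.le_normalizer) fun heq => ?_
      have := hRp.isNilpotent
      have hlt' : Q.subgroupOf R < ⊤ := by
        refine lt_top_iff_ne_top.2 fun htop => hQ (le_antisymm hQR ?_)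
        rwa [Subgroup.subgroupOf_eq_top] at htop
      obtain ⟨x, hxn, hxQ⟩ := SetLike.exists_of_lt
        (Group.normalizerCondition_of_isNilpotent (G := R) _ hlt')
      apply hxQ
      rw [Subgroup.mem_subgroupOf]
      suffices hn' : (x : G) ∈ Subgroup.normalizer (Q : Set G) from
        heq.symm ▸ (⟨x.2, hn'⟩ : (x : G) ∈ Q1)
      intro y
      simp only [SetLike.mem_coe]
      constructor
      · intro hy
        exact (hxn ⟨y, hQR hy⟩).1 hy
      · intro hy
        have hyR : y ∈ R := by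
          have h3 := R.mul_mem (R.mul_mem (R.inv_mem x.2) (hQR hy)) x.2
          simpa [mul_assoc] using h3
        exact (hxn ⟨y, hyR⟩).2 hy
    have h1 : Nat.card Q < Nat.card Q1 := lt_of_le_of_ne (Subgroup.card_le_of_le hlt.le)
      fun hh => hlt.ne (Subgroup.eq_of_le_of_card_ge hlt.le hh.ge)
    have h2 : Nat.card Q1 ≤ Nat.card R := Subgroup.card_le_of_le inf_le_left
    obtain ⟨g, hg, hle⟩ := ih _ (by omega) (Q := Q1) inf_le_left rfl
    obtain ⟨f, hf⟩ := exists_normalSub hk hlt.le inf_le_right (hRp.to_le inf_le_left) hg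
    exact ⟨f, hf.block_left, Relation.ReflTransGen.head hf hle⟩

omit [CharP k p] [Fact p.Prime] in
theorem NormalSub.eq_of_eq {a b : Subgroup G × MonoidAlgebra k G} (h : NormalSub p a b)
    (he : a.1 = b.1) : a = b := by
  refine Prod.ext he ?_
  have hb : IsBlockIdem (cz a.1) b.2 := he ▸ h.block_right
  have hcov := h.cover
  rw [← he, brMap_eq_self h.block_left.supp] at hcov
  exact h.block_left.eq_of_mul_ne_zero hb (hcov.symm ▸ hb.ne_zero)

omit [CharP k p] [Fact p.Prime] in
theorem PairLE.eq_or_strict {a b : Subgroup G × MonoidAlgebra k G} (h : PairLE p a b) :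
    a = b ∨ ∃ c, NormalSub p a c ∧ a.1 < c.1 ∧ PairLE p c b := by
  induction h using Relation.ReflTransGen.head_induction_on with
  | refl => exact Or.inl rfl
  | @head x y hxy hy ih =>
    by_cases he : x.1 = y.1
    · rw [hxy.eq_of_eq he]; exact ih
    · exact Or.inr ⟨y, hxy, lt_of_le_of_ne hxy.le he, hy⟩

theorem NormalSub.sandwich {Q : Subgroup G} {f : MonoidAlgebra k G}
    {c b : Subgroup G × MonoidAlgebra k G} (h0 : NormalSub p (Q, f) b) (hcb : NormalSub p c b)
    (hQc : Q ≤ c.1) : NormalSub p (Q, f) c := by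
  refine ⟨h0.pgroup_left, hcb.pgroup_left, h0.block_left, hcb.block_left, hQc,
    hcb.le.trans h0.le_norm, fixAlg_anti hcb.le h0.fixed, ?_⟩
  have hfc : f ∈ fixAlg k c.1 := fixAlg_anti hcb.le h0.fixed
  have hidem : brMap k c.1 f * brMap k c.1 f = brMap k c.1 f := by
    rw [← brMap_mul hcb.pgroup_left hfc hfc, h0.block_left.idem]
  refine (hcb.block_left.mul_idem (brMap_mem_suppAlg _ f)
    (brMap_mem_fixAlg_of_block hQc h0.block_left) hidem).resolve_left fun hz =>
      hcb.block_right.ne_zero ?_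
  have hX : brMap k c.1 f ∈ fixAlg k b.1 := brMap_mem_fixAlg hcb.le_norm h0.fixed
  have h1 := congrArg (brMap k b.1) hz
  rw [map_zero, brMap_mul hcb.pgroup_right hX hcb.fixed, brMap_brMap_of_le hcb.le] at h1
  calc b.2 = brMap k b.1 f * (brMap k b.1 c.2 * b.2) := by rw [hcb.cover, h0.cover]
    _ = 0 := by rw [← mul_assoc, h1, zero_mul]

theorem NormalSub.of_pairLE {Q : Subgroup G} {f : MonoidAlgebra k G}
    {c b : Subgroup G × MonoidAlgebra k G} (h0 : NormalSub p (Q, f) b) (hcb : PairLE p c b)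
    (hQc : Q ≤ c.1) : NormalSub p (Q, f) c := by
  induction hcb using Relation.ReflTransGen.head_induction_on with
  | refl => exact h0
  | @head x y hxy _ ih => exact (ih (hQc.trans hxy.le)).sandwich hxy hQc

/-- Below a pair there is exactly one pair on each subgroup. -/
theorem pairLE_unique (hk : HasBlocks k G) {Q : Subgroup G} {f f' : MonoidAlgebra k G}
    {b : Subgroup G × MonoidAlgebra k G} (hb : IsBlockIdem (cz b.1) b.2) (hbp : IsPGroup p b.1)
    (h1 : PairLE p (Q, f) b) (h2 : PairLE p (Q, f') b) : f = f' := by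
  induction hn : Nat.card b.1 - Nat.card Q using Nat.strong_induction_on generalizing Q f f' with
  | _ n ih =>
    have hsmaller : ∀ S : Subgroup G, Q < S → S ≤ b.1 →
        Nat.card b.1 - Nat.card S < n := fun S hQS hSb => by
      have h1 : Nat.card Q < Nat.card S := lt_of_le_of_ne (Subgroup.card_le_of_le hQS.le)
        fun hh => hQS.ne (Subgroup.eq_of_le_of_card_ge hQS.le hh.ge)
      have h2 : Nat.card S ≤ Nat.card b.1 := Subgroup.card_le_of_le hSb
      omega
    rcases h1.eq_or_strict with e1 | ⟨c1, hc1, hlt1, hle1⟩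
    · rcases h2.eq_or_strict with e2 | ⟨c2, hc2, hlt2, hle2⟩
      · exact congrArg Prod.snd (e1.trans e2.symm)
      · exact absurd (hlt2.trans_le hle2.le) (by rw [show Q = b.1 from congrArg Prod.fst e1]; exact lt_irrefl _)
    rcases h2.eq_or_strict with e2 | ⟨c2, hc2, hlt2, hle2⟩
    · exact absurd (hlt1.trans_le hle1.le) (by rw [show Q = b.1 from congrArg Prod.fst e2]; exact lt_irrefl _)
    set N := b.1 ⊓ Subgroup.normalizer (Q : Set G) with hN
    have hc1N : c1.1 ≤ N := le_inf hle1.le hc1.le_norm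
    have hc2N : c2.1 ≤ N := le_inf hle2.le hc2.le_norm
    have hNp : IsPGroup p N := hbp.to_le inf_le_left
    obtain ⟨h, hh, hNle⟩ := exists_pairLE hk (inf_le_left : N ≤ b.1) hbp hb
    obtain ⟨g1, hg1, hle1'⟩ := exists_pairLE hk hc1N hNp hh
    obtain ⟨g2, hg2, hle2'⟩ := exists_pairLE hk hc2N hNp hh
    have e1 : g1 = c1.2 := ih _ (hsmaller _ hlt1 hle1.le) (hle1'.trans hNle) hle1 rfl
    have e2 : g2 = c2.2 := ih _ (hsmaller _ hlt2 hle2.le) (hle2'.trans hNle) hle2 rfl
    obtain ⟨f0, hf0⟩ := exists_normalSub hk ((le_of_lt hlt1).trans hc1N) inf_le_right hNp hh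
    subst e1 e2
    have k1 := hf0.of_pairLE hle1' (le_of_lt hlt1)
    have k2 := hf0.of_pairLE hle2' (le_of_lt hlt2)
    exact (normalSub_unique hc1 k1).trans (normalSub_unique hc2 k2).symm

/-- A subpair covers the same block idempotents of `k[G]`. -/
theorem brMap_cover_iff {a c : Subgroup G × MonoidAlgebra k G} (h : PairLE p a c)
    {b : MonoidAlgebra k G} (hbf : b ∈ fixAlg k (⊤ : Subgroup G)) (hb : b * b = b) :
    brMap k a.1 b * a.2 = a.2 ↔ brMap k c.1 b * c.2 = c.2 := by
  induction h using Relation.ReflTransGen.head_induction_on with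
  | refl => exact Iff.rfl
  | @head x y hxy _ ih =>
    rw [← ih]
    have hbx : brMap k x.1 b ∈ fixAlg k y.1 :=
      brMap_mem_fixAlg hxy.le_norm (fixAlg_anti le_top hbf)
    have hcalc : brMap k y.1 (brMap k x.1 b * x.2) * y.2 = brMap k y.1 b * y.2 := by
      rw [brMap_mul hxy.pgroup_right hbx hxy.fixed, brMap_brMap_of_le hxy.le, mul_assoc, hxy.cover]
    constructor
    · intro hx
      rw [← hcalc, hx, hxy.cover]
    · intro hy
      have hbcz : brMap k x.1 b ∈ fixAlg k (cz x.1) :=
        brMap_mem_fixAlg (cz_le_normalizer _) (fixAlg_anti le_top hbf)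
      have hbfix : b ∈ fixAlg k x.1 := fixAlg_anti le_top hbf
      refine (hxy.block_left.mul_idem (brMap_mem_suppAlg _ b) hbcz
        (by rw [← brMap_mul hxy.pgroup_left hbfix hbfix, hb])).resolve_left fun hz => ?_
      rw [hz, map_zero, zero_mul] at hcalc
      exact hxy.block_right.ne_zero (hy ▸ hcalc.symm)

end CfsgLib.BrauerPairs
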