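import Cfsg.Agent.Lib.BrauerPairs.Setup
import Cfsg.Agent.Lib.Blocks.Idempotent

/-!
# Block idempotents over the residue field
-/

namespace CfsgLib.BrauerPairs

open Cfsg MonoidAlgebra
open CfsgLib.Blocks (lRing lRes lRes_eq_zero_iff lRes_eq_iff)

variable {p : ℕ} {M : Ideal AlgInt}

/-- The residue field at the maximal ideal `M`. -/
def ResK (M : Ideal AlgInt) : Type := AlgInt ⧸ M

noncomputable instance instFieldResK (M : Ideal AlgInt) [M.IsMaximal] : Field (ResK M) :=
  Ideal.Quotient.field M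

variable [M.IsMaximal] {G : Type*} [Group G] [Finite G]

/-- The residue map to `ResK M`. -/
noncomputable def resK (hM : IsPModular p M) : lRing hM →+* ResK M := lRes hM

theorem resK_eq_zero_iff (hM : IsPModular p M) (z : lRing hM) :
    resK hM z = 0 ↔ MemLocalIdeal M (z : ℂ) := lRes_eq_zero_iff hM z

theorem resK_eq_iff (hM : IsPModular p M) (x y : lRing hM) :
    resK hM x = resK hM y ↔ MemLocalIdeal M ((x : ℂ) - y) := lRes_eq_iff hM x y

/-- The element of the group algebra over the residue field with coefficients the residues of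
the local integers `c`. -/
noncomputable def redFun (hM : IsPModular p M) (c : G → ℂ) : MonoidAlgebra (ResK M) G :=
  Blocks.ofFun fun g => by classical exact if h : c g ∈ lRing hM then resK hM ⟨c g, h⟩ else 0

theorem coeff_redFun (hM : IsPModular p M) {c : G → ℂ} {g : G} (h : c g ∈ lRing hM) :
    (redFun hM c).coeff g = resK hM ⟨c g, h⟩ := by
  classical
  rw [redFun, Blocks.coeff_ofFun, dif_pos h]

theorem coeff_redFun_congr (hM : IsPModular p M) {H : Type*} [Group H] [Finite H] {c : H → ℂ}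
    {c' : G → ℂ} {g : H} {g' : G}
    (h : c g = c' g') : (redFun hM c).coeff g = (redFun hM c').coeff g' := by
  classical
  simp only [redFun, Blocks.coeff_ofFun, h]

/-- The idempotent of a set of characters of `G`, reduced. -/
noncomputable def eG (hM : IsPModular p M) (B : Set (IrrCharacter G)) :
    MonoidAlgebra (ResK M) G :=
  redFun hM (blockCoeff B)

theorem resK_surjective (hM : IsPModular p M) : Function.Surjective (resK hM) := by
  intro x
  obtain ⟨a, ha⟩ := Ideal.Quotient.mk_surjective (I := M) x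
  exact ⟨⟨(a : ℂ), Blocks.coe_mem_lRing hM a⟩, (Blocks.lRes_coe hM a).trans ha⟩

theorem redFun_mapRingHom (hM : IsPModular p M) (w : MonoidAlgebra (lRing hM) G) :
    redFun hM ((MonoidAlgebra.mapRingHom G (lRing hM).subtype w).coeff ·) =
      MonoidAlgebra.mapRingHom G (resK hM) w := by
  ext x
  have hx : (MonoidAlgebra.mapRingHom G (lRing hM).subtype w).coeff x ∈ lRing hM := by simp
  rw [coeff_redFun hM hx]
  simp

/-- Elements with local integral coefficients lift to the local group ring. -/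
theorem exists_lift (hM : IsPModular p M) {a : MonoidAlgebra ℂ G}
    (ha : ∀ x, a.coeff x ∈ lRing hM) :
    ∃ u : MonoidAlgebra (lRing hM) G, MonoidAlgebra.mapRingHom G (lRing hM).subtype u = a :=
  ⟨Blocks.ofFun fun x => ⟨a.coeff x, ha x⟩, by ext x; simp⟩

/-- Reduction is multiplicative. -/
theorem redFun_mul (hM : IsPModular p M) {a b : MonoidAlgebra ℂ G}
    (ha : ∀ x, a.coeff x ∈ lRing hM) (hb : ∀ x, b.coeff x ∈ lRing hM) :
    redFun hM ((a * b).coeff ·) = redFun hM (a.coeff ·) * redFun hM (b.coeff ·) := by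
  obtain ⟨u, rfl⟩ := exists_lift hM ha
  obtain ⟨v, rfl⟩ := exists_lift hM hb
  rw [← map_mul, redFun_mapRingHom, redFun_mapRingHom, redFun_mapRingHom, map_mul]

theorem coeff_mul_mem (hM : IsPModular p M) {a b : MonoidAlgebra ℂ G}
    (ha : ∀ x, a.coeff x ∈ lRing hM) (hb : ∀ x, b.coeff x ∈ lRing hM) (x : G) :
    (a * b).coeff x ∈ lRing hM := by
  obtain ⟨u, rfl⟩ := exists_lift hM ha
  obtain ⟨v, rfl⟩ := exists_lift hM hb
  rw [← map_mul]
  show _ ∈ lRing hM
  rw [coeff_mapRingHom]
  exact ((u * v).coeff x).2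

theorem redFun_sub (hM : IsPModular p M) {a b : G → ℂ}
    (ha : ∀ x, a x ∈ lRing hM) (hb : ∀ x, b x ∈ lRing hM) :
    redFun hM (a - b) = redFun hM a - redFun hM b := by
  ext x
  rw [coeff_sub, Finsupp.sub_apply, coeff_redFun hM (ha x), coeff_redFun hM (hb x),
    coeff_redFun (c := a - b) hM (Subring.sub_mem _ (ha x) (hb x)), ← map_sub]
  rfl

theorem redFun_smul (hM : IsPModular p M) (r : lRing hM) {a : G → ℂ}
    (ha : ∀ x, a x ∈ lRing hM) :
    redFun hM ((r : ℂ) • a) = resK hM r • redFun hM a := by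
  ext x
  rw [coeff_smul_apply, smul_eq_mul, coeff_redFun hM (ha x),
    coeff_redFun (c := (r : ℂ) • a) hM (Subring.mul_mem _ r.2 (ha x)), ← map_mul]
  rfl

theorem blockCoeff_mem (hM : IsPModular p M) {B : Set (IrrCharacter G)} (hB : IsPBlock M B)
    (g : G) : blockCoeff B g ∈ lRing hM :=
  letI := Fintype.ofFinite G
  Blocks.memLocalRing_blockCoeff hM hB g

theorem omega_sum_eq [Fintype G] (ξ : IrrCharacter G) (c : G → ℂ) :
    (∑ᶠ x : G, c x * (ξ : G → ℂ) x / (ξ : G → ℂ) 1) =
      Blocks.omega (ξ : G → ℂ) (Blocks.ofFun c) := by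
  rw [finsum_eq_sum_of_fintype, Blocks.omega_ofFun, Finset.sum_div]

theorem ofFun_mem_center {c : G → ℂ} (hcl : ∀ g x, c (g * x * g⁻¹) = c x) :
    Blocks.ofFun c ∈ Subalgebra.center ℂ (MonoidAlgebra ℂ G) :=
  (Blocks.mem_center_iff_coeff _).2 fun g h => by simp [hcl h g]

theorem omega_sum_mem (hM : IsPModular p M) (ξ : IrrCharacter G) {c : G → ℂ}
    (hc : ∀ x, c x ∈ lRing hM) (hcl : ∀ g x, c (g * x * g⁻¹) = c x) :
    (∑ᶠ x : G, c x * (ξ : G → ℂ) x / (ξ : G → ℂ) 1) ∈ lRing hM := by
  let _ := Fintype.ofFinite G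
  rw [omega_sum_eq]
  exact Blocks.omega_mem_lRing hM ξ (ofFun_mem_center hcl) (fun x => by simpa using hc x)

theorem exists_defectClass (hM : IsPModular p M) {B : Set (IrrCharacter G)} (hB : IsPBlock M B) :
    ∃ g : G, IsDefectClass M B g :=
  letI := Fintype.ofFinite G
  Blocks.exists_isDefectClass hM hB

theorem eG_eq_redFun [Fintype G] (hM : IsPModular p M) (B : Set (IrrCharacter G)) :
    eG hM B = redFun hM ((Blocks.blockIdem B).coeff ·) := by
  simp [eG]

theorem eG_ne_zero (hM : IsPModular p M) {B : Set (IrrCharacter G)} (hB : IsPBlock M B) :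
    eG hM B ≠ 0 := by
  obtain ⟨g, hg, hg', -⟩ := exists_defectClass hM hB
  intro h
  apply hg'
  have h2 := coeff_redFun hM (c := blockCoeff B) hg
  rw [← eG, h, coeff_zero, Finsupp.zero_apply] at h2
  exact (resK_eq_zero_iff hM _).1 h2.symm

theorem eG_mul (hM : IsPModular p M) {B B' : Set (IrrCharacter G)} (hB : IsPBlock M B)
    (hB' : IsPBlock M B') : eG hM B * eG hM B' = eG hM (B ∩ B') := by
  let _ := Fintype.ofFinite G
  rw [eG_eq_redFun, eG_eq_redFun, eG_eq_redFun, ← Blocks.blockIdem_mul,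
    redFun_mul hM (fun x => by simpa using blockCoeff_mem hM hB x)
      (fun x => by simpa using blockCoeff_mem hM hB' x)]

theorem eG_inj (hM : IsPModular p M) {B B' : Set (IrrCharacter G)} (hB : IsPBlock M B)
    (hB' : IsPBlock M B') (h : eG hM B = eG hM B') : B = B' := by
  by_contra hne
  have hdisj : B ∩ B' = ∅ := Set.eq_empty_iff_forall_notMem.2 fun χ hχ => hne
    ((Blocks.IsPBlock.eq_blockOf hM hB hχ.1).trans (Blocks.IsPBlock.eq_blockOf hM hB' hχ.2).symm)
  apply eG_ne_zero hM hB
  have h1 := eG_mul hM hB hB'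
  rw [← h, hdisj, eG_mul hM hB hB, Set.inter_self] at h1
  rw [h1]
  ext x
  rw [eG, coeff_redFun hM (c := blockCoeff (∅ : Set (IrrCharacter G)))
    (by simp [blockCoeff, Subring.zero_mem]), coeff_zero, Finsupp.zero_apply]
  simp only [blockCoeff, finsum_mem_empty, mul_zero]
  exact map_zero (resK hM)

theorem nilpotent_sub (hM : IsPModular p M) {B : Set (IrrCharacter G)} (hB : IsPBlock M B)
    {ξ : IrrCharacter G} (hξ : ξ ∈ B) {c : G → ℂ} (hc : ∀ x, c x ∈ lRing hM)
    (hcl : ∀ g x, c (g * x * g⁻¹) = c x) :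
    IsNilpotent (redFun hM c * eG hM B - resK hM ⟨_, omega_sum_mem hM ξ hc hcl⟩ • eG hM B) := by
  classical
  let _ := Fintype.ofFinite G
  set l : lRing hM := ⟨_, omega_sum_mem hM ξ hc hcl⟩ with hl
  set e := Blocks.blockIdem B with he
  have hec := Blocks.blockIdem_mem_center B
  have hee : e * e = e := Blocks.isIdempotentElem_blockIdem B
  have heR : ∀ x, e.coeff x ∈ lRing hM := fun x => by simpa [he] using blockCoeff_mem hM hB x
  set z := Blocks.ofFun c with hz
  have hzc := ofFun_mem_center hcl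
  have hzR : ∀ x, z.coeff x ∈ lRing hM := fun x => by simpa [hz] using hc x
  set w := z * e - (l : ℂ) • e with hw
  have hwc : w ∈ Subalgebra.center ℂ (MonoidAlgebra ℂ G) :=
    Subalgebra.sub_mem _ (Subalgebra.mul_mem _ hzc hec) (Subalgebra.smul_mem _ hec _)
  have hwR : ∀ x, w.coeff x ∈ lRing hM := fun x => by
    rw [hw, coeff_sub, Finsupp.sub_apply, coeff_smul_apply, smul_eq_mul]
    exact Subring.sub_mem _ (coeff_mul_mem hM hzR heR x) (Subring.mul_mem _ l.2 (heR x))
  have hwe : w * e = w := by rw [hw, sub_mul, mul_assoc, hee, smul_mul_assoc, hee]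
  obtain ⟨u, hu⟩ := exists_lift hM hwR
  obtain ⟨v, hv⟩ := exists_lift hM heR
  set m := Finset.univ.filter (· ∈ B)
  let r : IrrCharacter G → lRing hM := fun ψ =>
    ⟨Blocks.omega (ψ : G → ℂ) w, Blocks.omega_mem_lRing hM ψ hwc hwR⟩
  have hr : ∀ ψ ∈ m, resK hM (r ψ) = 0 := by
    intro ψ hψ
    have hψB := (Finset.mem_filter.1 hψ).2
    refine (resK_eq_zero_iff hM _).2 ?_
    show MemLocalIdeal M (Blocks.omega (ψ : G → ℂ) w)
    rw [hw, map_sub, map_smul, Blocks.omega_mul ψ hzc, Blocks.omega_blockIdem, if_pos hψB,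
      mul_one, smul_eq_mul, mul_one, hl]
    simp only [omega_sum_eq]
    exact Blocks.omega_congr_of_sameBlock hM
      (Blocks.SameBlock.symm hM ((Blocks.IsPBlock.mem_iff hM hB hξ ψ).1 hψB)) hzc hzR
  have hinj : Function.Injective (MonoidAlgebra.mapRingHom G (lRing hM).subtype) := by
    intro a b hab
    ext x
    have := congrArg (fun t => t.coeff x) hab
    simpa using this
  set P : Polynomial (lRing hM) := ∏ ψ ∈ m, (Polynomial.X - Polynomial.C (r ψ))
  have hev : ∀ (φ : IrrCharacter G) (Q : Polynomial ℂ),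
      Polynomial.aeval w Q ∈ Subalgebra.center ℂ (MonoidAlgebra ℂ G) ∧
      Blocks.omega (φ : G → ℂ) (Polynomial.aeval w Q) =
        Q.eval (Blocks.omega (φ : G → ℂ) w) := by
    intro φ Q
    induction Q using Polynomial.induction_on' with
    | add Q R hQ hR =>
      exact ⟨by rw [map_add]; exact Subalgebra.add_mem _ hQ.1 hR.1,
        by rw [map_add, map_add, hQ.2, hR.2, Polynomial.eval_add]⟩
    | monomial n a =>
      rw [Polynomial.aeval_monomial, Algebra.algebraMap_eq_smul_one, smul_mul_assoc, one_mul]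
      exact ⟨Subalgebra.smul_mem _ (Subalgebra.pow_mem _ hwc n) _, by
        rw [map_smul, Blocks.omega_pow φ hwc, Polynomial.eval_monomial, smul_eq_mul]⟩
  have hzero : Polynomial.aeval w (P.map (lRing hM).subtype) * e = 0 := by
    refine Blocks.central_ext (Subalgebra.mul_mem _ (hev ξ _).1 hec) (Subalgebra.zero_mem _)
      fun φ => ?_
    rw [Blocks.omega_mul φ (hev φ _).1, (hev φ _).2, map_zero, he, Blocks.omega_blockIdem]
    by_cases hφ : φ ∈ B
    · rw [if_pos hφ, mul_one, Polynomial.map_prod, Polynomial.eval_prod]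
      exact Finset.prod_eq_zero (i := φ) (by simp [m, hφ]) (by simp [r])
    · rw [if_neg hφ, mul_zero]
  have hlift : Polynomial.eval₂ (algebraMap (lRing hM) (MonoidAlgebra (lRing hM) G)) u P * v = 0 := by
    apply hinj
    have hcomp : (MonoidAlgebra.mapRingHom G (lRing hM).subtype).comp
        (algebraMap (lRing hM) (MonoidAlgebra (lRing hM) G)) =
        (algebraMap ℂ (MonoidAlgebra ℂ G)).comp (lRing hM).subtype := by
      refine RingHom.ext fun a => ?_
      simp
    rw [map_mul, Polynomial.hom_eval₂, map_zero, hv, hu, hcomp, ← Polynomial.eval₂_map]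
    exact hzero
  have hred := congrArg (MonoidAlgebra.mapRingHom G (resK hM)) hlift
  have hcomp' : (MonoidAlgebra.mapRingHom G (resK hM)).comp
      (algebraMap (lRing hM) (MonoidAlgebra (lRing hM) G)) =
      (algebraMap (ResK M) (MonoidAlgebra (ResK M) G)).comp (resK hM) := by
    refine RingHom.ext fun a => ?_
    simp
  have hPmap : P.map (resK hM) = Polynomial.X ^ m.card := by
    rw [Polynomial.map_prod, Finset.prod_congr rfl (g := fun _ => Polynomial.X) (fun ψ hψ => by
      rw [Polynomial.map_sub, Polynomial.map_X, Polynomial.map_C, hr ψ hψ, map_zero, sub_zero]),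
      Finset.prod_const]
  rw [map_mul, Polynomial.hom_eval₂, map_zero, hcomp', ← Polynomial.eval₂_map, hPmap,
    Polynomial.eval₂_X_pow] at hred
  have key : redFun hM c * eG hM B - resK hM l • eG hM B =
      MonoidAlgebra.mapRingHom G (resK hM) u := by
    rw [← redFun_mapRingHom, hu, eG_eq_redFun, ← he]
    have h3 : redFun hM (w.coeff ·) =
        redFun hM ((fun x => (z * e).coeff x) - (l : ℂ) • (fun x => e.coeff x)) := by
      congr 1
    rw [h3, redFun_sub hM (a := fun x => (z * e).coeff x) (b := (l : ℂ) • fun x => e.coeff x)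
        (coeff_mul_mem hM hzR heR) (fun x => Subring.mul_mem _ l.2 (heR x)), redFun_smul hM l heR,
        redFun_mul hM hzR heR]
    simp [hz]
  rw [key]
  have h4 : MonoidAlgebra.mapRingHom G (resK hM) u * MonoidAlgebra.mapRingHom G (resK hM) v =
      MonoidAlgebra.mapRingHom G (resK hM) u := by
    rw [← map_mul]
    congr 1
    exact hinj (by rw [map_mul, hu, hv, hwe])
  refine ⟨m.card + 1, ?_⟩
  calc MonoidAlgebra.mapRingHom G (resK hM) u ^ (m.card + 1)
      = MonoidAlgebra.mapRingHom G (resK hM) u *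
        (MonoidAlgebra.mapRingHom G (resK hM) u ^ m.card * MonoidAlgebra.mapRingHom G (resK hM) v) := by
        conv_rhs => rw [← mul_assoc, ← pow_succ', pow_succ, mul_assoc, h4]
        exact pow_succ _ _
    _ = 0 := by rw [hred, mul_zero]

theorem isBlockIdem_eG (hM : IsPModular p M) {B : Set (IrrCharacter G)} (hB : IsPBlock M B) :
    IsBlockIdem (⊤ : Subgroup G) (eG hM B) := by
  obtain ⟨ξ, hξ⟩ := Blocks.IsPBlock.nonempty hM hB
  refine ⟨mem_suppAlg_top _, mem_fixAlg_iff_coeff.2 fun g _ x => ?_, ?_, eG_ne_zero hM hB,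
    fun z _ hz => ?_⟩
  · let _ := Fintype.ofFinite G
    exact coeff_redFun_congr hM (Blocks.blockCoeff_conj B x g)
  · rw [eG_mul hM hB hB, Set.inter_self]
  · let c : G → ℂ := fun x => (Function.surjInv (resK_surjective hM) (z.coeff x) : lRing hM)
    have hc : ∀ x, c x ∈ lRing hM := fun x => (Function.surjInv (resK_surjective hM) (z.coeff x)).2
    have hcl : ∀ g x, c (g * x * g⁻¹) = c x := fun g x => by
      simp only [c, mem_fixAlg_iff_coeff.1 hz g (Subgroup.mem_top g) x]
    refine ⟨resK hM ⟨_, omega_sum_mem hM ξ hc hcl⟩, ?_⟩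
    have hz' : z = redFun hM c := by
      ext x
      rw [coeff_redFun hM (hc x)]
      exact (Function.surjInv_eq (resK_surjective hM) (z.coeff x)).symm
    rw [hz']
    exact nilpotent_sub hM hB hξ hc hcl

theorem exists_eG_decomp (hM : IsPModular p M) (G : Type*) [Group G] [Finite G] :
    ∃ s : Finset (MonoidAlgebra (ResK M) G),
      (∀ e ∈ s, ∃ B : Set (IrrCharacter G), IsPBlock M B ∧ eG hM B = e) ∧ ∑ e ∈ s, e = 1 := by
  classical
  let _ := Fintype.ofFinite G
  set S : Finset (Set (IrrCharacter G)) :=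
    Finset.univ.image fun χ : IrrCharacter G => blockOf M (χ : G → ℂ) with hS
  have hSB : ∀ B ∈ S, IsPBlock M B := by
    intro B hB
    obtain ⟨χ, -, rfl⟩ := Finset.mem_image.1 hB
    exact ⟨χ, rfl⟩
  refine ⟨S.image (eG hM), fun e he => ?_, ?_⟩
  · obtain ⟨B, hB, rfl⟩ := Finset.mem_image.1 he
    exact ⟨B, hSB B hB, rfl⟩
  rw [Finset.sum_image fun B hB B' hB' h => eG_inj hM (hSB B hB) (hSB B' hB') h]
  have hsum : ∑ B ∈ S, Blocks.blockIdem B = (1 : MonoidAlgebra ℂ G) := by
    refine Blocks.central_ext (Subalgebra.sum_mem _ fun B _ => Blocks.blockIdem_mem_center B)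
      (Subalgebra.one_mem _) fun φ => ?_
    rw [map_sum, Blocks.omega_one]
    simp only [Blocks.omega_blockIdem]
    rw [Finset.sum_eq_single (blockOf M (φ : G → ℂ))]
    · rw [if_pos (Blocks.mem_blockOf_self hM φ)]
    · intro B hB hne
      exact if_neg fun h => hne (Blocks.IsPBlock.eq_blockOf hM (hSB B hB) h)
    · exact fun h => absurd (Finset.mem_image_of_mem _ (Finset.mem_univ φ)) h
  have hlift : ∀ B ∈ S, ∃ u : MonoidAlgebra (lRing hM) G,
      MonoidAlgebra.mapRingHom G (lRing hM).subtype u = Blocks.blockIdem B := fun B hB =>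
    exists_lift hM fun x => by simpa using blockCoeff_mem hM (hSB B hB) x
  choose! u hu using hlift
  have hinj : Function.Injective (MonoidAlgebra.mapRingHom G (lRing hM).subtype) := by
    intro a b hab
    ext x
    have := congrArg (fun t => t.coeff x) hab
    simpa using this
  calc ∑ B ∈ S, eG hM B = ∑ B ∈ S, MonoidAlgebra.mapRingHom G (resK hM) (u B) :=
        Finset.sum_congr rfl fun B hB => by rw [← redFun_mapRingHom, hu B hB, eG_eq_redFun]
    _ = 1 := by
      rw [← map_sum, hinj (a₁ := ∑ B ∈ S, u B) (a₂ := 1)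
        (by rw [map_sum, Finset.sum_congr rfl hu, hsum, map_one]), map_one]

end CfsgLib.BrauerPairs
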