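import Cfsg.Agent.Lib.BrauerPairs.Setup

/-!
# The embedding of the algebra of a subgroup
-/

namespace CfsgLib.BrauerPairs

open MonoidAlgebra

variable {k : Type*} [Field k] {G : Type*} [Group G]

variable (k) in
/-- The embedding `k[H] → k[G]`. -/
noncomputable def inclA (H : Subgroup G) : MonoidAlgebra k H →ₐ[k] MonoidAlgebra k G :=
  MonoidAlgebra.mapDomainAlgHom k k H.subtype

theorem coeff_inclA {H : Subgroup G} (a : MonoidAlgebra k H) (x : H) :
    (inclA k H a).coeff (x : G) = a.coeff x :=
  Finsupp.mapDomain_apply Subtype.val_injective a.coeff x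

theorem coeff_inclA_of_notMem {H : Subgroup G} (a : MonoidAlgebra k H) {x : G} (hx : x ∉ H) :
    (inclA k H a).coeff x = 0 :=
  Finsupp.mapDomain_of_notMem_range a.coeff x (fun h => hx (by
    obtain ⟨y, rfl⟩ := h; exact y.2))

theorem inclA_mem_suppAlg {H : Subgroup G} (a : MonoidAlgebra k H) : inclA k H a ∈ suppAlg k H :=
  fun x hx => not_not.1 fun h => hx (coeff_inclA_of_notMem a h)

theorem inclA_injective (H : Subgroup G) : Function.Injective (inclA k H) := fun a b h => by
  ext x
  rw [← coeff_inclA a x, h, coeff_inclA]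

variable (k) in
/-- The restriction of an element of `k[G]` to `H`. -/
noncomputable def restrA (H : Subgroup G) (a : MonoidAlgebra k G) : MonoidAlgebra k H :=
  ofCoeff (a.coeff.comapDomain Subtype.val Subtype.val_injective.injOn)

theorem coeff_restrA {H : Subgroup G} (a : MonoidAlgebra k G) (x : H) :
    (restrA k H a).coeff x = a.coeff (x : G) := rfl

theorem inclA_restrA {H : Subgroup G} {a : MonoidAlgebra k G} (ha : a ∈ suppAlg k H) :
    inclA k H (restrA k H a) = a := by
  ext x
  by_cases hx : x ∈ H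
  · exact (coeff_inclA _ ⟨x, hx⟩).trans (coeff_restrA a _)
  · rw [coeff_inclA_of_notMem _ hx, coeff_eq_zero_of_mem_suppAlg ha hx]

theorem inclA_mem_fixAlg_iff {H : Subgroup G} (a : MonoidAlgebra k H) :
    inclA k H a ∈ fixAlg k H ↔ a ∈ fixAlg k (⊤ : Subgroup H) := by
  rw [mem_fixAlg_iff_coeff, mem_fixAlg_iff_coeff]
  constructor
  · intro h g _ x
    simpa [← coeff_inclA] using h g g.2 x
  · intro h g hg x
    by_cases hx : x ∈ H
    · have := h ⟨g, hg⟩ trivial ⟨x, hx⟩
      rwa [← coeff_inclA, ← coeff_inclA] at this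
    · rw [coeff_inclA_of_notMem _ hx, coeff_inclA_of_notMem]
      exact fun h' => hx (by simpa [mul_assoc] using H.mul_mem (H.mul_mem (H.inv_mem hg) h') hg)

theorem IsBlockIdem.inclA {H : Subgroup G} {e : MonoidAlgebra k H}
    (he : IsBlockIdem (⊤ : Subgroup H) e) :
    IsBlockIdem H (CfsgLib.BrauerPairs.inclA k H e) where
  supp := inclA_mem_suppAlg e
  fixed := (inclA_mem_fixAlg_iff e).2 he.fixed
  idem := by rw [← map_mul, he.idem]
  ne_zero h := he.ne_zero (inclA_injective H (by rw [h, map_zero]))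
  locally z hzs hzf := by
    rw [← inclA_restrA hzs] at hzf ⊢
    obtain ⟨c, hc⟩ := he.locally _ (mem_suppAlg_top _) ((inclA_mem_fixAlg_iff _).1 hzf)
    exact ⟨c, by simpa using hc.map (CfsgLib.BrauerPairs.inclA k H)⟩

/-- It is enough to decompose each subgroup algebra on its own. -/
theorem hasBlocks_of_subgroups
    (h : ∀ H : Subgroup G, ∃ s : Finset (MonoidAlgebra k H),
      (∀ e ∈ s, IsBlockIdem (⊤ : Subgroup H) e) ∧ ∑ e ∈ s, e = 1) : HasBlocks k G := by
  classical
  intro H
  obtain ⟨s, hs, hsum⟩ := h H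
  refine ⟨s.image (inclA k H), ?_, ?_⟩
  · simp only [Finset.mem_image]
    rintro _ ⟨e, he, rfl⟩
    exact (hs e he).inclA
  · rw [Finset.sum_image (fun a _ b _ hab => inclA_injective H hab), ← map_sum, hsum, map_one]

end CfsgLib.BrauerPairs
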