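import Cfsg.Agent.Lib.BrauerPairs.Pairs
import Cfsg.Agent.Lib.BrauerPairs.Transport
import Cfsg.Agent.Lib.BrauerPairs.ConjBlock
import Cfsg.Agent.Lib.BrauerPairs.Core

/-!
# The dictionary between blocks of characters and block idempotents over the residue field
-/

namespace CfsgLib.BrauerPairs

open Cfsg MonoidAlgebra
open CfsgLib.Blocks (lRing lRes lRes_eq_zero_iff lRes_eq_iff)

variable {p : ℕ} {M : Ideal AlgInt}

variable [M.IsMaximal] {G : Type*} [Group G] [Finite G]

/-- The idempotent of a set of characters of a subgroup, reduced, inside `G`'s algebra. -/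
noncomputable def eA (hM : IsPModular p M) (K : Subgroup G) (f : Set (IrrCharacter K)) :
    MonoidAlgebra (ResK M) G :=
  redFun hM (subgroupBlockCoeff K f)

omit [M.IsMaximal] [Finite G] in
theorem subgroupBlockCoeff_coe (K : Subgroup G) (f : Set (IrrCharacter K)) (x : K) :
    subgroupBlockCoeff K f (x : G) = blockCoeff f x := by
  classical
  unfold subgroupBlockCoeff
  rw [dif_pos x.2]

omit [M.IsMaximal] [Finite G] in
theorem subgroupBlockCoeff_notMem {K : Subgroup G} (f : Set (IrrCharacter K)) {x : G}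
    (hx : x ∉ K) : subgroupBlockCoeff K f x = 0 := by
  classical
  unfold subgroupBlockCoeff
  rw [dif_neg hx]

omit [M.IsMaximal] [Finite G] in
theorem blockCoeff_conj (B : Set (IrrCharacter G)) (g x : G) :
    blockCoeff B (g * x * g⁻¹) = blockCoeff B x := by
  unfold blockCoeff
  congr 1
  refine finsum_congr fun χ => ?_
  rw [Characters.irr_isClassFunction χ x g]

omit [M.IsMaximal] [Finite G] in
theorem subgroupBlockCoeff_conj (K : Subgroup G) (f : Set (IrrCharacter K)) {g : G} (hg : g ∈ K)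
    (x : G) : subgroupBlockCoeff K f (g * x * g⁻¹) = subgroupBlockCoeff K f x := by
  by_cases hx : x ∈ K
  · have h1 := subgroupBlockCoeff_coe K f (⟨g, hg⟩ * ⟨x, hx⟩ * ⟨g, hg⟩⁻¹)
    have h2 := subgroupBlockCoeff_coe K f ⟨x, hx⟩
    simp only [Subgroup.coe_mul, Subgroup.coe_inv] at h1 h2
    rw [h1, h2, blockCoeff_conj]
  · rw [subgroupBlockCoeff_notMem f hx, subgroupBlockCoeff_notMem f]
    exact fun h => hx (by simpa [mul_assoc] using K.mul_mem (K.mul_mem (K.inv_mem hg) h) hg)

theorem subgroupBlockCoeff_mem (hM : IsPModular p M) {K : Subgroup G} {f : Set (IrrCharacter K)}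
    (hf : IsPBlock M f) (x : G) : subgroupBlockCoeff K f x ∈ lRing hM := by
  by_cases hx : x ∈ K
  · rw [show subgroupBlockCoeff K f x = _ from subgroupBlockCoeff_coe K f ⟨x, hx⟩]
    exact blockCoeff_mem hM hf _
  · rw [subgroupBlockCoeff_notMem f hx]; exact Subring.zero_mem _

theorem inclA_eG (hM : IsPModular p M) (K : Subgroup G) (f : Set (IrrCharacter K)) :
    inclA (ResK M) K (eG hM f) = eA hM K f := by
  classical
  ext x
  by_cases hx : x ∈ K
  · refine (coeff_inclA _ ⟨x, hx⟩).trans ?_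
    unfold eG eA
    exact coeff_redFun_congr hM (c := blockCoeff f) (c' := subgroupBlockCoeff K f)
      (g := (⟨x, hx⟩ : K)) (g' := x) (subgroupBlockCoeff_coe K f ⟨x, hx⟩).symm
  · rw [coeff_inclA_of_notMem _ hx, eA,
      coeff_redFun (h := by rw [subgroupBlockCoeff_notMem f hx]; exact Subring.zero_mem _)]
    simp only [subgroupBlockCoeff_notMem f hx]
    exact (map_zero (resK hM)).symm

theorem isBlockIdem_eA (hM : IsPModular p M) {K : Subgroup G} {f : Set (IrrCharacter K)}
    (hf : IsPBlock M f) : IsBlockIdem K (eA hM K f) :=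
  inclA_eG hM K f ▸ (isBlockIdem_eG hM hf).inclA

theorem eA_inj (hM : IsPModular p M) {K : Subgroup G} {f f' : Set (IrrCharacter K)}
    (hf : IsPBlock M f) (hf' : IsPBlock M f') (h : eA hM K f = eA hM K f') : f = f' := by
  rw [← inclA_eG, ← inclA_eG] at h
  exact eG_inj hM hf hf' (inclA_injective K h)

theorem hasBlocks (hM : IsPModular p M) : HasBlocks (ResK M) G := by
  refine hasBlocks_of_subgroups fun H => ?_
  obtain ⟨s, hs, hsum⟩ := exists_eG_decomp hM H
  refine ⟨s, fun e he => ?_, hsum⟩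
  obtain ⟨B, hB, rfl⟩ := hs e he
  exact isBlockIdem_eG hM hB

/-- Every block idempotent of a subgroup algebra comes from a block of characters. -/
theorem exists_eA_eq (hM : IsPModular p M) {K : Subgroup G}
    {e : MonoidAlgebra (ResK M) G} (he : IsBlockIdem K e) :
    ∃ f : Set (IrrCharacter K), IsPBlock M f ∧ eA hM K f = e := by
  obtain ⟨s, hs, hsum⟩ := exists_eG_decomp hM K
  by_contra hcon
  simp only [not_exists, not_and] at hcon
  apply he.ne_zero
  calc e = ∑ e' ∈ s, e * inclA (ResK M) K e' := by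
        rw [← Finset.mul_sum, ← map_sum, hsum, map_one, mul_one]
    _ = 0 := Finset.sum_eq_zero fun e' he' => by
        obtain ⟨f, hf, rfl⟩ := hs e' he'
        rw [inclA_eG]
        exact he.mul_eq_zero (isBlockIdem_eA hM hf) (fun h => hcon f hf h.symm)

theorem conjA_eA (hM : IsPModular p M) {K K' : Subgroup G} (x : G)
    (h : ∀ k, k ∈ K' ↔ x⁻¹ * k * x ∈ K) (f : Set (IrrCharacter K)) :
    conjA x (eA hM K f) = eA hM K' (CharCorr.twistIrr (conjEquiv x h) '' f) := by
  ext g
  rw [coeff_conjA]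
  exact coeff_redFun_congr hM (subgroupBlockCoeff_twist x h f g).symm

theorem conjA_eA_conjBlock (hM : IsPModular p M) (Q : Subgroup G) (x : G)
    (f : Set (IrrCharacter (Subgroup.centralizer (Q : Set G)))) :
    conjA x (eA hM _ f) = eA hM _ (conjBlock Q x f) := by
  rw [conjBlock_eq]
  exact conjA_eA hM x (mem_cz_map_conj_iff Q x) f

theorem stabilizesBlock_iff_conjA (hM : IsPModular p M) {K : Subgroup G} {x : G}
    (hx : x ∈ Subgroup.normalizer (K : Set G)) {f : Set (IrrCharacter K)} (hf : IsPBlock M f) :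
    StabilizesBlock K f x ↔ conjA x (eA hM K f) = eA hM K f := by
  rw [stabilizesBlock_iff f hx, conjA_eA hM x (mem_normalizer_conj_iff hx) f]
  exact ⟨fun h => by rw [h], fun h => eA_inj hM (isPBlock_twist _ hf) hf h⟩

theorem mul_eq_iff_memLocalIdeal (hM : IsPModular p M) {B : Set (IrrCharacter G)}
    (hB : IsPBlock M B) {ξ : IrrCharacter G} (hξ : ξ ∈ B) {c : G → ℂ}
    (hc : ∀ x, c x ∈ lRing hM) (hcl : ∀ g x, c (g * x * g⁻¹) = c x)
    (hid : redFun hM c * redFun hM c = redFun hM c) :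
    redFun hM c * eG hM B = eG hM B ↔
      MemLocalIdeal M ((∑ᶠ x : G, c x * (ξ : G → ℂ) x / (ξ : G → ℂ) 1) - 1) := by
  have hn := nilpotent_sub hM hB hξ hc hcl
  set l := resK hM ⟨_, omega_sum_mem hM ξ hc hcl⟩ with hl
  have hb := isBlockIdem_eG hM hB
  have hfix : redFun hM c ∈ fixAlg (ResK M) (⊤ : Subgroup G) :=
    mem_fixAlg_iff_coeff.2 fun g _ x => coeff_redFun_congr hM (hcl g x)
  rw [← (show ((1 : lRing hM) : ℂ) = 1 from rfl),
    ← resK_eq_iff hM ⟨_, omega_sum_mem hM ξ hc hcl⟩ 1, map_one, ← hl]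
  constructor
  · intro h
    rw [h] at hn
    have h2 : IsNilpotent ((1 - l) • eG hM B) := by rwa [sub_smul, one_smul]
    by_contra hne
    have hne' : (1 : ResK M) - l ≠ 0 := sub_ne_zero.2 fun h' => hne h'.symm
    have h3 := h2.smul ((1 - l)⁻¹)
    rw [smul_smul, inv_mul_cancel₀ hne', one_smul] at h3
    exact hb.ne_zero (eq_zero_of_nilpotent_idem h3 hb.idem)
  · intro h
    rw [h, one_smul] at hn
    refine (hb.mul_idem (mem_suppAlg_top _) hfix hid).resolve_left fun h0 => hb.ne_zero ?_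
    rw [h0, zero_sub, isNilpotent_neg_iff] at hn
    exact eq_zero_of_nilpotent_idem hn hb.idem

/-- The congruence in the definition of Brauer pairs, algebraically. -/
theorem brauerOmega_iff (hM : IsPModular p M) {R : Subgroup G}
    {e : Set (IrrCharacter (Subgroup.centralizer (R : Set G)))} (he : IsPBlock M e) {β : G → ℂ}
    (hβ : ∀ x, β x ∈ lRing hM) (hcl : ∀ g ∈ cz R, ∀ x, β (g * x * g⁻¹) = β x)
    (hid : brMap (ResK M) R (redFun hM β) * brMap (ResK M) R (redFun hM β) =
      brMap (ResK M) R (redFun hM β)) :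
    (∀ ξ ∈ e, MemLocalIdeal M (brauerOmega R β (ξ : cz R → ℂ) - 1)) ↔
      brMap (ResK M) R (redFun hM β) * eA hM (cz R) e = eA hM (cz R) e := by
  have hincl : inclA (ResK M) (cz R) (redFun hM fun x : cz R => β x) =
      brMap (ResK M) R (redFun hM β) := by
    ext x
    by_cases hx : x ∈ cz R
    · rw [coeff_brMap_of_mem _ hx]
      exact (coeff_inclA _ ⟨x, hx⟩).trans (coeff_redFun_congr hM rfl)
    · rw [coeff_inclA_of_notMem _ hx, coeff_brMap_of_notMem _ hx]
  have hid' : redFun hM (fun x : cz R => β x) * redFun hM (fun x : cz R => β x) =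
      redFun hM (fun x : cz R => β x) := by
    apply inclA_injective (cz R)
    rw [map_mul, hincl, hid]
  have key : ∀ ξ ∈ e, MemLocalIdeal M (brauerOmega R β (ξ : cz R → ℂ) - 1) ↔
      brMap (ResK M) R (redFun hM β) * eA hM (cz R) e = eA hM (cz R) e := by
    intro ξ hξ
    rw [← hincl, ← inclA_eG, ← map_mul, (inclA_injective _).eq_iff]
    exact (mul_eq_iff_memLocalIdeal hM he hξ (fun x => hβ x) (fun g x => hcl g g.2 x) hid').symm
  obtain ⟨ξ, hξ⟩ := Blocks.IsPBlock.nonempty hM he
  exact ⟨fun h => (key ξ hξ).1 (h ξ hξ), fun h ξ' hξ' => (key ξ' hξ').2 h⟩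

theorem brSetup_block (hM : IsPModular p M) {B : Set (IrrCharacter G)} (hB : IsPBlock M B) :
    BrSetup p (⊥ : Subgroup G) (eG hM B) ⊤ where
  pgroup := IsPGroup.of_bot
  block := by rw [cz_bot]; exact isBlockIdem_eG hM hB
  le_norm := by
    intro g _ x
    simp
  cz_le := le_top
  le := bot_le
  fixed := (isBlockIdem_eG hM hB).fixed

section Dictionary

variable [Fintype G]

theorem charP_res (hM : IsPModular p M) : CharP (ResK M) p :=
  @CharP.mk _ _ _ fun n => by
    have h := (Blocks.charP_residue hM).cast_eq_zero_iff n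
    exact h

variable [hp : Fact p.Prime]

theorem isBrauerPairOf_iff (hM : IsPModular p M) (B : Set (IrrCharacter G)) (Q : Subgroup G)
    (e : Set (IrrCharacter (Subgroup.centralizer (Q : Set G)))) :
    IsBrauerPairOf p M B Q e ↔ IsPBlock M e ∧ IsPBlock M B ∧
      OverPair p (⊥ : Subgroup G) (eG hM B) ⊤ Q (eA hM (cz Q) e) := by
  have := charP_res hM
  constructor
  · rintro ⟨⟨hQ, he⟩, hB, h⟩
    have hb := isBlockIdem_eG hM hB
    have hfix : eG hM B ∈ fixAlg (ResK M) Q := fixAlg_anti le_top hb.fixed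
    refine ⟨he, hB, hQ, bot_le, le_top, isBlockIdem_eA hM he, ?_⟩
    exact (brauerOmega_iff hM he (blockCoeff_mem hM hB) (fun g _ x => blockCoeff_conj B g x)
      (by show brMap _ Q (eG hM B) * brMap _ Q (eG hM B) = _; rw [← brMap_mul hQ hfix hfix]; exact congrArg _ hb.idem)).1 h
  · rintro ⟨he, hB, hO⟩
    have hb := isBlockIdem_eG hM hB
    have hfix : eG hM B ∈ fixAlg (ResK M) Q := fixAlg_anti le_top hb.fixed
    refine ⟨⟨hO.pgroup, he⟩, hB, ?_⟩
    exact (brauerOmega_iff hM he (blockCoeff_mem hM hB) (fun g _ x => blockCoeff_conj B g x)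
      (by show brMap _ Q (eG hM B) * brMap _ Q (eG hM B) = _; rw [← brMap_mul hO.pgroup hfix hfix]; exact congrArg _ hb.idem)).2 hO.cover

theorem isNormalSubpair_iff (hM : IsPModular p M) (Q P : Subgroup G)
    (f : Set (IrrCharacter (Subgroup.centralizer (Q : Set G))))
    (e : Set (IrrCharacter (Subgroup.centralizer (P : Set G)))) :
    IsNormalSubpair p M Q f P e ↔ IsPBlock M f ∧ IsPBlock M e ∧
      NormalSub p (Q, eA hM (cz Q) f) (P, eA hM (cz P) e) := by
  have := charP_res hM
  constructor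
  · rintro ⟨⟨hQ, hf⟩, ⟨hP, he⟩, hle, hn, hst, h⟩
    have hb := isBlockIdem_eA hM hf
    have hfix : eA hM (cz Q) f ∈ fixAlg (ResK M) P := fun x hx =>
      (stabilizesBlock_iff_conjA hM (normalizer_le_normalizer_cz Q (hn hx)) hf).1 (hst x hx)
    refine ⟨hf, he, hQ, hP, hb, isBlockIdem_eA hM he, hle, hn, hfix, ?_⟩
    exact (brauerOmega_iff hM he (subgroupBlockCoeff_mem hM hf)
      (fun g hg x => subgroupBlockCoeff_conj _ f (cz_anti hle hg) x)
      (by show brMap _ P (eA hM _ f) * brMap _ P (eA hM _ f) = _; rw [← brMap_mul hP hfix hfix]; exact congrArg _ hb.idem)).1 h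
  · rintro ⟨hf, he, hN⟩
    have hb := isBlockIdem_eA hM hf
    have hfix : eA hM (cz Q) f ∈ fixAlg (ResK M) P := hN.fixed
    refine ⟨⟨hN.pgroup_left, hf⟩, ⟨hN.pgroup_right, he⟩, hN.le, hN.le_norm, fun x hx =>
      (stabilizesBlock_iff_conjA hM (normalizer_le_normalizer_cz Q (hN.le_norm hx)) hf).2
        (hfix x hx), ?_⟩
    exact (brauerOmega_iff hM he (subgroupBlockCoeff_mem hM hf)
      (fun g hg x => subgroupBlockCoeff_conj _ f (cz_anti hN.le hg) x)
      (by show brMap _ P (eA hM _ f) * brMap _ P (eA hM _ f) = _; rw [← brMap_mul hN.pgroup_right hfix hfix]; exact congrArg _ hb.idem)).2 hN.cover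

theorem pairLE_of_subpairLE (hM : IsPModular p M) {Q P : Subgroup G}
    {f : Set (IrrCharacter (Subgroup.centralizer (Q : Set G)))}
    {e : Set (IrrCharacter (Subgroup.centralizer (P : Set G)))} (h : SubpairLE p M Q f P e) :
    PairLE p (Q, eA hM (cz Q) f) (P, eA hM (cz P) e) :=
  Relation.ReflTransGen.lift (r := NormalSubpairRel p M) (p := NormalSub p)
    (fun a : BrauerPairIdx G => (a.1, eA hM (cz a.1) a.2))
    (fun a b hab => ((isNormalSubpair_iff hM a.1 b.1 a.2 b.2).1 hab).2.2) ⟨Q, f⟩ ⟨P, e⟩ h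

theorem subpairLE_of_pairLE (hM : IsPModular p M) {a b : Subgroup G × MonoidAlgebra (ResK M) G}
    (h : PairLE p a b) :
    ∀ {f : Set (IrrCharacter (Subgroup.centralizer (a.1 : Set G)))}
      {e : Set (IrrCharacter (Subgroup.centralizer (b.1 : Set G)))},
      IsPBlock M f → IsPBlock M e → eA hM (cz a.1) f = a.2 → eA hM (cz b.1) e = b.2 →
      SubpairLE p M a.1 f b.1 e := by
  induction h using Relation.ReflTransGen.head_induction_on with
  | refl =>
    intro f e hf he hfa heb
    rw [eA_inj hM hf he (hfa.trans heb.symm)]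
    exact Relation.ReflTransGen.refl
  | @head x y hxy _ ih =>
    intro f e hf he hfa heb
    obtain ⟨g, hg, hgy⟩ := exists_eA_eq hM hxy.block_right
    refine Relation.ReflTransGen.head (b := (⟨y.1, g⟩ : BrauerPairIdx G)) ?_ (ih hg he hgy heb)
    refine (isNormalSubpair_iff hM x.1 y.1 f g).2 ⟨hf, hg, ?_⟩
    rw [hfa, hgy]
    exact hxy

theorem subpairLE_iff (hM : IsPModular p M) {Q P : Subgroup G}
    {f : Set (IrrCharacter (Subgroup.centralizer (Q : Set G)))}
    {e : Set (IrrCharacter (Subgroup.centralizer (P : Set G)))} (hf : IsPBlock M f)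
    (he : IsPBlock M e) :
    SubpairLE p M Q f P e ↔ PairLE p (Q, eA hM (cz Q) f) (P, eA hM (cz P) e) :=
  ⟨pairLE_of_subpairLE hM, fun h => subpairLE_of_pairLE hM h hf he rfl rfl⟩

theorem isMaximalBrauerPair_iff (hM : IsPModular p M) (B : Set (IrrCharacter G)) (P : Subgroup G)
    (e : Set (IrrCharacter (Subgroup.centralizer (P : Set G)))) :
    IsMaximalBrauerPair p M B P e ↔
      IsBrauerPairOf p M B P e ∧ IsDefect p (⊥ : Subgroup G) (eG hM B) ⊤ P := by
  have := charP_res hM
  constructor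
  · rintro ⟨hP, hmax⟩
    obtain ⟨he, hB, hO⟩ := (isBrauerPairOf_iff hM B P e).1 hP
    refine ⟨hP, (brSetup_block hM hB).isDefect_of_maximal (hasBlocks hM) hO fun S h' hS hle => ?_⟩
    obtain ⟨g, hg, rfl⟩ := exists_eA_eq hM hS.block
    exact hmax S g ((isBrauerPairOf_iff hM B S g).2 ⟨hg, hB, hS⟩)
      ((subpairLE_iff hM he hg).2 hle)
  · rintro ⟨hP, hD⟩
    refine ⟨hP, fun R g hR hle => ?_⟩
    obtain ⟨hg, hB, hO⟩ := (isBrauerPairOf_iff hM B R g).1 hR
    have hS := brSetup_block (p := p) hM hB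
    obtain ⟨t, -, ht⟩ := hS.exists_le_conj hD.inTr hO.pgroup le_top (hS.brMap_ne_zero hO)
    have hPR : P ≤ R := (pairLE_of_subpairLE hM hle).le
    refine (Subgroup.eq_of_le_of_card_ge hPR ?_).symm
    calc Nat.card R ≤ Nat.card (P.map (MulAut.conj t).toMonoidHom) := Subgroup.card_le_of_le ht
      _ = Nat.card P := Subgroup.card_map_of_injective (MulAut.conj t).injective

theorem relTr_single_self (k : Type*) [Field k] {H : Subgroup G} (g : G) :
    relTr k (H ⊓ Subgroup.centralizer ({g} : Set G)) H (single g (1 : k)) =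
      Blocks.ofFun (fun y => by classical exact if ∃ h ∈ H, h * g * h⁻¹ = y then 1 else 0) := by
  classical
  ext y
  rw [relTr_eq_sum, coeff_sum, Finsupp.finsetSum_apply, Blocks.coeff_ofFun]
  have hco : ∀ (x z : G), (conjA x (single g (1 : k))).coeff z =
      if x * g * x⁻¹ = z then 1 else 0 := by
    intro x z
    rw [conjA, single_mul_single, single_mul_single, one_mul, one_mul, coeff_single,
      Finsupp.single_apply]
  by_cases hy : ∃ h ∈ H, h * g * h⁻¹ = y
  · obtain ⟨h, hh, rfl⟩ := hy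
    rw [if_pos ⟨h, hh, rfl⟩, Finset.sum_eq_single (QuotientGroup.mk ⟨h, hh⟩ :
      H ⧸ (H ⊓ Subgroup.centralizer ({g} : Set G)).subgroupOf H)]
    · obtain ⟨⟨u, hu⟩, hx⟩ := QuotientGroup.mk_out_eq_mul
        ((H ⊓ Subgroup.centralizer ({g} : Set G)).subgroupOf H) ⟨h, hh⟩
      rw [Subgroup.mem_subgroupOf] at hu
      have hug : g * (u : G) = (u : G) * g := Subgroup.mem_centralizer_iff.1 hu.2 g rfl
      rw [hco, if_pos]
      rw [hx]
      simp only [Subgroup.coe_mul, mul_inv_rev]
      calc h * (u : G) * g * ((u : G)⁻¹ * h⁻¹) = h * ((u : G) * g) * (u : G)⁻¹ * h⁻¹ := by group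
        _ = h * (g * (u : G)) * (u : G)⁻¹ * h⁻¹ := by rw [hug]
        _ = h * g * h⁻¹ := by group
    · intro q _ hq
      rw [hco, if_neg]
      intro heq
      refine hq ?_
      conv_lhs => rw [← QuotientGroup.out_eq' q]
      rw [QuotientGroup.eq, Subgroup.mem_subgroupOf]
      refine ⟨H.mul_mem (H.inv_mem (q.out).2) hh, Subgroup.mem_centralizer_iff.2 fun z hz => ?_⟩
      rw [Set.mem_singleton_iff.1 hz]
      simp only [Subgroup.coe_mul, Subgroup.coe_inv]
      have h2 := congrArg (fun w => ((q.out : H) : G)⁻¹ * w * h) heq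
      simpa [mul_assoc] using h2
    · exact fun h' => absurd (Finset.mem_univ _) h'
  · rw [if_neg hy]
    exact Finset.sum_eq_zero fun q _ => by rw [hco, if_neg fun h => hy ⟨_, (q.out).2, h⟩]

theorem isDefect_of_isDefectGroup (hM : IsPModular p M) {B : Set (IrrCharacter G)}
    (hB : IsPBlock M B) {D : Subgroup G} (hD : IsDefectGroup p M B D) :
    IsDefect p (⊥ : Subgroup G) (eG hM B) ⊤ D := by
  classical
  have := charP_res hM
  obtain ⟨g, ⟨hg1, hg2, hg3⟩, hS0⟩ := hD
  obtain ⟨ξ, hξ⟩ := Blocks.IsPBlock.nonempty hM hB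
  set C := Subgroup.centralizer ({g} : Set G) with hC
  obtain ⟨S, hD⟩ := hS0
  have hDC : D ≤ C := hD ▸ Subgroup.map_subtype_le _
  have hgD : g ∈ cz D := mem_cz.2 fun d hd =>
    (Subgroup.mem_centralizer_iff.1 (hDC hd) g rfl).symm
  have hsing : single g (1 : ResK M) ∈ fixAlg (ResK M) C := by
    intro u hu
    have hug : g * u = u * g := Subgroup.mem_centralizer_iff.1 hu g rfl
    rw [conjA, single_mul_single, single_mul_single, one_mul, one_mul, ← hug,
      mul_inv_cancel_right]
  have hidx : ((D.relIndex C : ℕ) : ResK M) ≠ 0 := by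
    rw [Ne, CharP.cast_eq_zero_iff (ResK M) p, Subgroup.relIndex, hD, Subgroup.subgroupOf,
      Subgroup.comap_map_eq_self_of_injective C.subtype_injective]
    exact S.not_dvd_index
  have hS := brSetup_block (p := p) hM hB
  let c : G → ℂ := fun y => if ∃ h ∈ (⊤ : Subgroup G), h * g * h⁻¹ = y then 1 else 0
  have hc : ∀ y, c y ∈ lRing hM := fun y => by
    simp only [c]; split_ifs
    · exact Subring.one_mem _
    · exact Subring.zero_mem _
  have hcl : ∀ x y, c (x * y * x⁻¹) = c y := by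
    intro x y
    simp only [c, Subgroup.mem_top, true_and]
    refine if_congr ⟨?_, ?_⟩ rfl rfl
    · rintro ⟨h, hh⟩
      exact ⟨x⁻¹ * h, by rw [mul_inv_rev, inv_inv, show x⁻¹ * h * g * (h⁻¹ * x) =
        x⁻¹ * (h * g * h⁻¹) * x by group, hh]; group⟩
    · rintro ⟨h, hh⟩
      exact ⟨x * h, by rw [mul_inv_rev, show x * h * g * (h⁻¹ * x⁻¹) =
        x * (h * g * h⁻¹) * x⁻¹ by group, hh]⟩
  have hz : redFun hM c = relTr (ResK M) C ⊤ (single g (1 : ResK M)) := by
    rw [← top_inf_eq C, hC, relTr_single_self]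
    ext y
    rw [coeff_redFun hM (hc y), Blocks.coeff_ofFun]
    by_cases hy : ∃ h ∈ (⊤ : Subgroup G), h * g * h⁻¹ = y
    · rw [if_pos hy]
      have h1 : (⟨c y, hc y⟩ : lRing hM) = 1 := Subtype.ext (by simp only [c]; rw [if_pos hy]; rfl)
      rw [h1, map_one]
    · rw [if_neg hy]
      have h1 : (⟨c y, hc y⟩ : lRing hM) = 0 := Subtype.ext (by simp only [c]; rw [if_neg hy]; rfl)
      rw [h1, map_zero]
  have hTr : InTr (⊥ : Subgroup G) D ⊤ (redFun hM c) := by
    refine ⟨((D.relIndex C : ℕ) : ResK M)⁻¹ • single g (1 : ResK M),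
      by rw [cz_bot]; exact mem_suppAlg_top _,
      Subalgebra.smul_mem _ (fixAlg_anti hDC hsing) _, ?_⟩
    rw [hz, ← relTr_relTr hDC le_top (Subalgebra.smul_mem _ (fixAlg_anti hDC hsing) _),
      relTr_smul D C, relTr_of_fixed hsing, smul_smul, inv_mul_cancel₀ hidx, one_smul]
  refine ⟨hD ▸ S.2.map C.subtype, bot_le, le_top, hS.inTr_of_not_nilpotent le_top hTr fun hn => ?_, fun h => ?_⟩
  · have hl : resK hM ⟨_, omega_sum_mem hM ξ hc hcl⟩ ≠ 0 := by
      intro h0
      apply hg3 ξ hξ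
      have h1 := (resK_eq_zero_iff hM _).1 h0
      have h2 : (∑ᶠ x : G, c x * (ξ : G → ℂ) x / (ξ : G → ℂ) 1) =
          centralChar (ξ : G → ℂ) g := by
        rw [omega_sum_eq, ← Blocks.omega_classSum (Characters.irr_isClassFunction ξ) g]
        congr 1
        ext y
        rw [Blocks.coeff_ofFun, Blocks.coeff_classSum]
        simp only [c, Subgroup.mem_top, true_and, isConj_iff]
      rwa [← h2]
    obtain ⟨n, hn⟩ := hn
    have hb := isBlockIdem_eG hM hB
    have h1 := nilpotent_sub hM hB hξ hc hcl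
    apply hb.ne_zero
    set l := resK hM ⟨_, omega_sum_mem hM ξ hc hcl⟩
    have hcomm : Commute (redFun hM c * eG hM B) (l • eG hM B) := by
      refine Commute.smul_right ?_ _
      exact commute_of_supp_fix (mem_suppAlg_top _) hb.fixed
    have h2 : IsNilpotent (l • eG hM B) := by
      have h3 := ((Commute.refl (redFun hM c * eG hM B)).sub_right hcomm).isNilpotent_sub ⟨n, hn⟩ h1
      simpa using h3
    have h4 := h2.smul l⁻¹
    rw [smul_smul, inv_mul_cancel₀ hl, one_smul] at h4
    exact eq_zero_of_nilpotent_idem h4 hb.idem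
  · have h1 := congrArg (fun a => a.coeff g) h
    simp only [coeff_zero, Finsupp.zero_apply] at h1
    rw [coeff_brMap_of_mem _ hgD, eG, coeff_redFun hM (blockCoeff_mem hM hB g)] at h1
    exact hg2 ((resK_eq_zero_iff hM _).1 h1)

theorem isDefectClass_conj (hM : IsPModular p M) {B : Set (IrrCharacter G)}
    {g : G} (hg : IsDefectClass M B g) (x : G) : IsDefectClass M B (x * g * x⁻¹) := by
  obtain ⟨h1, h2, h3⟩ := hg
  refine ⟨?_, ?_, fun χ hχ => ?_⟩
  · rwa [blockCoeff_conj]
  · rwa [blockCoeff_conj]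
  · rw [← Blocks.centralChar_of_isConj χ (isConj_iff.2 ⟨x, rfl⟩ : IsConj g (x * g * x⁻¹))]
    exact h3 χ hχ

/-- Defect groups of a block, algebraically. -/
theorem isDefectGroup_iff (hM : IsPModular p M) {B : Set (IrrCharacter G)}
    (hB : IsPBlock M B) (D : Subgroup G) :
    IsDefectGroup p M B D ↔ IsDefect p (⊥ : Subgroup G) (eG hM B) ⊤ D := by
  have := charP_res hM
  refine ⟨isDefect_of_isDefectGroup hM hB, fun hD => ?_⟩
  obtain ⟨g, hg⟩ := exists_defectClass hM hB
  obtain ⟨S⟩ : Nonempty (Sylow p (Subgroup.centralizer ({g} : Set G))) := inferInstance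
  obtain ⟨t, -, rfl⟩ := (brSetup_block hM hB).isDefect_conj
    (isDefect_of_isDefectGroup hM hB ⟨g, hg, S, rfl⟩) hD
  refine ⟨t * g * t⁻¹, isDefectClass_conj hM hg t, ?_⟩
  have hC : ∀ u, u ∈ Subgroup.centralizer ({g} : Set G) ↔
      t * u * t⁻¹ ∈ Subgroup.centralizer ({t * g * t⁻¹} : Set G) := by
    intro u
    simp only [Subgroup.mem_centralizer_iff, Set.mem_singleton_iff, forall_eq]
    constructor
    · intro h
      calc t * g * t⁻¹ * (t * u * t⁻¹) = t * (g * u) * t⁻¹ := by group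
        _ = t * (u * g) * t⁻¹ := by rw [h]
        _ = t * u * t⁻¹ * (t * g * t⁻¹) := by group
    · intro h
      have h2 := congrArg (fun w => t⁻¹ * w * t) h
      simpa [mul_assoc] using h2
  let φ : Subgroup.centralizer ({g} : Set G) ≃* Subgroup.centralizer ({t * g * t⁻¹} : Set G) :=
    { toFun := fun u => ⟨t * u * t⁻¹, (hC u).1 u.2⟩
      invFun := fun u => ⟨t⁻¹ * u * t, (hC _).2 (by
        have h := u.2
        simpa [mul_assoc] using h)⟩
      left_inv := fun u => Subtype.ext (by simp [mul_assoc])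
      right_inv := fun u => Subtype.ext (by simp [mul_assoc])
      map_mul' := fun u v => Subtype.ext (by simp [mul_assoc]) }
  refine ⟨Sylow.ofCard ((S : Subgroup _).map φ.toMonoidHom) ?_, ?_⟩
  · rw [Subgroup.card_map_of_injective φ.injective, S.card_eq_multiplicity,
      Nat.card_congr φ.toEquiv]
  · show _ = ((S : Subgroup _).map φ.toMonoidHom).map _
    rw [Subgroup.map_map, Subgroup.map_map]
    rfl

end Dictionary

end CfsgLib.BrauerPairs
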