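import Cfsg.Agent.Lib.BrauerPairs.Local
import Cfsg.Prelude.Def_BlockLocal

/-!
# Local blocks seen inside an intermediate subgroup
-/

set_option autoImplicit false

namespace CfsgLib.BrauerPairs

open Cfsg MonoidAlgebra

variable {G : Type*} [Group G] {H : Subgroup G}

/-- The identification of a subgroup of `H` with a subgroup of `G` below `H`. -/
def inEquiv {K' : Subgroup H} {K : Subgroup G} (hle : K ≤ H)
    (hK : ∀ x : H, x ∈ K' ↔ (x : G) ∈ K) : K' ≃* K where
  toFun x := ⟨((x : H) : G), (hK x).1 x.2⟩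
  invFun x := ⟨⟨x, hle x.2⟩, (hK _).2 x.2⟩
  left_inv _ := rfl
  right_inv _ := rfl
  map_mul' _ _ := rfl

@[simp] theorem coe_inEquiv {K' : Subgroup H} {K : Subgroup G} (hle : K ≤ H)
    (hK : ∀ x : H, x ∈ K' ↔ (x : G) ∈ K) (x : K') :
    ((inEquiv hle hK x : K) : G) = ((x : H) : G) := rfl

theorem mem_cz_subgroupOf {R : Subgroup G} (hR : R ≤ H) (x : H) :
    x ∈ cz (R.subgroupOf H) ↔ (x : G) ∈ cz R := by
  rw [mem_cz, mem_cz]
  exact ⟨fun h r hr => congrArg Subtype.val (h ⟨r, hR hr⟩ (Subgroup.mem_subgroupOf.2 hr)),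
    fun h r hr => Subtype.ext (h r (Subgroup.mem_subgroupOf.1 hr))⟩

theorem inducedCentralCharIn_eq {K' : Subgroup H} {K : Subgroup G} (hle : K ≤ H)
    (hK : ∀ x : H, x ∈ K' ↔ (x : G) ∈ K) (ξ : IrrCharacter K) (h : H) :
    inducedCentralCharIn H K (ξ : K → ℂ) (h : G) =
      inducedCentralChar K' (CharCorr.twistIrr (inEquiv hle hK) ξ : K' → ℂ) h := by
  symm
  refine finsum_mem_eq_of_bijOn (inEquiv hle hK) ⟨?_, (inEquiv hle hK).injective.injOn, ?_⟩ ?_
  · intro x hx
    obtain ⟨y, hy⟩ := isConj_iff.1 hx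
    refine ⟨y⁻¹, ?_⟩
    have h2 := congrArg Subtype.val hy
    simp only [Subgroup.coe_mul, Subgroup.coe_inv] at h2
    rw [coe_inEquiv, ← h2]
    simp [mul_assoc]
  · rintro k ⟨y, hy⟩
    refine ⟨(inEquiv hle hK).symm k, isConj_iff.2 ⟨y⁻¹, Subtype.ext ?_⟩,
      (inEquiv hle hK).apply_symm_apply k⟩
    show ((y⁻¹ : H) : G) * (h : G) * (((y⁻¹ : H))⁻¹ : G) = (k : G)
    rw [← hy]
    simp [mul_assoc]
  · intro x _
    simp only [CharCorr.twistIrr_apply, map_one]

/-- Induction inside `H` is induction in the group `H`. -/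
theorem isInducedBlock_inside_iff {M : Ideal AlgInt} {K' : Subgroup H} {K : Subgroup G}
    (hle : K ≤ H) (hK : ∀ x : H, x ∈ K' ↔ (x : G) ∈ K) {e : Set (IrrCharacter K)}
    (f : Set (IrrCharacter H)) (he : IsPBlock M e) :
    IsInducedBlockIn M H K e f ↔
      IsInducedBlock M K' (CharCorr.twistIrr (inEquiv hle hK) '' e) f := by
  constructor
  · rintro ⟨-, hf, h⟩
    refine ⟨isPBlock_twist _ he, hf, ?_⟩
    rintro _ ⟨ξ, hξ, rfl⟩ χ hχ g
    rw [← inducedCentralCharIn_eq]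
    exact h ξ hξ χ hχ g
  · rintro ⟨-, hf, h⟩
    refine ⟨he, hf, fun ξ hξ χ hχ g => ?_⟩
    rw [inducedCentralCharIn_eq hle hK]
    exact h _ ⟨ξ, hξ, rfl⟩ χ hχ g

variable {p : ℕ} {M : Ideal AlgInt} [M.IsMaximal] [Finite G]

theorem inclA_eA (hM : IsPModular p M) {K' : Subgroup H} {K : Subgroup G} (hle : K ≤ H)
    (hK : ∀ x : H, x ∈ K' ↔ (x : G) ∈ K) (e : Set (IrrCharacter K)) :
    inclA (ResK M) H (eA hM K' (CharCorr.twistIrr (inEquiv hle hK) '' e)) = eA hM K e := by
  classical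
  ext x
  by_cases hx : x ∈ H
  · rw [show (inclA (ResK M) H (eA hM K' (CharCorr.twistIrr (inEquiv hle hK) '' e))).coeff x = _
      from coeff_inclA _ ⟨x, hx⟩]
    refine coeff_redFun_congr hM ?_
    by_cases hxK : x ∈ K
    · have h1 := subgroupBlockCoeff_coe K' (CharCorr.twistIrr (inEquiv hle hK) '' e)
        ⟨⟨x, hx⟩, (hK _).2 hxK⟩
      rw [h1, blockCoeff_twist]
      exact (subgroupBlockCoeff_coe K e ⟨x, hxK⟩).symm
    · rw [subgroupBlockCoeff_notMem _ hxK, subgroupBlockCoeff_notMem _ fun h => hxK ((hK _).1 h)]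
  · rw [coeff_inclA_of_notMem _ hx, eA,
      coeff_redFun (h := by rw [subgroupBlockCoeff_notMem _ fun h => hx (hle h)]; exact Subring.zero_mem _)]
    simp only [subgroupBlockCoeff_notMem _ fun h => hx (hle h)]
    exact (map_zero (resK hM)).symm

theorem inclA_conjA {k : Type*} [Field k] (H : Subgroup G) (x : H) (a : MonoidAlgebra k H) :
    inclA k H (conjA x a) = conjA (x : G) (inclA k H a) := by
  have hs : ∀ (g : H), inclA k H (single g (1 : k)) = single (g : G) 1 := fun g =>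
    MonoidAlgebra.mapDomain_single
  rw [conjA, conjA, map_mul, map_mul, hs, hs, Subgroup.coe_inv]

variable [Fintype G] [Fact p.Prime]

/-- A setting lying over `B` whose pair sits on a defect group of `B` has it as a defect group. -/
theorem isDefect_local (hM : IsPModular p M) {B : Set (IrrCharacter G)} (hB : IsPBlock M B)
    {Q T P : Subgroup G} {f : MonoidAlgebra (ResK M) G} (hS : BrSetup p Q f T)
    (hcov : brMap (ResK M) Q (eG hM B) * f = f)
    (hP : IsDefect p (⊥ : Subgroup G) (eG hM B) ⊤ P) (hPT : P ≤ T)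
    (hbr : brMap (ResK M) P f ≠ 0) : IsDefect p Q f T P := by
  have := charP_res hM
  obtain ⟨D, hD, hPD⟩ := hS.exists_defect_ge hP.pgroup hPT hbr
  have hEb := isBlockIdem_eG hM hB
  have hfixD : brMap (ResK M) Q (eG hM B) ∈ fixAlg (ResK M) D :=
    brMap_mem_fixAlg (hD.le_T.trans hS.le_norm) (fixAlg_anti le_top hEb.fixed)
  have hbne : brMap (ResK M) D (eG hM B) ≠ 0 := fun h0 => hD.br_ne (by
    conv_lhs => rw [← hcov]
    rw [brMap_mul hD.pgroup hfixD (fixAlg_anti hD.le_T hS.fixed),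
      brMap_brMap_of_le hD.le, h0, zero_mul])
  have hle := (brSetup_block hM hB).card_le_defect hP hD.pgroup le_top hbne
  obtain rfl : D = P := (Subgroup.eq_of_le_of_card_ge hPD hle).symm
  exact hD

end CfsgLib.BrauerPairs
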