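import Cfsg.Agent.Lib.BrauerPairs.Basic
import Mathlib.GroupTheory.Index

/-!
# Relative traces in the group algebra
-/

namespace CfsgLib.BrauerPairs

open MonoidAlgebra

variable {k : Type*} [Field k] {G : Type*} [Group G]

variable (k) in
/-- The relative trace from `R` to `T` (used for `R ≤ T`): the sum of the conjugates by coset
representatives of `R` in `T`. -/
noncomputable def relTr (R T : Subgroup G) (a : MonoidAlgebra k G) : MonoidAlgebra k G :=
  ∑ᶠ q : T ⧸ R.subgroupOf T, conjA ((q.out : T) : G) a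

theorem conjA_out_eq {R T : Subgroup G} {a : MonoidAlgebra k G} (ha : a ∈ fixAlg k R) (x : T) :
    conjA (((QuotientGroup.mk x : T ⧸ R.subgroupOf T).out : T) : G) a = conjA (x : G) a := by
  obtain ⟨⟨h, hh⟩, hx⟩ := QuotientGroup.mk_out_eq_mul (R.subgroupOf T) x
  rw [hx, Subgroup.coe_mul, conjA_mul_left, ha (h : G) (Subgroup.mem_subgroupOf.1 hh)]

theorem map_conj_le_of_mem {H : Subgroup G} {S : Subgroup G} {t : G}
    (ht : t ∈ Subgroup.normalizer (H : Set G)) (hS : S ≤ H) :
    S.map (MulAut.conj t).toMonoidHom ≤ H :=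
  le_of_le_of_eq (Subgroup.map_mono hS) (map_conj_eq_self ht)

theorem relTr_eq_sum (R T : Subgroup G) (a : MonoidAlgebra k G)
    [Fintype (T ⧸ R.subgroupOf T)] :
    relTr k R T a = ∑ q : T ⧸ R.subgroupOf T, conjA ((q.out : T) : G) a :=
  finsum_eq_sum_of_fintype _

theorem normalizer_le_normalizer_cz (Q : Subgroup G) :
    Subgroup.normalizer (Q : Set G) ≤ Subgroup.normalizer (cz Q : Set G) := by
  intro g hg x
  simp only [SetLike.mem_coe]
  constructor
  · intro hx
    have h := Subgroup.mem_map_of_mem (MulAut.conj g).toMonoidHom hx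
    rwa [← cz_map_conj, map_conj_eq_self hg] at h
  · intro hx
    have h := Subgroup.mem_map_of_mem (MulAut.conj g⁻¹).toMonoidHom hx
    rw [← cz_map_conj, map_conj_eq_self (Subgroup.inv_mem _ hg)] at h
    simpa [mul_assoc] using h

variable [Fintype G]

theorem relTr_mul_left {R T : Subgroup G} {z : MonoidAlgebra k G} (hz : z ∈ fixAlg k T)
    (a : MonoidAlgebra k G) : z * relTr k R T a = relTr k R T (z * a) := by
  classical
  rw [relTr_eq_sum, relTr_eq_sum, Finset.mul_sum]
  refine Finset.sum_congr rfl fun q _ => ?_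
  rw [conjA_mul, hz _ (q.out).2]

theorem relTr_mul_right {R T : Subgroup G} {z : MonoidAlgebra k G} (hz : z ∈ fixAlg k T)
    (a : MonoidAlgebra k G) : relTr k R T a * z = relTr k R T (a * z) := by
  classical
  rw [relTr_eq_sum, relTr_eq_sum, Finset.sum_mul]
  refine Finset.sum_congr rfl fun q _ => ?_
  rw [conjA_mul, hz _ (q.out).2]

theorem relTr_add (R T : Subgroup G) (a b : MonoidAlgebra k G) :
    relTr k R T (a + b) = relTr k R T a + relTr k R T b := by
  classical
  simp only [relTr_eq_sum, conjA_add, Finset.sum_add_distrib]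

theorem relTr_smul (R T : Subgroup G) (c : k) (a : MonoidAlgebra k G) :
    relTr k R T (c • a) = c • relTr k R T a := by
  classical
  simp only [relTr_eq_sum, conjA_smul, Finset.smul_sum]

theorem relTr_zero (R T : Subgroup G) : relTr k R T (0 : MonoidAlgebra k G) = 0 := by
  classical
  simp [relTr_eq_sum, conjA_zero]

theorem relTr_mem_fixAlg {R T : Subgroup G} {a : MonoidAlgebra k G} (ha : a ∈ fixAlg k R) :
    relTr k R T a ∈ fixAlg k T := by
  classical
  intro t ht
  rw [relTr_eq_sum, conjA_sum]
  refine Fintype.sum_equiv (MulAction.toPerm (⟨t, ht⟩ : T)) _ _ fun q => ?_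
  obtain ⟨x, rfl⟩ := QuotientGroup.mk_surjective q
  rw [MulAction.toPerm_apply, MulAction.Quotient.smul_mk, smul_eq_mul, conjA_out_eq ha,
    conjA_out_eq ha, Subgroup.coe_mul, conjA_mul_left]

theorem relTr_mem_suppAlg {R T H : Subgroup G} (hT : T ≤ Subgroup.normalizer (H : Set G))
    {a : MonoidAlgebra k G} (ha : a ∈ suppAlg k H) : relTr k R T a ∈ suppAlg k H := by
  classical
  rw [relTr_eq_sum]
  refine Subalgebra.sum_mem _ fun q _ => ?_
  have h := conjA_mem_suppAlg ha ((q.out : T) : G)
  rwa [map_conj_eq_self (hT (q.out).2)] at h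

theorem relTr_of_fixed {R T : Subgroup G} {a : MonoidAlgebra k G} (ha : a ∈ fixAlg k T) :
    relTr k R T a = ((R.relIndex T : ℕ) : k) • a := by
  classical
  rw [relTr_eq_sum, Finset.sum_congr rfl (fun q _ => ha _ (q.out).2), Finset.sum_const,
    Finset.card_univ, Nat.cast_smul_eq_nsmul, Subgroup.relIndex, Subgroup.index_eq_card,
    Nat.card_eq_fintype_card]

/-- Transitivity of the relative trace. -/
theorem relTr_relTr {S R T : Subgroup G} (hSR : S ≤ R) (hRT : R ≤ T) {a : MonoidAlgebra k G}
    (ha : a ∈ fixAlg k S) : relTr k R T (relTr k S R a) = relTr k S T a := by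
  classical
  rw [relTr_eq_sum R T, relTr_eq_sum S T, relTr_eq_sum S R]
  simp only [conjA_sum]
  rw [← Fintype.sum_prod_type']
  let f : (T ⧸ R.subgroupOf T) × (R ⧸ S.subgroupOf R) → T ⧸ S.subgroupOf T := fun qr =>
    QuotientGroup.mk (qr.1.out * Subgroup.inclusion hRT qr.2.out)
  have hf : Function.Bijective f := by
    constructor
    · rintro ⟨q, r⟩ ⟨q', r'⟩ h
      have h1 := QuotientGroup.eq.1 h
      rw [Subgroup.mem_subgroupOf] at h1
      simp only [Subgroup.coe_mul, Subgroup.coe_inv, Subgroup.coe_inclusion, mul_inv_rev] at h1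
      have hq : q = q' := by
        rw [← QuotientGroup.out_eq' q, ← QuotientGroup.out_eq' q', QuotientGroup.eq,
          Subgroup.mem_subgroupOf]
        have h2 := R.mul_mem (R.mul_mem (r.out).2 (hSR h1)) (R.inv_mem (r'.out).2)
        simpa [mul_assoc] using h2
      subst hq
      refine Prod.ext rfl ?_
      show r = r'
      rw [← QuotientGroup.out_eq' r, ← QuotientGroup.out_eq' r', QuotientGroup.eq,
        Subgroup.mem_subgroupOf]
      simpa [mul_assoc] using h1
    · intro u
      obtain ⟨x, rfl⟩ := QuotientGroup.mk_surjective u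
      obtain ⟨⟨h, hh⟩, hx⟩ := QuotientGroup.mk_out_eq_mul (R.subgroupOf T) x
      rw [Subgroup.mem_subgroupOf] at hh
      have hr : ((h : G))⁻¹ ∈ R := R.inv_mem hh
      obtain ⟨⟨s, hs⟩, hy⟩ := QuotientGroup.mk_out_eq_mul (S.subgroupOf R) (⟨_, hr⟩ : R)
      rw [Subgroup.mem_subgroupOf] at hs
      refine ⟨⟨QuotientGroup.mk x, QuotientGroup.mk ⟨_, hr⟩⟩, ?_⟩
      simp only [f]
      rw [hx, hy, QuotientGroup.eq, Subgroup.mem_subgroupOf]
      simp only [Subgroup.coe_mul, Subgroup.coe_inv, Subgroup.coe_inclusion, mul_inv_rev]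
      simpa [mul_assoc] using S.inv_mem hs
  refine Fintype.sum_equiv (Equiv.ofBijective f hf) _ _ fun qr => ?_
  rw [← conjA_mul_left, Equiv.ofBijective_apply, conjA_out_eq ha]
  rfl

/-- Changing the smaller subgroup by conjugation. -/
theorem relTr_map_conj {R T : Subgroup G} (hRT : R ≤ T) {t : G} (ht : t ∈ T)
    {a : MonoidAlgebra k G} (ha : a ∈ fixAlg k R) :
    relTr k (R.map (MulAut.conj t).toMonoidHom) T (conjA t a) = relTr k R T a := by
  classical
  rw [relTr_eq_sum, relTr_eq_sum]
  let f : T ⧸ (R.map (MulAut.conj t).toMonoidHom).subgroupOf T → T ⧸ R.subgroupOf T := fun q =>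
    QuotientGroup.mk (q.out * (⟨t, ht⟩ : T))
  have hf : Function.Bijective f := by
    constructor
    · intro q q' h
      have h1 := QuotientGroup.eq.1 h
      rw [Subgroup.mem_subgroupOf] at h1
      rw [← QuotientGroup.out_eq' q, ← QuotientGroup.out_eq' q', QuotientGroup.eq,
        Subgroup.mem_subgroupOf]
      exact ⟨_, h1, by simp [mul_assoc]⟩
    · intro u
      obtain ⟨x, rfl⟩ := QuotientGroup.mk_surjective u
      obtain ⟨⟨h, hh⟩, hx⟩ := QuotientGroup.mk_out_eq_mul
        ((R.map (MulAut.conj t).toMonoidHom).subgroupOf T) (x * (⟨t, ht⟩ : T)⁻¹)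
      rw [Subgroup.mem_subgroupOf] at hh
      obtain ⟨r, hr, hrh⟩ := hh
      refine ⟨QuotientGroup.mk (x * (⟨t, ht⟩ : T)⁻¹), ?_⟩
      simp only [f]
      rw [hx, QuotientGroup.eq, Subgroup.mem_subgroupOf]
      simp only [MulEquiv.coe_toMonoidHom, MulAut.conj_apply] at hrh
      simp only [Subgroup.coe_mul, Subgroup.coe_inv, mul_inv_rev, ← hrh]
      simpa [mul_assoc] using R.inv_mem hr
  refine Fintype.sum_equiv (Equiv.ofBijective f hf) _ _ fun q => ?_
  rw [← conjA_mul_left, Equiv.ofBijective_apply, conjA_out_eq ha]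
  rfl

section Brauer

variable {p : ℕ} [CharP k p] [Fact p.Prime]

/-- The Brauer map at a `p`-group kills a trace from subgroups none of whose conjugates
contain it. -/
theorem brMap_relTr_eq_zero {R T P : Subgroup G} (hP : IsPGroup p P) (hPT : P ≤ T)
    {a : MonoidAlgebra k G} (ha : a ∈ fixAlg k R)
    (hno : ∀ t ∈ T, ¬ P ≤ R.map (MulAut.conj t).toMonoidHom) :
    brMap k P (relTr k R T a) = 0 := by
  classical
  ext c
  rw [coeff_zero, Finsupp.zero_apply]
  by_cases hc : c ∈ cz P
  · rw [coeff_brMap_of_mem _ hc, relTr_eq_sum, coeff_sum, Finsupp.finsetSum_apply]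
    let _ : MulAction P (T ⧸ R.subgroupOf T) :=
      MulAction.compHom _ (Subgroup.inclusion hPT)
    rw [sum_eq_sum_fixedPoints (p := p) hP]
    · refine Finset.sum_eq_zero fun q hq => absurd (Finset.mem_filter.1 hq).2 fun hfix => ?_
      refine hno _ (q.out).2 fun u hu => ⟨((q.out : T) : G)⁻¹ * u * (q.out : T), ?_, ?_⟩
      · have h1 : (Subgroup.inclusion hPT ⟨u, hu⟩) • q = q := hfix ⟨u, hu⟩
        conv at h1 => lhs; rw [← QuotientGroup.out_eq' q]
        conv at h1 => rhs; rw [← QuotientGroup.out_eq' q]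
        rw [MulAction.Quotient.smul_mk, QuotientGroup.eq, Subgroup.mem_subgroupOf] at h1
        simpa [mul_assoc] using R.inv_mem h1
      · simp [mul_assoc]
    · intro u q
      show (conjA _ a).coeff c = (conjA _ a).coeff c
      obtain ⟨x, rfl⟩ := QuotientGroup.mk_surjective q
      have : (u • (QuotientGroup.mk x : T ⧸ R.subgroupOf T)) =
          QuotientGroup.mk (Subgroup.inclusion hPT u * x) := rfl
      rw [this, conjA_out_eq ha, conjA_out_eq ha, Subgroup.coe_mul, conjA_mul_left, coeff_conjA,
        Subgroup.coe_inclusion]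
      congr 1
      rw [mul_assoc, ← mem_cz.1 hc u u.2, inv_mul_cancel_left]
  · exact coeff_brMap_of_notMem _ hc

omit [Fintype G] [CharP k p] [Fact p.Prime] in
theorem isPGroup_map_conj {P : Subgroup G} (hP : IsPGroup p P) (g : G) :
    IsPGroup p (P.map (MulAut.conj g).toMonoidHom) := hP.map _

/-- `br_D ∘ Tr_D^T = Tr_D^{N_T(D)} ∘ br_D`. -/
theorem brMap_relTr_self {D T : Subgroup G} (hD : IsPGroup p D) (hDT : D ≤ T)
    {a : MonoidAlgebra k G} (ha : a ∈ fixAlg k D) :
    brMap k D (relTr k D T a) =
      relTr k D (T ⊓ Subgroup.normalizer (D : Set G)) (brMap k D a) := by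
  classical
  set N := T ⊓ Subgroup.normalizer (D : Set G) with hN
  ext c
  by_cases hc : c ∈ cz D
  · rw [coeff_brMap_of_mem _ hc, relTr_eq_sum, relTr_eq_sum, coeff_sum, coeff_sum,
      Finsupp.finsetSum_apply, Finsupp.finsetSum_apply]
    let _ : MulAction D (T ⧸ D.subgroupOf T) :=
      MulAction.compHom _ (Subgroup.inclusion hDT)
    rw [sum_eq_sum_fixedPoints (p := p) hD]
    · symm
      refine Finset.sum_bij (fun q _ => (QuotientGroup.mk
        (Subgroup.inclusion (inf_le_left : N ≤ T) q.out) : T ⧸ D.subgroupOf T)) ?_ ?_ ?_ ?_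
      · intro q _
        refine Finset.mem_filter.2 ⟨Finset.mem_univ _, fun u => ?_⟩
        show QuotientGroup.mk (Subgroup.inclusion hDT u * Subgroup.inclusion _ q.out) = _
        rw [QuotientGroup.eq, Subgroup.mem_subgroupOf]
        simp only [Subgroup.coe_mul, Subgroup.coe_inv, Subgroup.coe_inclusion, mul_inv_rev]
        refine ((q.out).2.2 _).2 ?_
        simpa [mul_assoc] using D.inv_mem u.2
      · intro q _ q' _ h
        have h1 := QuotientGroup.eq.1 h
        rw [← QuotientGroup.out_eq' q, ← QuotientGroup.out_eq' q', QuotientGroup.eq,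
          Subgroup.mem_subgroupOf]
        exact h1
      · intro q hq
        obtain ⟨-, hfix⟩ := Finset.mem_filter.1 hq
        have hmem : ∀ u ∈ D, ((q.out : T) : G)⁻¹ * u * (q.out : T) ∈ D := by
          intro u hu
          have h1 : (Subgroup.inclusion hDT ⟨u, hu⟩) • q = q := hfix ⟨u, hu⟩
          conv at h1 => lhs; rw [← QuotientGroup.out_eq' q]
          conv at h1 => rhs; rw [← QuotientGroup.out_eq' q]
          rw [MulAction.Quotient.smul_mk, QuotientGroup.eq, Subgroup.mem_subgroupOf] at h1
          simpa [mul_assoc] using D.inv_mem h1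
        have hnorm : ((q.out : T) : G) ∈ Subgroup.normalizer (D : Set G) := by
          rw [← Subgroup.inv_mem_iff]
          refine Subgroup.mem_normalizer_fintype fun u hu => ?_
          rw [inv_inv]; exact hmem u hu
        refine ⟨QuotientGroup.mk ⟨(q.out : T), (q.out).2, hnorm⟩, Finset.mem_univ _, ?_⟩
        obtain ⟨⟨h, hh⟩, hx⟩ := QuotientGroup.mk_out_eq_mul (D.subgroupOf N)
          (⟨(q.out : T), (q.out).2, hnorm⟩ : N)
        rw [Subgroup.mem_subgroupOf] at hh
        conv_rhs => rw [← QuotientGroup.out_eq' q]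
        rw [hx, QuotientGroup.eq, Subgroup.mem_subgroupOf]
        simpa [mul_assoc] using D.inv_mem hh
      · intro q _
        show _ = (conjA _ a).coeff c
        rw [conjA_out_eq ha, Subgroup.coe_inclusion, conjA_brMap,
          map_conj_eq_self (q.out).2.2, coeff_brMap_of_mem _ hc]
    · intro u q
      show (conjA _ a).coeff c = (conjA _ a).coeff c
      obtain ⟨x, rfl⟩ := QuotientGroup.mk_surjective q
      have : (u • (QuotientGroup.mk x : T ⧸ D.subgroupOf T)) =
          QuotientGroup.mk (Subgroup.inclusion hDT u * x) := rfl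
      rw [this, conjA_out_eq ha, conjA_out_eq ha, Subgroup.coe_mul, conjA_mul_left, coeff_conjA,
        Subgroup.coe_inclusion]
      congr 1
      rw [mul_assoc, ← mem_cz.1 hc u u.2, inv_mul_cancel_left]
  · rw [coeff_brMap_of_notMem _ hc, coeff_eq_zero_of_mem_suppAlg ?_ hc]
    exact relTr_mem_suppAlg (inf_le_right.trans (normalizer_le_normalizer_cz D)) (brMap_mem_suppAlg D a)

omit [CharP k p] in
/-- An element fixed by the `p`-group `R`, killed by its Brauer map, lies in any additive
submonoid containing the traces from proper subgroups. -/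
theorem mem_of_brMap_eq_zero {Q R : Subgroup G} (hQR : Q ≤ R)
    (hRQ : R ≤ Subgroup.normalizer (Q : Set G)) (J : AddSubmonoid (MonoidAlgebra k G))
    (hJ : ∀ S : Subgroup G, Q ≤ S → S < R → ∀ b : MonoidAlgebra k G,
      b ∈ suppAlg k (cz Q) → b ∈ fixAlg k S → relTr k S R b ∈ J)
    {a : MonoidAlgebra k G} (hsupp : a ∈ suppAlg k (cz Q)) (hfix : a ∈ fixAlg k R)
    (hbr : brMap k R a = 0) : a ∈ J := by
  classical
  induction hn : a.coeff.support.card using Nat.strong_induction_on generalizing a with
  | _ n ih =>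
    by_cases ha0 : a = 0
    · subst ha0; exact J.zero_mem
    obtain ⟨x, hx⟩ : ∃ x, a.coeff x ≠ 0 := by
      by_contra h
      simp only [not_exists, not_not] at h
      exact ha0 (by ext y; simp [h y])
    have hxR : x ∉ cz R := fun h => hx (by rw [← coeff_brMap_of_mem a h, hbr]; simp)
    set S : Subgroup G := R ⊓ Subgroup.centralizer ({x} : Set G) with hS
    have hQS : Q ≤ S := le_inf hQR fun q hq => Subgroup.mem_centralizer_iff.2 fun y hy => by
      rw [Set.mem_singleton_iff.1 hy]
      exact (mem_cz.1 (hsupp x hx) q hq).symm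
    have hSR : S < R := lt_of_le_of_ne inf_le_left fun h => hxR (mem_cz.2 fun r hr => by
      have h' : r ∈ S := h.symm ▸ hr
      exact (Subgroup.mem_centralizer_iff.1 h'.2 x rfl).symm)
    set b : MonoidAlgebra k G := single x (a.coeff x) with hb
    have hbsupp : b ∈ suppAlg k (cz Q) := single_mem_suppAlg (hsupp x hx) _
    have hbfix : b ∈ fixAlg k S := by
      intro s hs
      have hsx : x * s = s * x := Subgroup.mem_centralizer_iff.1 hs.2 x rfl
      rw [hb, conjA, single_mul_single, single_mul_single, one_mul, mul_one, ← hsx,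
        mul_inv_cancel_right]
    have htJ := hJ S hQS hSR b hbsupp hbfix
    set t := relTr k S R b with ht
    have hcoeff : ∀ (g : G) (y : G), (conjA g b).coeff y =
        if y = g * x * g⁻¹ then a.coeff x else 0 := by
      intro g y
      rw [coeff_conjA, hb, coeff_single]
      by_cases h : y = g * x * g⁻¹
      · rw [if_pos h, h]; simp [mul_assoc]
      · rw [if_neg h, Finsupp.single_eq_of_ne]
        exact fun h' => h (by rw [← h']; simp [mul_assoc])
    have hty : ∀ y, t.coeff y = 0 ∨ (t.coeff y = a.coeff y ∧ ∃ r ∈ R, y = r * x * r⁻¹) := by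
      intro y
      rw [ht, relTr_eq_sum, coeff_sum, Finsupp.finsetSum_apply]
      by_cases hy : ∃ r : R, y = (r : G) * x * (r : G)⁻¹
      · obtain ⟨r, rfl⟩ := hy
        right
        refine ⟨?_, r, r.2, rfl⟩
        rw [Finset.sum_eq_single (QuotientGroup.mk r : R ⧸ S.subgroupOf R)]
        · rw [conjA_out_eq hbfix, hcoeff, if_pos rfl, mem_fixAlg_iff_coeff.1 hfix r r.2]
        · intro q _ hq
          rw [hcoeff, if_neg]
          intro h
          refine hq ?_
          conv_lhs => rw [← QuotientGroup.out_eq' q]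
          rw [QuotientGroup.eq, Subgroup.mem_subgroupOf]
          refine ⟨R.mul_mem (R.inv_mem (q.out).2) r.2, Subgroup.mem_centralizer_iff.2 ?_⟩
          intro y hy
          rw [Set.mem_singleton_iff.1 hy]
          have h2 := congrArg (fun z => ((q.out : R) : G)⁻¹ * z * (r : G)) h
          simpa [mul_assoc] using h2.symm
        · exact fun h => absurd (Finset.mem_univ _) h
      · left
        refine Finset.sum_eq_zero fun q _ => ?_
        rw [hcoeff, if_neg fun h => hy ⟨q.out, h⟩]
    have htx : t.coeff x = a.coeff x := by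
      rcases hty x with h | ⟨h, -⟩
      · exfalso
        rw [ht, relTr_eq_sum, coeff_sum, Finsupp.finsetSum_apply,
          Finset.sum_eq_single (QuotientGroup.mk 1 : R ⧸ S.subgroupOf R)] at h
        · rw [conjA_out_eq hbfix, hcoeff, if_pos (by simp)] at h; exact hx h
        · intro q _ hq
          rw [hcoeff, if_neg]
          intro h'
          refine hq ?_
          conv_lhs => rw [← QuotientGroup.out_eq' q]
          rw [QuotientGroup.eq, Subgroup.mem_subgroupOf, mul_one]
          refine S.inv_mem ⟨(q.out).2, Subgroup.mem_centralizer_iff.2 ?_⟩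
          intro y hy
          rw [Set.mem_singleton_iff.1 hy]
          conv_lhs => rw [h']
          simp [mul_assoc]
        · exact fun h => absurd (Finset.mem_univ _) h
      · exact h
    have hne : t.coeff x ≠ 0 := htx ▸ hx
    have hlt : (a - t).coeff.support.card < n := by
      rw [← hn]
      refine Finset.card_lt_card ((Finset.ssubset_iff_of_subset fun y hy => ?_).2
        ⟨x, Finsupp.mem_support_iff.2 hx, ?_⟩)
      · rw [Finsupp.mem_support_iff, coeff_sub, Finsupp.sub_apply] at hy
        rw [Finsupp.mem_support_iff]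
        intro h
        rcases hty y with h' | ⟨h', -⟩
        · exact hy (by rw [h, h', sub_zero])
        · exact hy (by rw [h', sub_self])
      · rw [Finsupp.mem_support_iff, coeff_sub, Finsupp.sub_apply, htx, sub_self]
        simp
    have htbr : brMap k R t = 0 := by
      ext y
      rw [coeff_zero, Finsupp.zero_apply]
      by_cases hy : y ∈ cz R
      · rw [coeff_brMap_of_mem _ hy]
        rcases hty y with h' | ⟨h', -⟩
        · exact h'
        · rw [h', ← coeff_brMap_of_mem a hy, hbr]; simp
      · exact coeff_brMap_of_notMem _ hy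
    have hrec := ih _ hlt (a := a - t)
      (Subalgebra.sub_mem _ hsupp
        (relTr_mem_suppAlg (fun n hn' => normalizer_le_normalizer_cz Q (hRQ hn')) hbsupp))
      (Subalgebra.sub_mem _ hfix (show t ∈ fixAlg k R from relTr_mem_fixAlg hbfix))
      (by rw [map_sub, hbr, htbr, sub_zero]) rfl
    have : a = (a - t) + t := (sub_add_cancel a t).symm
    rw [this]
    exact J.add_mem hrec htJ

end Brauer

end CfsgLib.BrauerPairs
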