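import Cfsg.Agent.Lib.BrauerPairs.Local

/-!
# Normalisers of subpairs and defect groups of stabiliser blocks
-/

namespace CfsgLib.BrauerPairs

open Cfsg MonoidAlgebra

variable {p : ℕ} {M : Ideal AlgInt} [M.IsMaximal] {G : Type*} [Group G] [Fintype G]
  [Fact p.Prime]

omit [Fact p.Prime] in
theorem setup_of_stab (hM : IsPModular p M) {Q : Subgroup G} {f : Set (IrrCharacter (cz Q))}
    (hQ : IsPGroup p Q) (hf : IsPBlock M f) {T : Subgroup G}
    (hT : ∀ y : G, y ∈ T ↔ y ∈ Subgroup.normalizer (Q : Set G) ∧ StabilizesBlock (cz Q) f y) :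
    BrSetup p Q (eA hM (cz Q) f) T := by
  have hb := isBlockIdem_eA hM hf
  have key : ∀ y ∈ Subgroup.normalizer (Q : Set G),
      conjA y (eA hM (cz Q) f) = eA hM (cz Q) f → y ∈ T := fun y hy hc =>
    (hT y).2 ⟨hy, (stabilizesBlock_iff_conjA hM (normalizer_le_normalizer_cz Q hy) hf).2 hc⟩
  refine ⟨hQ, hb, fun y hy => ((hT y).1 hy).1, fun y hy => key y (cz_le_normalizer Q hy) ?_,
    fun y hy => key y (Subgroup.le_normalizer hy) ?_, fun y hy => ?_⟩
  · exact hb.fixed y hy
  · exact fixed_of_supp_cz hb.supp y hy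
  · obtain ⟨h1, h2⟩ := (hT y).1 hy
    exact (stabilizesBlock_iff_conjA hM (normalizer_le_normalizer_cz Q h1) hf).1 h2

/-- `N_P(Q)` lies in a defect group of the setting of the stabiliser. -/
theorem normalizer_le_defect (hM : IsPModular p M) {P Q : Subgroup G}
    {e : Set (IrrCharacter (cz P))} {f : Set (IrrCharacter (cz Q))}
    (hP : IsPGroup p P) (he : IsPBlock M e) (hf : IsPBlock M f) (hle : SubpairLE p M Q f P e)
    {T : Subgroup G}
    (hT : ∀ y : G, y ∈ T ↔ y ∈ Subgroup.normalizer (Q : Set G) ∧ StabilizesBlock (cz Q) f y) :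
    ∃ D, IsDefect p Q (eA hM (cz Q) f) T D ∧ P ⊓ Subgroup.normalizer (Q : Set G) ≤ D := by
  have := charP_res hM
  have hpair := (subpairLE_iff hM hf he).1 hle
  have hS := setup_of_stab hM (hP.to_le hpair.le) hf hT
  obtain ⟨h, hh, -⟩ := normalSub_through (hasBlocks hM) hpair hP (isBlockIdem_eA hM he)
    (S := P ⊓ Subgroup.normalizer (Q : Set G)) (le_inf hpair.le Subgroup.le_normalizer) inf_le_left
    inf_le_right
  refine hS.exists_defect_ge (hP.to_le inf_le_left) (fun y hy => (hT y).2 ⟨hy.2, ?_⟩) fun h0 =>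
    hh.block_right.ne_zero ?_
  · exact (stabilizesBlock_iff_conjA hM (normalizer_le_normalizer_cz Q hy.2) hf).2 (hh.fixed y hy)
  · rw [← hh.cover]
    show brMap (ResK M) _ (eA hM (cz Q) f) * h = 0
    rw [h0, zero_mul]

/-- Some conjugate of the pair has `N_P(Q)` as a defect group of its stabiliser setting. -/
theorem exists_conj_normalizer_eq (hM : IsPModular p M) {B : Set (IrrCharacter G)}
    {P Q : Subgroup G} {e : Set (IrrCharacter (cz P))} {f : Set (IrrCharacter (cz Q))}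
    (hmax : IsMaximalBrauerPair p M B P e) (hf : IsPBlock M f) (hle : SubpairLE p M Q f P e) :
    ∃ x : G, SubpairLE p M (Q.map (MulAut.conj x).toMonoidHom) (conjBlock Q x f) P e ∧
      ∀ T' : Subgroup G, (∀ y : G, y ∈ T' ↔
        y ∈ Subgroup.normalizer ((Q.map (MulAut.conj x).toMonoidHom : Subgroup G) : Set G) ∧
          StabilizesBlock (cz (Q.map (MulAut.conj x).toMonoidHom)) (conjBlock Q x f) y) →
        IsDefect p (Q.map (MulAut.conj x).toMonoidHom)
          (eA hM (cz (Q.map (MulAut.conj x).toMonoidHom)) (conjBlock Q x f)) T'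
          (P ⊓ Subgroup.normalizer ((Q.map (MulAut.conj x).toMonoidHom : Subgroup G) : Set G)) := by
  have := charP_res hM
  obtain ⟨hP, hD⟩ := (isMaximalBrauerPair_iff hM B P e).1 hmax
  obtain ⟨he, hB, hOP⟩ := (isBrauerPairOf_iff hM B P e).1 hP
  have hpair := (subpairLE_iff hM hf he).1 hle
  have hQp : IsPGroup p Q := hOP.pgroup.to_le hpair.le
  have hb := isBlockIdem_eA hM hf
  let T : Subgroup G := pairStab Q (eA hM (cz Q) f)
  have hT : ∀ y : G, y ∈ T ↔ y ∈ Subgroup.normalizer (Q : Set G) ∧ StabilizesBlock (cz Q) f y :=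
    fun y => ⟨fun hy => ⟨hy.1,
      (stabilizesBlock_iff_conjA hM (normalizer_le_normalizer_cz Q hy.1) hf).2 hy.2⟩,
      fun hy => ⟨hy.1,
        (stabilizesBlock_iff_conjA hM (normalizer_le_normalizer_cz Q hy.1) hf).1 hy.2⟩⟩
  have hS := setup_of_stab hM hQp hf hT
  obtain ⟨D, hDd⟩ := hS.exists_isDefect
  have hDN : D ≤ Subgroup.normalizer (Q : Set G) := hDd.le_T.trans hS.le_norm
  have hfD : eA hM (cz Q) f ∈ fixAlg (ResK M) D := fixAlg_anti hDd.le_T hS.fixed
  obtain ⟨h, hh, hcov⟩ := exists_block_le (hasBlocks hM)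
    (brMap_mem_suppAlg D (eA hM (cz Q) f))
    (brMap_mem_fixAlg (cz_le_normalizer D) (fixAlg_anti (cz_anti hDd.le) hb.fixed))
    (by rw [← brMap_mul hDd.pgroup hfD hfD, hb.idem]) hDd.br_ne
  have hstep : NormalSub p (Q, eA hM (cz Q) f) (D, h) :=
    ⟨hQp, hDd.pgroup, hb, hh, hDd.le, hDN, hfD, hcov⟩
  have hbG := isBlockIdem_eG hM hB
  have hOS : OverPair p (⊥ : Subgroup G) (eG hM B) ⊤ D h :=
    ⟨hDd.pgroup, bot_le, le_top, hh, (brMap_cover_iff (Relation.ReflTransGen.single hstep)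
      hbG.fixed hbG.idem).1 ((brMap_cover_iff hpair hbG.fixed hbG.idem).2 hOP.cover)⟩
  obtain ⟨x, -, hx⟩ := (brSetup_block hM hB).exists_conj_le (hasBlocks hM) hOS hD hOP
  set Q' := Q.map (MulAut.conj x).toMonoidHom with hQ'
  set f' := conjBlock Q x f with hf'
  have hf'B : IsPBlock M f' := isPBlock_conjBlock Q x hf
  have hle' : SubpairLE p M Q' f' P e := by
    refine (subpairLE_iff hM hf'B he).2 ?_
    rw [hf', ← conjA_eA_conjBlock hM Q x f]
    exact Relation.ReflTransGen.head (hstep.conj x) hx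
  refine ⟨x, hle', fun T' hT' => ?_⟩
  have hS' := setup_of_stab hM (hQp.map _) hf'B hT'
  obtain ⟨D', hD', hND'⟩ := normalizer_le_defect hM hOP.pgroup he hf'B hle' hT'
  have hxD : D.map (MulAut.conj x).toMonoidHom ≤ P ⊓ Subgroup.normalizer (Q' : Set G) :=
    le_inf hx.le (hstep.conj x).le_norm
  have hback : D'.map (MulAut.conj x⁻¹).toMonoidHom ≤ T := by
    rintro _ ⟨d, hd, rfl⟩
    simp only [MulEquiv.coe_toMonoidHom, MulAut.conj_apply, inv_inv]
    obtain ⟨h1, h2⟩ := mem_pairStab.1 (show d ∈ pairStab Q' (eA hM (cz Q') f') from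
      ⟨hS'.le_norm (hD'.le_T hd), hS'.fixed d (hD'.le_T hd)⟩)
    refine ⟨?_, ?_⟩
    · intro q
      have hq := h1 (x * q * x⁻¹)
      simp only [SetLike.mem_coe, hQ', Subgroup.mem_map, MulEquiv.coe_toMonoidHom,
        MulAut.conj_apply] at hq ⊢
      constructor
      · intro hqQ
        obtain ⟨u, hu, hu'⟩ := hq.1 ⟨q, hqQ, rfl⟩
        have h3 := congrArg (fun w => x⁻¹ * w * x) hu'
        simp only [mul_assoc, inv_mul_cancel_left, inv_mul_cancel, mul_one] at h3
        simpa [mul_assoc, h3] using hu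
      · intro hqQ
        obtain ⟨u, hu, hu'⟩ := hq.2 ⟨_, hqQ, by simp [mul_assoc]⟩
        rwa [← mul_left_cancel (mul_right_cancel hu')]
    · apply conjA_inj (g := x)
      rw [← conjA_mul_left, conjA_eA_conjBlock hM Q x f, ← hf',
        show x * (x⁻¹ * d * x) = d * x by simp [mul_assoc], conjA_mul_left,
        conjA_eA_conjBlock hM Q x f, ← hf']
      exact h2
  have hne : brMap (ResK M) (D'.map (MulAut.conj x⁻¹).toMonoidHom) (eA hM (cz Q) f) ≠ 0 := by
    have h0 : eA hM (cz Q) f = conjA x⁻¹ (eA hM (cz Q') f') := by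
      rw [hf', ← conjA_eA_conjBlock hM Q x f, ← conjA_mul_left, inv_mul_cancel, conjA_one_left]
    rw [h0, ← conjA_brMap]
    exact fun h => hD'.br_ne (conjA_inj (g := x⁻¹) (by rw [h, conjA_zero]))
  have hcard := hS.card_le_defect hDd (hD'.pgroup.map _) hback hne
  rw [Subgroup.card_map_of_injective (MulAut.conj x⁻¹).injective] at hcard
  have heq : P ⊓ Subgroup.normalizer (Q' : Set G) = D' := Subgroup.eq_of_le_of_card_ge hND' (by
    refine hcard.trans ((Subgroup.card_le_of_le hxD).trans_eq' ?_)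
    exact (Subgroup.card_map_of_injective (f := (MulAut.conj x).toMonoidHom)
      (MulAut.conj x).injective))
  rwa [heq]

/-- The normaliser part of the structure of subpairs. -/
theorem normalizer_part (hM : IsPModular p M) {B : Set (IrrCharacter G)}
    {P Q : Subgroup G} {e : Set (IrrCharacter (cz P))} {f : Set (IrrCharacter (cz Q))}
    (hmax : IsMaximalBrauerPair p M B P e) (hf : IsPBlock M f) (hle : SubpairLE p M Q f P e)
    (T : Subgroup G)
    (hT : ∀ y : G, y ∈ T ↔ y ∈ Subgroup.normalizer (Q : Set G) ∧ StabilizesBlock (cz Q) f y) :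
    (∃ F : Set (IrrCharacter T), IsPBlock M F ∧
      (∀ t : T, blockCoeff F t = subgroupBlockCoeff (cz Q) f (t : G)) ∧
      ∃ D : Subgroup T, IsDefectGroup p M F D ∧
        (P ⊓ Subgroup.normalizer (Q : Set G)).subgroupOf T ≤ D) ∧
    ∃ x : G, SubpairLE p M (Q.map (MulAut.conj x).toMonoidHom) (conjBlock Q x f) P e ∧
      ∀ (T' : Subgroup G), (∀ y : G, y ∈ T' ↔
        y ∈ Subgroup.normalizer ((Q.map (MulAut.conj x).toMonoidHom) : Set G) ∧
          StabilizesBlock (cz (Q.map (MulAut.conj x).toMonoidHom)) (conjBlock Q x f) y) →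
        ∃ F' : Set (IrrCharacter T'), IsPBlock M F' ∧
          (∀ t : T', blockCoeff F' t = subgroupBlockCoeff
            (cz (Q.map (MulAut.conj x).toMonoidHom)) (conjBlock Q x f) (t : G)) ∧
          IsDefectGroup p M F'
            ((P ⊓ Subgroup.normalizer ((Q.map (MulAut.conj x).toMonoidHom) : Set G)).subgroupOf
              T') := by
  obtain ⟨he, -, hOP⟩ := (isBrauerPairOf_iff hM B P e).1 hmax.1
  have hQp : IsPGroup p Q := hOP.pgroup.to_le (pairLE_of_subpairLE hM hle).le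
  constructor
  · have hS := setup_of_stab hM hQp hf hT
    obtain ⟨F, hF, hFc, hFe⟩ := exists_stabilizer_block hM hf hS
    obtain ⟨D, hD, hND⟩ := normalizer_le_defect hM hOP.pgroup he hf hle hT
    exact ⟨F, hF, hFc, D.subgroupOf T, (isDefectGroup_stabilizer_iff hM hS hF hFe _).2
      ((Subgroup.map_subgroupOf_eq_of_le hD.le_T).symm ▸ hD), Subgroup.comap_mono hND⟩
  · obtain ⟨x, hx, hdef⟩ := exists_conj_normalizer_eq hM hmax hf hle
    refine ⟨x, hx, fun T' hT' => ?_⟩
    have hf' := isPBlock_conjBlock Q x hf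
    have hS' := setup_of_stab hM (hQp.map _) hf' hT'
    obtain ⟨F, hF, hFc, hFe⟩ := exists_stabilizer_block hM hf' hS'
    exact ⟨F, hF, hFc, (isDefectGroup_stabilizer_iff hM hS' hF hFe _).2
      ((Subgroup.map_subgroupOf_eq_of_le (hdef T' hT').le_T).symm ▸ hdef T' hT')⟩

end CfsgLib.BrauerPairs
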