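import Cfsg.Agent.Lib.BrauerPairs.SystemBridge
import Cfsg.Agent.Lib.Fusion.PAut
import Cfsg.Agent.Lib.Blocks.TraceVanish

/-!
# Nilpotent blocks and their fusion systems
-/

namespace CfsgLib.BrauerPairs

open Cfsg MonoidAlgebra Cfsg.FusionSystem

variable {p : ℕ} {M : Ideal AlgInt} [M.IsMaximal] {G : Type*} [Group G] [Fintype G]
  [Fact p.Prime] {B : Set (IrrCharacter G)} {P : Subgroup G} {e : Set (IrrCharacter (cz P))}
  {F : FusionSystem P}

set_option linter.unusedSectionVars false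

theorem conjPair_eq_iff {k : Type*} [Field k] {Q : Subgroup G} {a : MonoidAlgebra k G} {g : G}
    (hg : g ∈ Subgroup.normalizer (Q : Set G)) :
    conjPair g (Q, a) = (Q, a) ↔ conjA g a = a :=
  ⟨fun h => congrArg Prod.snd h, fun h => Prod.ext (map_conj_eq_self hg) h⟩

/-- A Brauer pair of the block, below `(P, e)`. -/
theorem isBrauerPairOf_of_subpairLE (hM : IsPModular p M) (hP : IsBrauerPairOf p M B P e)
    {Q : Subgroup G} {f : Set (IrrCharacter (cz Q))} (hle : SubpairLE p M Q f P e) :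
    IsBrauerPairOf p M B Q f := by
  have := charP_res hM
  obtain ⟨he, hB, hOP⟩ := (isBrauerPairOf_iff hM B P e).1 hP
  have hf := isPBlock_of_subpairLE he hle
  have hpair := (subpairLE_iff hM hf he).1 hle
  exact (isBrauerPairOf_iff hM B Q f).2 ⟨hf, hB, hOP.pgroup.to_le hpair.le, bot_le, le_top,
    isBlockIdem_eA hM hf, (brMap_cover_iff hpair (isBlockIdem_eG hM hB).fixed
      (isBlockIdem_eG hM hB).idem).2 hOP.cover⟩

theorem inner_of_nilpotent (hM : IsPModular p M) (hF : IsBlockFusionSystemOn p M B P e F)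
    (hnil : IsNilpotentBlock p M B) : ∀ Q, F.Hom Q = (innerFusionSystem P).Hom Q := by
  have := charP_res hM
  obtain ⟨he, -, hOP⟩ := (isBrauerPairOf_iff hM B P e).1 hF.1.1
  have hsys := isPairSystem_of_isBlockFusionSystemOn hM hF
  refine Fusion.eq_inner_of_pGroup_autGroups hOP.pgroup (isSaturated_blockFusion hM hF) fun Q hQ => ?_
  rintro ⟨α, hα⟩
  obtain ⟨g, hg, a, ha, ha'⟩ := (hsys Q _).1 ((Fusion.mem_autGroup hQ.1).1 hα)
  have hgN : g ∈ Subgroup.normalizer (Q : Set G) := Fusion.mem_normalizer_of_aut hg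
  have hb : IsBlockIdem (cz Q) a := ha.block_left (isBlockIdem_eA hM he)
  obtain ⟨f, hf, rfl⟩ := exists_eA_eq hM hb
  have hfix : conjA g (eA hM (cz Q) f) = eA hM (cz Q) f := by
    refine pairLE_unique (hasBlocks hM) (b := (P, eA hM (cz P) e)) (Q := Q) (isBlockIdem_eA hM he)
      hOP.pgroup ?_ ha
    have h2 : PairLE p ((Q.map (MulAut.conj g).toMonoidHom), conjA g (eA hM (cz Q) f))
      (P, eA hM (cz P) e) := ha'
    rwa [map_conj_eq_self hgN] at h2
  have hsub := (subpairLE_iff hM hf he).2 ha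
  have hmem : g ∈ pairStab Q (eA hM (cz Q) f) := ⟨hgN, hfix⟩
  refine ⟨(Nat.card G).factorization p, ?_⟩
  set N := p ^ (Nat.card G).factorization p with hN
  have hpow := Subgroup.pow_mem _ hmem N
  have hc := hnil.2 Q f (isBrauerPairOf_of_subpairLE hM hF.1.1 hsub) (g ^ N) hpow.1
    ((stabilizesBlock_iff_conjA hM (normalizer_le_normalizer_cz Q hpow.1) hf).2 hpow.2)
    (Blocks.isPRegular_pow_card (Fact.out : p.Prime) g)
  have key : ∀ (n : ℕ) (x : Q), (((α ^ n) x : Q) : G) = g ^ n * x * (g ^ n)⁻¹ := by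
    intro n
    induction n with
    | zero => intro x; simp
    | succ n ih =>
      intro x
      have h1 : ((α x : Q) : G) = g * x * g⁻¹ := hg x
      rw [pow_succ, MulAut.mul_apply, ih, h1, pow_succ]
      group
  refine Subtype.ext (MulEquiv.ext fun x => Subtype.ext ?_)
  rw [SubgroupClass.coe_pow]
  show (((α ^ N) x : Q) : G) = (x : G)
  rw [key, ← mem_cz.1 hc x x.2, mul_inv_cancel_right]

theorem nilpotent_of_inner (hM : IsPModular p M) (hF : IsBlockFusionSystemOn p M B P e F)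
    (hinn : ∀ Q, F.Hom Q = (innerFusionSystem P).Hom Q) : IsNilpotentBlock p M B := by
  have := charP_res hM
  obtain ⟨hP, hD⟩ := (isMaximalBrauerPair_iff hM B P e).1 hF.1
  obtain ⟨he, hB, hOP⟩ := (isBrauerPairOf_iff hM B P e).1 hP
  have hsys := isPairSystem_of_isBlockFusionSystemOn hM hF
  refine ⟨hB, fun Q f hQf x hxN hxf hxr => ?_⟩
  obtain ⟨hf, -, hOQ⟩ := (isBrauerPairOf_iff hM B Q f).1 hQf
  obtain ⟨t, -, ht⟩ := (brSetup_block hM hB).exists_conj_le (hasBlocks hM) hOQ hD hOP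
  set x' := t * x * t⁻¹ with hx'
  set Q' := Q.map (MulAut.conj t).toMonoidHom with hQ'
  have hfix : conjPair x (Q, eA hM (cz Q) f) = (Q, eA hM (cz Q) f) :=
    (conjPair_eq_iff hxN).2
      ((stabilizesBlock_iff_conjA hM (normalizer_le_normalizer_cz Q hxN) hf).1 hxf)
  have hfix' : conjPair x' (conjPair t (Q, eA hM (cz Q) f)) = conjPair t (Q, eA hM (cz Q) f) := by
    rw [← conjPair_mul, hx', inv_mul_cancel_right, conjPair_mul, hfix]
  have hconn : ConnPair p P (eA hM (cz P) e) x' Q' := by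
    refine ⟨conjA t (eA hM (cz Q) f), ht, ?_⟩
    show PairLE p (conjPair x' (conjPair t (Q, eA hM (cz Q) f))) _
    rw [hfix']
    exact ht
  have hmem : Cfsg.conjHom Q' x' ∈ (innerFusionSystem P).Hom Q' := by
    rw [← hinn]
    exact (hsys Q' _).2 ⟨x', fun u => rfl, hconn⟩
  obtain ⟨hQ'P, s, hs, hse⟩ := hmem
  have hN' : x' ∈ Subgroup.normalizer (Q' : Set G) := by
    have h1 : Q'.map (MulAut.conj x').toMonoidHom = Q' := congrArg Prod.fst hfix'
    refine Fusion.mem_normalizer_of_forall fun y hy => ?_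
    exact h1.le ⟨y, hy, rfl⟩
  let α : MulAut Q' := Q'.normalizerMonoidHom ⟨x', hN'⟩
  have hαs : ∀ u : Q', ((α u : Q') : G) = s * u * s⁻¹ := fun u => hse u
  have hsN : s ∈ Subgroup.normalizer (Q' : Set G) := Fusion.mem_normalizer_of_aut hαs
  obtain ⟨n, hn⟩ := hOP.pgroup ⟨s, hs⟩
  have hαp : α ^ p ^ n = 1 := by
    have h1 : α = Q'.normalizerMonoidHom ⟨s, hsN⟩ :=
      MulEquiv.ext fun u => Subtype.ext (hαs u)
    rw [h1, ← map_pow]
    have : (⟨s, hsN⟩ : Subgroup.normalizer (Q' : Set G)) ^ p ^ n = 1 :=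
      Subtype.ext (by simpa using congrArg Subtype.val hn)
    rw [this, map_one]
  have hαm : α ^ orderOf x = 1 := by
    show (Q'.normalizerMonoidHom ⟨x', hN'⟩) ^ orderOf x = 1
    rw [← map_pow]
    have : (⟨x', hN'⟩ : Subgroup.normalizer (Q' : Set G)) ^ orderOf x = 1 :=
      Subtype.ext (by simp [hx', conj_pow, pow_orderOf_eq_one])
    rw [this, map_one]
  have hα1 : α = 1 := by
    have h := pow_gcd_eq_one.2 ⟨hαp, hαm⟩
    rwa [Nat.Coprime.gcd_eq_one (((Fact.out : p.Prime).coprime_iff_not_dvd.2 hxr).pow_left n),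
      pow_one] at h
  rw [show Subgroup.centralizer (Q : Set G) = cz Q from rfl, mem_cz]
  intro q hq
  have h1 : t * q * t⁻¹ ∈ Q' := ⟨q, hq, rfl⟩
  have h2 := congrArg (fun β : MulAut Q' => ((β ⟨_, h1⟩ : Q') : G)) hα1
  simp only [α, Fusion.coe_normalizerMonoidHom, MulAut.one_apply, hx'] at h2
  have h3 : t * (x * q * x⁻¹) * t⁻¹ = t * q * t⁻¹ := by rw [← h2]; group
  have h4 := mul_left_cancel (mul_right_cancel h3)
  exact (mul_inv_eq_iff_eq_mul.1 h4).symm

theorem nilpotent_iff_inner (hM : IsPModular p M) (hF : IsBlockFusionSystemOn p M B P e F) :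
    IsNilpotentBlock p M B ↔ ∀ Q, F.Hom Q = (innerFusionSystem P).Hom Q :=
  ⟨inner_of_nilpotent hM hF, nilpotent_of_inner hM hF⟩

theorem nilpotent_iff_of_abelian (hM : IsPModular p M) (hmax : IsMaximalBrauerPair p M B P e)
    (hab : ∀ x ∈ P, ∀ y ∈ P, x * y = y * x) :
    IsNilpotentBlock p M B ↔ ∀ x : G, x ∈ Subgroup.normalizer (P : Set G) →
      StabilizesBlock (cz P) e x → x ∈ cz P := by
  have := charP_res hM
  obtain ⟨F, hF⟩ := exists_blockFusion hM hmax
  obtain ⟨he, -, hOP⟩ := (isBrauerPairOf_iff hM B P e).1 hmax.1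
  have hsys := isPairSystem_of_isBlockFusionSystemOn hM hF
  have hPc : ∀ y ∈ P, y ∈ cz P := fun y hy => mem_cz.2 fun x hx => hab x hx y hy
  rw [nilpotent_iff_inner hM hF]
  constructor
  · intro h x hxN hxe
    have hfix : conjPair x (P, eA hM (cz P) e) = (P, eA hM (cz P) e) :=
      (conjPair_eq_iff hxN).2
        ((stabilizesBlock_iff_conjA hM (normalizer_le_normalizer_cz P hxN) he).1 hxe)
    have hm : Cfsg.conjHom P x ∈ (innerFusionSystem P).Hom P := by
      rw [← h]
      refine (hsys P _).2 ⟨x, fun u => rfl, _, Relation.ReflTransGen.refl, ?_⟩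
      rw [hfix]
      exact Relation.ReflTransGen.refl
    obtain ⟨-, s, hs, hse⟩ := hm
    refine mem_cz.2 fun q hq => ?_
    have h1 : x * q * x⁻¹ = s * q * s⁻¹ := hse ⟨q, hq⟩
    rw [hab s hs q hq, mul_inv_cancel_right] at h1
    exact (mul_inv_eq_iff_eq_mul.1 h1).symm
  · intro h Q
    refine Set.Subset.antisymm (fun φ hφ => ?_) (Fusion.inner_le F Q)
    have hQP := Fusion.le_S hφ
    have hRP : φ.range ≤ P := Fusion.range_le_S hφ
    have hcent : ∀ R, R ≤ P → centralizerIn P R = P := fun R hR =>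
      inf_eq_left.2 fun y hy => mem_cz.2 fun x hx => hab x (hR hx) y hy
    have hfc : F.IsFullyCentralized φ.range := ⟨hRP, fun R hR => by
      rw [hcent _ (Fusion.IsConj.le_right hR), hcent _ hRP]⟩
    have hrec := Fusion.receptive_of_fullyCentralized hOP.pgroup (isSaturated_blockFusion hM hF) hfc
    obtain ⟨ψ, hψ, hψφ⟩ := Fusion.exists_extension hrec hφ rfl hQP (fun y hy =>
      Fusion.centralizerIn_le_extender (by rw [hcent Q hQP]; exact hy))
    obtain ⟨g, hg, hc⟩ := (hsys P ψ).1 hψ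
    obtain ⟨a, ha, ha'⟩ := hc
    obtain rfl : a = eA hM (cz P) e := congrArg Prod.snd (ha.snd_eq rfl)
    have hgN : g ∈ Subgroup.normalizer (P : Set G) :=
      Fusion.mem_normalizer_of_forall fun y hy => ha'.le ⟨y, hy, rfl⟩
    have hgc := h g hgN ((stabilizesBlock_iff_conjA hM (normalizer_le_normalizer_cz P hgN) he).2
      (congrArg Prod.snd (ha'.snd_eq (map_conj_eq_self hgN))))
    refine ⟨hQP, 1, P.one_mem, fun u => ?_⟩
    rw [one_mul, inv_one, mul_one, ← hψφ, hg]
    show g * (u : G) * g⁻¹ = u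
    rw [← mem_cz.1 hgc _ (hQP u.2), mul_inv_cancel_right]

end CfsgLib.BrauerPairs
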