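import Mathlib.GroupTheory.PGroup
import Mathlib.GroupTheory.Sylow
import Mathlib.GroupTheory.Subgroup.Centralizer
import Mathlib.Algebra.MonoidAlgebra.Basic
import Mathlib.Algebra.Algebra.Subalgebra.Basic
import Mathlib.Algebra.CharP.Basic
import Mathlib.Algebra.BigOperators.Finprod
import Mathlib.RingTheory.Nilpotent.Basic

/-!
# Group algebras over a field of characteristic `p`: conjugation, support, Brauer map

Everything lives in the one algebra `k[G]`; an element "of `k[H]`" is an element with
support in the subgroup `H`.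
-/

namespace CfsgLib.BrauerPairs

open MonoidAlgebra

variable {k : Type*} [Field k] {G : Type*} [Group G]

/-- Conjugation by a group element on the group algebra. -/
noncomputable def conjA (g : G) (a : MonoidAlgebra k G) : MonoidAlgebra k G :=
  single g (1 : k) * a * single g⁻¹ (1 : k)

theorem single_mul_single_inv (g : G) :
    single g (1 : k) * single g⁻¹ (1 : k) = (1 : MonoidAlgebra k G) := by
  rw [single_mul_single, mul_inv_cancel, mul_one, one_def]

theorem single_inv_mul_single (g : G) :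
    single g⁻¹ (1 : k) * single g (1 : k) = (1 : MonoidAlgebra k G) := by
  rw [single_mul_single, inv_mul_cancel, mul_one, one_def]

theorem coeff_conjA (g : G) (a : MonoidAlgebra k G) (x : G) :
    (conjA g a).coeff x = a.coeff (g⁻¹ * x * g) := by
  rw [conjA]
  rw [coeff_mul_single_eq_coeff_mul (x := single g (1 : k) * a) (x * g)
    (fun m _ => ⟨fun h => by rw [← h]; simp [mul_assoc], fun h => by rw [h]; simp [mul_assoc]⟩)]
  rw [mul_one]
  rw [coeff_single_mul_eq_mul_coeff (x := a) (g⁻¹ * x * g)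
    (fun m _ => ⟨fun h => by rw [mul_assoc, ← h]; simp, fun h => by rw [h]; simp [mul_assoc]⟩)]
  rw [one_mul]

@[simp] theorem conjA_one_left (a : MonoidAlgebra k G) : conjA (1 : G) a = a := by
  rw [conjA, inv_one, ← one_def, one_mul, mul_one]

theorem conjA_mul_left (g h : G) (a : MonoidAlgebra k G) :
    conjA (g * h) a = conjA g (conjA h a) := by
  have h1 : single (g * h) (1 : k) = single g 1 * single h 1 := by simp [single_mul_single]
  have h2 : single (g * h)⁻¹ (1 : k) = single h⁻¹ 1 * single g⁻¹ 1 := by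
    simp [single_mul_single, mul_inv_rev]
  simp only [conjA, h1, h2, mul_assoc]

theorem conjA_mul (g : G) (a b : MonoidAlgebra k G) : conjA g (a * b) = conjA g a * conjA g b := by
  simp only [conjA]
  calc single g (1 : k) * (a * b) * single g⁻¹ 1
      = single g (1 : k) * a * (single g⁻¹ 1 * single g 1) * b * single g⁻¹ 1 := by
        rw [single_inv_mul_single, mul_one]; simp only [mul_assoc]
    _ = _ := by simp only [mul_assoc]

theorem conjA_add (g : G) (a b : MonoidAlgebra k G) : conjA g (a + b) = conjA g a + conjA g b := by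
  simp [conjA, mul_add, add_mul]

theorem conjA_zero (g : G) : conjA g (0 : MonoidAlgebra k G) = 0 := by simp [conjA]

theorem conjA_one (g : G) : conjA g (1 : MonoidAlgebra k G) = 1 := by
  simp [conjA, single_mul_single, one_def]

theorem conjA_smul (g : G) (c : k) (a : MonoidAlgebra k G) : conjA g (c • a) = c • conjA g a := by
  simp [conjA]

theorem conjA_inj {g : G} {a b : MonoidAlgebra k G} (h : conjA g a = conjA g b) : a = b := by
  have := congrArg (conjA g⁻¹) h
  simpa [← conjA_mul_left] using this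

/-- Conjugation as an algebra homomorphism. -/
noncomputable def conjHom (g : G) : MonoidAlgebra k G →ₐ[k] MonoidAlgebra k G where
  toFun := conjA g
  map_one' := conjA_one g
  map_mul' := conjA_mul g
  map_zero' := conjA_zero g
  map_add' := conjA_add g
  commutes' r := by
    simp only [Algebra.algebraMap_eq_smul_one, conjA_smul, conjA_one]

theorem conjA_sum {ι : Type*} (g : G) (s : Finset ι) (f : ι → MonoidAlgebra k G) :
    conjA g (∑ i ∈ s, f i) = ∑ i ∈ s, conjA g (f i) :=
  map_sum (conjHom (k := k) g) f s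

theorem conjA_pow (g : G) (a : MonoidAlgebra k G) (n : ℕ) : conjA g (a ^ n) = conjA g a ^ n :=
  map_pow (conjHom (k := k) g) a n

variable (k)

/-- The elements fixed under conjugation by all elements of `H`. -/
noncomputable def fixAlg (H : Subgroup G) : Subalgebra k (MonoidAlgebra k G) where
  carrier := {a | ∀ g ∈ H, conjA g a = a}
  mul_mem' {a b} ha hb g hg := by rw [conjA_mul, ha g hg, hb g hg]
  add_mem' {a b} ha hb g hg := by rw [conjA_add, ha g hg, hb g hg]
  algebraMap_mem' r g _ := AlgHom.commutes (conjHom g) r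

/-- The elements supported on the subgroup `H`, that is `k[H]` inside `k[G]`. -/
noncomputable def suppAlg (H : Subgroup G) : Subalgebra k (MonoidAlgebra k G) where
  carrier := {a | ∀ x, a.coeff x ≠ 0 → x ∈ H}
  mul_mem' {a b} ha hb x hx := by
    classical
    by_contra hxH
    refine hx ?_
    rw [coeff_mul]
    refine Finset.sum_eq_zero fun u hu => Finset.sum_eq_zero fun v hv => if_neg fun huv => hxH ?_
    rw [← huv]
    exact H.mul_mem (ha u (Finsupp.mem_support_iff.1 hu)) (hb v (Finsupp.mem_support_iff.1 hv))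
  add_mem' {a b} ha hb x hx := by
    rw [coeff_add, Finsupp.add_apply] at hx
    by_contra hxH
    exact hx (by
      rw [show a.coeff x = 0 from not_not.1 fun h => hxH (ha x h),
        show b.coeff x = 0 from not_not.1 fun h => hxH (hb x h), add_zero])
  algebraMap_mem' r x hx := by
    classical
    rw [Algebra.algebraMap_eq_smul_one, coeff_smul_apply, one_def, coeff_single] at hx
    by_contra hxH
    apply hx
    rw [Finsupp.single_eq_of_ne (by rintro rfl; exact hxH H.one_mem), smul_zero]

variable {k}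

theorem mem_fixAlg {H : Subgroup G} {a : MonoidAlgebra k G} :
    a ∈ fixAlg k H ↔ ∀ g ∈ H, conjA g a = a := Iff.rfl

theorem mem_fixAlg_iff_coeff {H : Subgroup G} {a : MonoidAlgebra k G} :
    a ∈ fixAlg k H ↔ ∀ g ∈ H, ∀ x, a.coeff (g * x * g⁻¹) = a.coeff x := by
  constructor
  · intro h g hg x
    conv_lhs => rw [← h g hg, coeff_conjA]
    simp [mul_assoc]
  · intro h g hg
    ext x
    rw [coeff_conjA, ← h g hg]
    simp [mul_assoc]

theorem mem_suppAlg {H : Subgroup G} {a : MonoidAlgebra k G} :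
    a ∈ suppAlg k H ↔ ∀ x, a.coeff x ≠ 0 → x ∈ H := Iff.rfl

theorem coeff_eq_zero_of_mem_suppAlg {H : Subgroup G} {a : MonoidAlgebra k G}
    (ha : a ∈ suppAlg k H) {x : G} (hx : x ∉ H) : a.coeff x = 0 :=
  not_not.1 fun h => hx (ha x h)

theorem fixAlg_anti {H K : Subgroup G} (h : H ≤ K) : fixAlg k K ≤ fixAlg k H :=
  fun _ ha g hg => ha g (h hg)

theorem suppAlg_mono {H K : Subgroup G} (h : H ≤ K) : suppAlg k H ≤ suppAlg k K :=
  fun _ ha x hx => h (ha x hx)

theorem mem_suppAlg_top (a : MonoidAlgebra k G) : a ∈ suppAlg k (⊤ : Subgroup G) :=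
  fun _ _ => Subgroup.mem_top _

theorem mem_fixAlg_bot (a : MonoidAlgebra k G) : a ∈ fixAlg k (⊥ : Subgroup G) := by
  intro g hg
  rw [Subgroup.mem_bot.1 hg, conjA_one_left]

theorem single_mem_suppAlg {H : Subgroup G} {x : G} (hx : x ∈ H) (c : k) :
    single x c ∈ suppAlg k H := by
  intro y hy
  rw [coeff_single] at hy
  by_contra hyH
  exact hy (Finsupp.single_eq_of_ne (by rintro rfl; exact hyH hx))

theorem conjA_mem_suppAlg {H : Subgroup G} {a : MonoidAlgebra k G} (ha : a ∈ suppAlg k H) (g : G) :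
    conjA g a ∈ suppAlg k (H.map (MulAut.conj g).toMonoidHom) := by
  intro x hx
  rw [coeff_conjA] at hx
  exact ⟨_, ha _ hx, by simp [mul_assoc]⟩

theorem conjA_mem_fixAlg {H : Subgroup G} {a : MonoidAlgebra k G} (ha : a ∈ fixAlg k H) (g : G) :
    conjA g a ∈ fixAlg k (H.map (MulAut.conj g).toMonoidHom) := by
  rintro _ ⟨h, hh, rfl⟩
  simp only [MulEquiv.coe_toMonoidHom, MulAut.conj_apply]
  rw [← conjA_mul_left, inv_mul_cancel_right, conjA_mul_left, ha h hh]

/-- Elements supported on `H` commute with elements fixed by `H`. -/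
theorem commute_of_supp_fix {H : Subgroup G} {a b : MonoidAlgebra k G} (ha : a ∈ suppAlg k H)
    (hb : b ∈ fixAlg k H) : Commute a b := by
  classical
  have hs : ∀ x ∈ H, Commute (single x (1 : k)) b := by
    intro x hx
    have h := hb x hx
    show _ * _ = _ * _
    conv_rhs => rw [← h, conjA, mul_assoc, single_inv_mul_single, mul_one]
  rw [← sum_coeff_single a, Finsupp.sum]
  refine Commute.sum_left _ _ _ fun x hx => ?_
  have hsingle : single x (a.coeff x) = a.coeff x • single x (1 : k) := by simp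
  rw [hsingle]
  exact (hs x (ha x (Finsupp.mem_support_iff.1 hx))).smul_left _

/-- The centraliser of a subgroup, as a subgroup. -/
abbrev cz (Q : Subgroup G) : Subgroup G := Subgroup.centralizer (Q : Set G)

theorem mem_cz {Q : Subgroup G} {x : G} : x ∈ cz Q ↔ ∀ q ∈ Q, q * x = x * q :=
  Subgroup.mem_centralizer_iff

theorem cz_anti {Q R : Subgroup G} (h : Q ≤ R) : cz R ≤ cz Q :=
  Subgroup.centralizer_le h

theorem cz_bot : cz (⊥ : Subgroup G) = ⊤ := by
  ext x; simp [Subgroup.mem_centralizer_iff]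

theorem mem_cz_iff_conj {Q : Subgroup G} {x : G} : x ∈ cz Q ↔ ∀ q ∈ Q, q * x * q⁻¹ = x := by
  simp [mem_cz, mul_inv_eq_iff_eq_mul]

theorem le_cz_comm {Q R : Subgroup G} : Q ≤ cz R ↔ R ≤ cz Q := Subgroup.le_centralizer_iff

theorem cz_map_conj (Q : Subgroup G) (g : G) :
    cz (Q.map (MulAut.conj g).toMonoidHom) = (cz Q).map (MulAut.conj g).toMonoidHom := by
  ext x
  simp only [mem_cz_iff_conj, Subgroup.mem_map, MulEquiv.coe_toMonoidHom, MulAut.conj_apply]
  constructor
  · intro h
    refine ⟨g⁻¹ * x * g, fun q hq => ?_, by simp [mul_assoc]⟩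
    have h1 := h _ ⟨q, hq, rfl⟩
    calc q * (g⁻¹ * x * g) * q⁻¹ = g⁻¹ * (g * q * g⁻¹ * x * (g * q * g⁻¹)⁻¹) * g := by
          simp [mul_assoc]
      _ = _ := by rw [h1]
  · rintro ⟨y, hy, rfl⟩ _ ⟨q, hq, rfl⟩
    calc g * q * g⁻¹ * (g * y * g⁻¹) * (g * q * g⁻¹)⁻¹ = g * (q * y * q⁻¹) * g⁻¹ := by
          simp [mul_assoc]
      _ = _ := by rw [hy q hq]

variable (k) in
/-- The Brauer map at `Q`: keep only the coefficients at elements centralising `Q`. -/
noncomputable def brMap (Q : Subgroup G) : MonoidAlgebra k G →ₗ[k] MonoidAlgebra k G where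
  toFun a := by classical exact ofCoeff (a.coeff.filter (fun x => x ∈ cz Q))
  map_add' a b := by classical simp [Finsupp.filter_add]
  map_smul' c a := by classical simp [Finsupp.filter_smul]

theorem coeff_brMap_of_mem {Q : Subgroup G} (a : MonoidAlgebra k G) {x : G} (hx : x ∈ cz Q) :
    (brMap k Q a).coeff x = a.coeff x := by
  classical
  simp [brMap, hx]

theorem coeff_brMap_of_notMem {Q : Subgroup G} (a : MonoidAlgebra k G) {x : G} (hx : x ∉ cz Q) :
    (brMap k Q a).coeff x = 0 := by
  classical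
  simp [brMap, hx]

theorem brMap_mem_suppAlg (Q : Subgroup G) (a : MonoidAlgebra k G) :
    brMap k Q a ∈ suppAlg k (cz Q) := fun x hx => by
  by_contra h
  exact hx (coeff_brMap_of_notMem a h)

theorem brMap_mem_suppAlg_of_mem (Q : Subgroup G) {H : Subgroup G} {a : MonoidAlgebra k G}
    (ha : a ∈ suppAlg k H) : brMap k Q a ∈ suppAlg k H := fun x hx => by
  by_cases h : x ∈ cz Q
  · exact ha x (coeff_brMap_of_mem a h ▸ hx)
  · exact absurd (coeff_brMap_of_notMem a h) hx

theorem brMap_eq_self {Q : Subgroup G} {a : MonoidAlgebra k G} (ha : a ∈ suppAlg k (cz Q)) :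
    brMap k Q a = a := by
  ext x
  by_cases h : x ∈ cz Q
  · exact coeff_brMap_of_mem a h
  · rw [coeff_brMap_of_notMem a h, coeff_eq_zero_of_mem_suppAlg ha h]

theorem brMap_bot (a : MonoidAlgebra k G) : brMap k (⊥ : Subgroup G) a = a :=
  brMap_eq_self (by rw [cz_bot]; exact mem_suppAlg_top a)

theorem brMap_brMap_of_le {Q R : Subgroup G} (h : Q ≤ R) (a : MonoidAlgebra k G) :
    brMap k R (brMap k Q a) = brMap k R a := by
  ext x
  by_cases hx : x ∈ cz R
  · rw [coeff_brMap_of_mem _ hx, coeff_brMap_of_mem _ hx, coeff_brMap_of_mem _ (cz_anti h hx)]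
  · rw [coeff_brMap_of_notMem _ hx, coeff_brMap_of_notMem _ hx]

theorem brMap_one (Q : Subgroup G) : brMap k Q 1 = 1 := brMap_eq_self (suppAlg k _).one_mem

theorem conjA_brMap (g : G) (Q : Subgroup G) (a : MonoidAlgebra k G) :
    conjA g (brMap k Q a) = brMap k (Q.map (MulAut.conj g).toMonoidHom) (conjA g a) := by
  ext x
  have hiff : x ∈ cz (Q.map (MulAut.conj g).toMonoidHom) ↔ g⁻¹ * x * g ∈ cz Q := by
    rw [cz_map_conj, Subgroup.mem_map]
    constructor
    · rintro ⟨y, hy, rfl⟩; simpa [mul_assoc] using hy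
    · intro h; exact ⟨_, h, by simp [mul_assoc]⟩
  rw [coeff_conjA]
  by_cases hx : g⁻¹ * x * g ∈ cz Q
  · rw [coeff_brMap_of_mem _ hx, coeff_brMap_of_mem _ (hiff.2 hx), coeff_conjA]
  · rw [coeff_brMap_of_notMem _ hx, coeff_brMap_of_notMem _ (fun h => hx (hiff.1 h))]

theorem map_conj_eq_self {Q : Subgroup G} {g : G} (hg : g ∈ Subgroup.normalizer (Q : Set G)) :
    Q.map (MulAut.conj g).toMonoidHom = Q := by
  ext x
  simp only [Subgroup.mem_map, MulEquiv.coe_toMonoidHom, MulAut.conj_apply]
  constructor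
  · rintro ⟨y, hy, rfl⟩; exact (hg y).1 hy
  · intro hx
    refine ⟨g⁻¹ * x * g, ?_, by simp [mul_assoc]⟩
    refine (hg _).2 ?_
    simpa [mul_assoc] using hx

theorem brMap_mem_fixAlg {Q H : Subgroup G} (hH : H ≤ Subgroup.normalizer (Q : Set G))
    {a : MonoidAlgebra k G} (ha : a ∈ fixAlg k H) : brMap k Q a ∈ fixAlg k H := by
  intro g hg
  rw [conjA_brMap, map_conj_eq_self (hH hg), ha g hg]

theorem brMap_mem_fixAlg_cz {Q : Subgroup G} {a : MonoidAlgebra k G} (ha : a ∈ fixAlg k (cz Q)) :
    brMap k Q a ∈ fixAlg k (cz Q) :=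
  brMap_mem_fixAlg (by
    intro g hg q
    have h := mem_cz.1 hg
    constructor
    · intro hq; simpa [← h q hq] using hq
    · intro hq
      have := h _ hq
      have h2 : g * q * g⁻¹ * g = g * (g * q * g⁻¹) := this
      have h3 : g * q = g * (g * q * g⁻¹) := by simpa [mul_assoc] using h2
      rw [mul_left_cancel h3]; exact hq) ha

section Finite

variable {p : ℕ} [CharP k p] [hp : Fact p.Prime]

omit [CharP k p] hp in
/-- Split a sum over the fibres of an invariant function. -/
theorem sum_eq_sum_fibre {α : Type*} [Fintype α] [DecidableEq k] (f : α → k) (t : Finset α) :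
    ∑ x ∈ t, f x = ∑ v ∈ Finset.univ.image f, ((t.filter (f · = v)).card : k) * v := by
  rw [← Finset.sum_fiberwise_of_maps_to (t := Finset.univ.image f)
    (fun x _ => Finset.mem_image_of_mem f (Finset.mem_univ x))]
  refine Finset.sum_congr rfl fun v _ => ?_
  rw [Finset.sum_congr rfl (fun x hx => (Finset.mem_filter.1 hx).2), Finset.sum_const, nsmul_eq_mul]

/-- A sum of an invariant function over a finite set acted on by a `p`-group is, in
characteristic `p`, the sum over the fixed points. -/
theorem sum_eq_sum_fixedPoints {P : Type*} [Group P] (hP : IsPGroup p P) [Finite P] {α : Type*}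
    [MulAction P α] [Fintype α] (f : α → k) (hf : ∀ (u : P) (x : α), f (u • x) = f x)
    [DecidablePred fun x : α => x ∈ MulAction.fixedPoints P α] :
    ∑ x, f x = ∑ x ∈ Finset.univ.filter (fun x => x ∈ MulAction.fixedPoints P α), f x := by
  classical
  rw [sum_eq_sum_fibre f, sum_eq_sum_fibre f (Finset.univ.filter _)]
  refine Finset.sum_congr rfl fun v _ => ?_
  congr 1
  let S : SubMulAction P α := ⟨{x | f x = v}, fun u x (hx : f x = v) => (hf u x).trans hx⟩
  have : Finite S := Subtype.finite
  have h := hP.card_modEq_card_fixedPoints S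
  have e1 : Nat.card S = ((Finset.univ : Finset α).filter (f · = v)).card := by
    rw [← Nat.card_eq_finsetCard]
    refine Nat.card_congr (Equiv.subtypeEquivRight fun x => ?_)
    simp [S]; rfl
  have e2 : Nat.card (MulAction.fixedPoints P S) = ((Finset.univ.filter
      (fun x => x ∈ MulAction.fixedPoints P α)).filter (f · = v)).card := by
    rw [← Nat.card_eq_finsetCard]
    refine Nat.card_congr
      { toFun := fun x => ⟨(x.1 : α), Finset.mem_filter.2 ⟨Finset.mem_filter.2
          ⟨Finset.mem_univ _, fun u => congrArg Subtype.val (x.2 u)⟩, x.1.2⟩⟩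
        invFun := fun x => ⟨⟨x.1, (Finset.mem_filter.1 x.2).2⟩, fun u => Subtype.ext
          ((Finset.mem_filter.1 (Finset.mem_filter.1 x.2).1).2 u)⟩
        left_inv := fun x => rfl
        right_inv := fun x => rfl }
  rw [← e1, ← e2]
  exact (CharP.natCast_eq_natCast k p).2 h

variable [Fintype G]

omit [CharP k p] hp in
theorem coeff_mul_fintype (a b : MonoidAlgebra k G) (c : G) :
    (a * b).coeff c = ∑ x, a.coeff x * b.coeff (x⁻¹ * c) := by
  classical
  rw [coeff_mul_antidiag a b c (Finset.univ.image fun x => (x, x⁻¹ * c)) ?_]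
  · rw [Finset.sum_image (fun x _ y _ h => congrArg Prod.fst h)]
  · rintro ⟨u, v⟩
    constructor
    · intro h
      obtain ⟨x, -, hx⟩ := Finset.mem_image.1 h
      simp only [Prod.mk.injEq] at hx
      obtain ⟨rfl, rfl⟩ := hx
      exact mul_inv_cancel_left x c
    · intro h
      exact Finset.mem_image.2 ⟨u, Finset.mem_univ _, by simp [← show u * v = c from h]⟩

/-- The Brauer map is multiplicative on elements fixed by the `p`-group. -/
theorem brMap_mul {Q : Subgroup G} (hQ : IsPGroup p Q) {a b : MonoidAlgebra k G}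
    (ha : a ∈ fixAlg k Q) (hb : b ∈ fixAlg k Q) :
    brMap k Q (a * b) = brMap k Q a * brMap k Q b := by
  classical
  ext c
  by_cases hc : c ∈ cz Q
  · rw [coeff_brMap_of_mem _ hc, coeff_mul_fintype, coeff_mul_fintype]
    let _ : MulAction Q G := MulAction.compHom G
      ((MulAut.conj : G →* MulAut G).comp Q.subtype)
    have hsmul : ∀ (u : Q) (x : G), u • x = (u : G) * x * (u : G)⁻¹ := fun u x => rfl
    have hf : ∀ (u : Q) (x : G), a.coeff (u • x) * b.coeff ((u • x)⁻¹ * c) =
        a.coeff x * b.coeff (x⁻¹ * c) := by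
      intro u x
      have huc : (u : G) * c * (u : G)⁻¹ = c := mem_cz_iff_conj.1 hc u u.2
      rw [hsmul, mem_fixAlg_iff_coeff.1 ha u u.2]
      congr 1
      have h1 : ((u : G) * x * (u : G)⁻¹)⁻¹ * c = (u : G) * (x⁻¹ * c) * (u : G)⁻¹ := by
        conv_lhs => rw [← huc]
        simp [mul_assoc]
      rw [h1, mem_fixAlg_iff_coeff.1 hb u u.2]
    rw [sum_eq_sum_fixedPoints (p := p) hQ _ hf, Finset.sum_filter]
    refine Finset.sum_congr rfl fun x _ => ?_
    by_cases hx : x ∈ cz Q
    · have hfix : x ∈ MulAction.fixedPoints Q G := fun u => by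
        rw [hsmul]; exact mem_cz_iff_conj.1 hx u u.2
      rw [if_pos hfix,
        coeff_brMap_of_mem _ hx, coeff_brMap_of_mem _ ((cz Q).mul_mem ((cz Q).inv_mem hx) hc)]
    · have hfix : x ∉ MulAction.fixedPoints Q G := fun h =>
        hx (mem_cz_iff_conj.2 fun q hq => by simpa [hsmul] using h ⟨q, hq⟩)
      rw [if_neg hfix, coeff_brMap_of_notMem _ hx, zero_mul]
  · rw [coeff_brMap_of_notMem _ hc]
    exact (coeff_eq_zero_of_mem_suppAlg
      ((suppAlg k _).mul_mem (brMap_mem_suppAlg Q a) (brMap_mem_suppAlg Q b)) hc).symm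

theorem brMap_pow {Q : Subgroup G} (hQ : IsPGroup p Q) {a : MonoidAlgebra k G}
    (ha : a ∈ fixAlg k Q) (n : ℕ) : brMap k Q (a ^ n) = brMap k Q a ^ n := by
  induction n with
  | zero => simpa using brMap_one Q
  | succ n ih => rw [pow_succ, pow_succ, brMap_mul hQ ((fixAlg k Q).pow_mem ha n) ha, ih]

end Finite

end CfsgLib.BrauerPairs
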