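import Cfsg.Agent.Lib.BrauerPairs.Local
import Cfsg.Agent.Lib.Blocks.DefectZeroVanish
import Cfsg.Agent.Lib.Blocks12.Basic
import Cfsg.Agent.Lib.Chars17.IrrBasic
import Cfsg.Agent.Lib.Characters.PermChar

/-!
# A defect zero character of a quotient by a central `p`-subgroup
-/

set_option autoImplicit false
set_option linter.style.haveILetI false
set_option linter.unusedSectionVars false

namespace CfsgLib.BrauerPairs

open Cfsg MonoidAlgebra
open CfsgLib.Characters
open scoped ComplexConjugate

variable {p : ℕ} {M : Ideal AlgInt} [M.IsMaximal] {G : Type*} [Group G] [Fintype G] [Fact p.Prime]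
  (Z : Subgroup G) [Z.Normal]

omit [M.IsMaximal] in
theorem exists_central_split (hZp : IsPGroup p Z) {x : G} (hx : ¬ p ∣ orderOf (x : G ⧸ Z)) :
    ∃ z ∈ Z, ∃ y : G, x = z * y ∧ ¬ p ∣ orderOf y := by
  have hp : p.Prime := Fact.out
  obtain ⟨u, v, huv, -, hu, -, ⟨a, hua⟩, hv⟩ := PermChar.exists_p_decomp hp x
  refine ⟨u, ?_, v, huv, fun h => hp.ne_one (Nat.eq_one_of_dvd_coprimes hv h dvd_rfl)⟩
  rw [← QuotientGroup.eq_one_iff, ← orderOf_eq_one_iff]
  refine Nat.eq_one_of_dvd_coprimes
    (((hp.coprime_iff_not_dvd.2 hx).pow_left a).symm) ?_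
    ((orderOf_map_dvd (QuotientGroup.mk' Z) u).trans hua)
  obtain ⟨i, rfl⟩ := hu
  exact orderOf_dvd_of_pow_eq_one (by
    rw [QuotientGroup.mk_zpow, ← zpow_natCast, ← zpow_mul, mul_comm, zpow_mul, zpow_natCast,
      pow_orderOf_eq_one, one_zpow])

omit [M.IsMaximal] in
theorem central_split_unique (hZp : IsPGroup p Z) (hZc : Z ≤ Subgroup.center G) {z : G}
    (hz : z ∈ Z) {y : G} (hy : ¬ p ∣ orderOf y) (hzy : ¬ p ∣ orderOf (z * y)) : z = 1 := by
  obtain ⟨j, hj⟩ := IsPGroup.iff_orderOf.1 hZp ⟨z, hz⟩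
  rw [Subgroup.orderOf_mk] at hj
  have hc : Commute z y := (Subgroup.mem_center_iff.1 (hZc hz) y).symm
  rw [hc.orderOf_mul_eq_mul_orderOf_of_coprime
    (hj ▸ Nat.Coprime.pow_left _ ((Fact.out : p.Prime).coprime_iff_not_dvd.2 hy)), hj] at hzy
  rcases j with _ | j
  · exact orderOf_eq_one_iff.1 (by rw [hj, pow_zero])
  · exact absurd (dvd_mul_of_dvd_left (dvd_pow_self p j.succ_ne_zero) _) hzy

theorem isDefectGroup_central_defect_zero (hM : IsPModular p M) (hZp : IsPGroup p Z)
    (hZc : Z ≤ Subgroup.center G) (η : IrrCharacter (G ⧸ Z))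
    (hη : p ^ (Nat.card (G ⧸ Z)).factorization p ∣ charDegree (η : G ⧸ Z → ℂ))
    {B : Set (IrrCharacter G)} (hB : IsPBlock M B) (hmem : Chars17.infl Z η ∈ B) :
    IsDefectGroup p M B Z := by
  classical
  have := charP_res hM
  let _ : Fintype (G ⧸ Z) := Fintype.ofFinite _
  let _ : Fintype Z := Fintype.ofFinite _
  have hp : p.Prime := Fact.out
  set θ := Chars17.infl Z η with hθ
  have hθx : ∀ x : G, (θ : G → ℂ) x = (η : G ⧸ Z → ℂ) x := Chars17.infl_apply Z η
  have hθ1 : (θ : G → ℂ) 1 = (charDegree (η : G ⧸ Z → ℂ) : ℂ) := by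
    rw [hθx, Chars17.cast_irrDegree]; rfl
  -- the local scalar `|Z| θ(1) / |G|`
  set q : ℂ := (Nat.card Z : ℂ) * (θ : G → ℂ) 1 / (Nat.card G : ℂ) with hq
  have hZcard : (Nat.card Z : ℂ) ≠ 0 := Nat.cast_ne_zero.2 Nat.card_pos.ne'
  have hqR : q ∈ Blocks.lRing hM := by
    obtain ⟨d, hd⟩ := hη
    set m := (Nat.card (G ⧸ Z)) / p ^ (Nat.card (G ⧸ Z)).factorization p with hm
    have hcard : Nat.card (G ⧸ Z) = p ^ (Nat.card (G ⧸ Z)).factorization p * m :=
      (Nat.ordProj_mul_ordCompl_eq_self _ p).symm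
    have hm0 : ¬ p ∣ m := Nat.not_dvd_ordCompl hp Nat.card_pos.ne'
    clear_value m
    generalize (Nat.card (G ⧸ Z)).factorization p = a at hcard hd
    have hq' : q = (d : ℂ) * (m : ℂ)⁻¹ := by
      rw [hq, hθ1, Subgroup.card_eq_card_quotient_mul_card_subgroup Z, hd, hcard]
      push_cast
      have hp0 : (p : ℂ) ≠ 0 := Nat.cast_ne_zero.2 hp.ne_zero
      field_simp
    rw [hq']
    exact Subring.mul_mem _ (natCast_mem _ d)
      (Blocks.inv_natCast_mem_lRing hM hm0)
  let c : G → ℂ := fun x => if p ∣ orderOf x then 0 else q * conj ((θ : G → ℂ) x)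
  have hc : ∀ x, c x ∈ Blocks.lRing hM := fun x => by
    simp only [c]
    split_ifs
    · exact Subring.zero_mem _
    · refine Subring.mul_mem _ hqR ?_
      rw [← irr_apply_inv]
      exact Blocks.memLocalRing_of_isIntegral hM (ClassCount.irr_isIntegral θ _)
  have hcl : ∀ g x, c (g * x * g⁻¹) = c x := by
    intro g x
    simp only [c, show orderOf (g * x * g⁻¹) = orderOf x from
      orderOf_injective (MulAut.conj g).toMonoidHom (MulAut.conj g).injective x,
      irr_isClassFunction θ x g]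
  -- the value of the central character
  have homega : (∑ᶠ x : G, c x * (θ : G → ℂ) x / (θ : G → ℂ) 1) = 1 := by
    have hsq : ∑ x : G, (θ : G → ℂ) x * conj ((θ : G → ℂ) x) = (Nat.card G : ℂ) := by
      have h := classInner_irr θ θ
      rw [if_pos rfl, classInner, inv_mul_eq_one₀ (Nat.cast_ne_zero.2 Nat.card_pos.ne')] at h
      exact h.symm
    set S := Finset.univ.filter (fun y : G => ¬ p ∣ orderOf y) with hS
    set T := Finset.univ.filter (fun x : G => ¬ p ∣ orderOf (x : G ⧸ Z)) with hT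
    have hbij : ∑ x ∈ T, (θ : G → ℂ) x * conj ((θ : G → ℂ) x) =
        ∑ zy ∈ (Finset.univ : Finset Z) ×ˢ S, (θ : G → ℂ) zy.2 * conj ((θ : G → ℂ) zy.2) := by
      refine (Finset.sum_bij (fun zy _ => (zy.1 : G) * zy.2) ?_ ?_ ?_ ?_).symm
      · rintro ⟨z, y⟩ hy
        simp only [hS, Finset.mem_product, Finset.mem_univ, Finset.mem_filter, true_and] at hy
        simp only [hT, Finset.mem_filter, Finset.mem_univ, true_and]
        rw [QuotientGroup.mk_mul, (QuotientGroup.eq_one_iff (z : G)).2 z.2, one_mul]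
        exact fun h => hy (h.trans (orderOf_map_dvd (QuotientGroup.mk' Z) y))
      · rintro ⟨z, y⟩ hy ⟨z', y'⟩ hy' h
        simp only [hS, Finset.mem_product, Finset.mem_univ, Finset.mem_filter, true_and] at hy hy'
        have h1 : y = ((z : G)⁻¹ * z') * y' := by
          rw [mul_assoc]; exact eq_inv_mul_of_mul_eq h
        have h2 := central_split_unique Z hZp hZc (Z.mul_mem (Z.inv_mem z.2) z'.2) hy' (h1 ▸ hy)
        rw [h2, one_mul] at h1
        exact Prod.ext (Subtype.ext (inv_mul_eq_one.1 h2)) h1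
      · intro x hx
        obtain ⟨z, hz, y, rfl, hy⟩ := exists_central_split Z hZp (Finset.mem_filter.1 hx).2
        exact ⟨(⟨z, hz⟩, y), Finset.mem_product.2 ⟨Finset.mem_univ _,
          Finset.mem_filter.2 ⟨Finset.mem_univ _, hy⟩⟩, rfl⟩
      · rintro ⟨z, y⟩ _
        simp only [hθx, QuotientGroup.mk_mul, (QuotientGroup.eq_one_iff (z : G)).2 z.2, one_mul]
    rw [Finset.sum_product] at hbij
    dsimp only at hbij
    rw [Finset.sum_const, Finset.card_univ, ← Nat.card_eq_fintype_card,
      nsmul_eq_mul, Finset.sum_subset (Finset.subset_univ T) (fun x _ hx => by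
        simp only [hT, Finset.mem_filter, Finset.mem_univ, true_and, not_not] at hx
        rw [hθx, DefectZeroVanish.vanish_of_defect_zero η hη hx, zero_mul]), hsq] at hbij
    rw [finsum_eq_sum_of_fintype, ← Finset.sum_div, div_eq_one_iff_eq (irr_one_ne_zero θ),
      ← Finset.sum_subset (Finset.subset_univ S) (fun x _ hx => by
        simp only [hS, Finset.mem_filter, Finset.mem_univ, true_and, not_not] at hx
        simp [c, hx]),
      Finset.sum_congr rfl (fun x hx => by
        rw [show c x = q * conj ((θ : G → ℂ) x) from if_neg (Finset.mem_filter.1 hx).2, mul_assoc,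
          mul_comm (conj _)] : ∀ x ∈ S, c x * (θ : G → ℂ) x =
            q * ((θ : G → ℂ) x * conj ((θ : G → ℂ) x))), ← Finset.mul_sum]
    have hG : (Nat.card G : ℂ) ≠ 0 := Nat.cast_ne_zero.2 Nat.card_pos.ne'
    rw [hq, div_mul_eq_mul_div, div_eq_iff hG, hbij]
    ring
  -- `c` is a trace from `Z`
  set r : G → ℕ := fun s => Z.relIndex (Subgroup.centralizer ({s} : Set G)) with hr
  let d : G → Blocks.lRing hM := fun s =>
    ⟨if p ∣ orderOf s then 0 else q ^ 2 * conj (centralChar (θ : G → ℂ) s), by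
      split_ifs
      · exact Subring.zero_mem _
      · refine Subring.mul_mem _ (Subring.pow_mem _ hqR 2) ?_
        rw [← Contribution.centralChar_inv]
        exact Blocks.centralChar_mem_lRing hM θ _⟩
  have hle : ∀ s : G, Z ≤ Subgroup.centralizer ({s} : Set G) := fun s z hz =>
    Subgroup.mem_centralizer_singleton_iff.2 (Subgroup.mem_center_iff.1 (hZc hz) s).symm
  have hcd : ∀ s : G, c s = (r s : ℂ) * (d s : ℂ) := by
    intro s
    simp only [c, d]
    split_ifs with h
    · rw [mul_zero]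
    · have h1 : ((Subgroup.centralizer ({s} : Set G)).index : ℂ) * (r s : ℂ) * (Nat.card Z : ℂ) =
          Nat.card G := by
        rw [hr, ← Nat.cast_mul, ← Nat.cast_mul, mul_comm (Subgroup.centralizer ({s} : Set G)).index,
          Subgroup.relIndex_mul_index (hle s), mul_comm, Subgroup.card_mul_index]
      have hG : (Nat.card G : ℂ) ≠ 0 := Nat.cast_ne_zero.2 Nat.card_pos.ne'
      have h1' : (θ : G → ℂ) 1 ≠ 0 := irr_one_ne_zero θ
      rw [centralChar, map_div₀, map_mul, Complex.conj_natCast, Chars17.conj_irr_one]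
      simp only [hq]
      rw [← h1] at hG ⊢
      field_simp
  have hTr : InTr (⊥ : Subgroup G) Z ⊤ (redFun hM c) := by
    set a : MonoidAlgebra (ResK M) G :=
      ∑ K : ConjClasses G, resK hM (d K.out) • single K.out (1 : ResK M) with ha
    have hsingle : ∀ s : G, ∀ S : Subgroup G, S ≤ Subgroup.centralizer ({s} : Set G) →
        single s (1 : ResK M) ∈ fixAlg (ResK M) S := fun s S hS u hu => by
      have hus : u * s = s * u := Subgroup.mem_centralizer_singleton_iff.1 (hS hu)
      rw [conjA, single_mul_single, single_mul_single, one_mul, one_mul, hus,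
        mul_inv_cancel_right]
    refine ⟨a, by rw [cz_bot]; exact mem_suppAlg_top _, Subalgebra.sum_mem _ fun K _ =>
      Subalgebra.smul_mem _ (hsingle _ _ (hle _)) _, ?_⟩
    have hlin : relTr (ResK M) Z ⊤ a = ∑ K : ConjClasses G, resK hM (d K.out) •
        relTr (ResK M) Z ⊤ (single K.out (1 : ResK M)) := by
      simp only [ha, relTr_eq_sum, conjA_sum, conjA_smul, Finset.smul_sum]
      exact Finset.sum_comm
    rw [hlin]
    have hcls : ∀ s : G, relTr (ResK M) Z ⊤ (single s (1 : ResK M)) = (r s : ResK M) •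
        Blocks.ofFun (fun y => if IsConj s y then (1 : ResK M) else 0) := by
      intro s
      rw [← relTr_relTr (hle s) le_top (hsingle s _ (hle s)),
        relTr_of_fixed (hsingle s _ le_rfl), relTr_smul]
      congr 1
      have h := relTr_single_self (ResK M) (H := (⊤ : Subgroup G)) s
      rw [top_inf_eq] at h
      rw [h]
      congr 1
      funext y
      simp [isConj_iff]
    simp only [hcls, smul_smul]
    ext y
    rw [coeff_sum, Finsupp.finsetSum_apply, Finset.sum_eq_single (ConjClasses.mk y)]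
    · have hy : IsConj (ConjClasses.mk y).out y :=
        ConjClasses.mk_eq_mk_iff_isConj.1 (Quotient.out_eq _)
      rw [coeff_smul, Finsupp.smul_apply, Blocks.coeff_ofFun, if_pos hy, smul_eq_mul, mul_one,
        coeff_redFun hM (hc y), ← map_natCast (resK hM), ← map_mul]
      congr 1
      apply Subtype.ext
      push_cast
      rw [mul_comm, ← hcd]
      obtain ⟨g, hg⟩ := isConj_iff.1 hy
      exact (hcl g _).symm.trans (congrArg c hg)
    · intro K _ hK
      rw [coeff_smul, Finsupp.smul_apply, Blocks.coeff_ofFun, if_neg, smul_zero]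
      exact fun h => hK ((Quotient.out_eq K).symm.trans (ConjClasses.mk_eq_mk_iff_isConj.2 h))
    · simp
  have hb := isBlockIdem_eG hM hB
  have hS := brSetup_block (p := p) hM hB
  refine (isDefectGroup_iff hM hB Z).2 ⟨hZp, bot_le, le_top,
    hS.inTr_of_not_nilpotent le_top hTr fun hn => ?_, ?_⟩
  · have h1 := nilpotent_sub hM hB hmem hc hcl
    have hl : (⟨_, omega_sum_mem hM θ hc hcl⟩ : Blocks.lRing hM) = 1 := Subtype.ext homega
    rw [show resK hM ⟨_, omega_sum_mem hM θ hc hcl⟩ = 1 by rw [← map_one (resK hM), ← hl],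
      one_smul] at h1
    apply hb.ne_zero
    refine eq_zero_of_nilpotent_idem ?_ hb.idem
    have hcomm : Commute (redFun hM c * eG hM B) (eG hM B) :=
      commute_of_supp_fix (mem_suppAlg_top _) hb.fixed
    have h2 := ((Commute.refl (redFun hM c * eG hM B)).sub_right hcomm).isNilpotent_sub hn h1
    simpa using h2
  · have hcz : cz Z = ⊤ := eq_top_iff.2 fun g _ => mem_cz.2 fun z hz =>
      (Subgroup.mem_center_iff.1 (hZc hz) g).symm
    intro h
    apply hb.ne_zero
    rw [← h]
    ext y
    rw [coeff_brMap_of_mem _ (hcz ▸ Subgroup.mem_top y)]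

end CfsgLib.BrauerPairs
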