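import Cfsg.Agent.Lib.BrauerPairs.PPowerIndex

/-!
# Blocks of centric subpairs
-/

namespace CfsgLib.BrauerPairs

open Cfsg MonoidAlgebra

set_option linter.unusedSectionVars false

variable {p : ℕ} {M : Ideal AlgInt} [M.IsMaximal] {G : Type*} [Group G] [Fintype G]
  [Fact p.Prime] {Q : Subgroup G} {f : Set (IrrCharacter (cz Q))}

/-- If `Z(Q)` is a defect group of `f`, then `Q` is a defect group of the setting `(Q, f, Q C(Q))`. -/
theorem isDefect_sup_cz (hM : IsPModular p M) (hQ : IsPGroup p Q) (hf : IsPBlock M f)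
    (hdef : IsDefectGroup p M f ((Q ⊓ cz Q).subgroupOf (cz Q))) :
    BrSetup p Q (eA hM (cz Q) f) (Q ⊔ cz Q) ∧
      IsDefect p Q (eA hM (cz Q) f) (Q ⊔ cz Q) Q := by
  let _ : ∀ H : Subgroup G, Fintype H := fun H => Fintype.ofFinite H
  have := charP_res hM
  have hb := isBlockIdem_eA hM hf
  have hK : Q ⊔ cz Q ≤ pairStab Q (eA hM (cz Q) f) := sup_le
    (fun q hq => ⟨Subgroup.le_normalizer hq, fixed_of_supp_cz hb.supp q hq⟩)
    (fun c hc => ⟨cz_le_normalizer Q hc, hb.fixed c hc⟩)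
  have hS : BrSetup p Q (eA hM (cz Q) f) (Q ⊔ cz Q) :=
    ⟨hQ, hb, fun y hy => (hK hy).1, le_sup_right, le_sup_left, fun y hy => (hK hy).2⟩
  refine ⟨hS, ?_⟩
  obtain ⟨D, hD⟩ := hS.exists_isDefect
  suffices h : D ≤ Q by rwa [le_antisymm h hD.le] at hD
  set D₀ := (D ⊓ cz Q).subgroupOf (cz Q) with hD₀
  have hne : brMap (ResK M) D₀ (eG hM f) ≠ 0 := by
    intro h0
    refine brMap_ne_zero_of_le (inf_le_left : D ⊓ cz Q ≤ D) hD.br_ne ?_
    rw [← Subgroup.map_subgroupOf_eq_of_le (inf_le_right : D ⊓ cz Q ≤ cz Q), ← hD₀,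
      ← inclA_eG hM (cz Q) f, ← inclA_brMap, h0, map_zero]
  have hS₀ := brSetup_block (p := p) hM hf
  obtain ⟨D', hD', hle⟩ := hS₀.exists_defect_ge ((hD.pgroup.to_le inf_le_left).comap_subtype)
    le_top hne
  obtain ⟨t, -, ht⟩ := hS₀.isDefect_conj ((isDefectGroup_iff hM hf _).1 hdef) hD'
  have hle' : D ⊓ cz Q ≤ Q := by
    intro y hy
    have hy' : (⟨y, hy.2⟩ : cz Q) ∈ ((Q ⊓ cz Q).subgroupOf (cz Q)).map (MulAut.conj t).toMonoidHom :=
      ht ▸ hle (show (⟨y, hy.2⟩ : cz Q) ∈ D₀ from hy)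
    obtain ⟨z, hz, hzy⟩ := hy'
    have hcen : t * z * t⁻¹ = z := by
      apply Subtype.ext
      simp only [Subgroup.coe_mul, Subgroup.coe_inv]
      rw [← mem_cz.1 t.2 z hz.1, mul_inv_cancel_right]
    have hzy' : z = ⟨y, hy.2⟩ := hcen.symm.trans hzy
    exact (show (z : G) = y from congrArg Subtype.val hzy') ▸ hz.1
  intro d hd
  have hd' : d ∈ ((Q ⊔ cz Q : Subgroup G) : Set G) := hD.le_T hd
  rw [Subgroup.coe_mul_of_left_le_normalizer_right _ _
    (Subgroup.le_normalizer.trans (normalizer_le_normalizer_cz Q))] at hd'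
  obtain ⟨q, hq, c, hc, rfl⟩ := Set.mem_mul.1 hd'
  refine Q.mul_mem hq (hle' ⟨?_, hc⟩)
  simpa using D.mul_mem (D.inv_mem (hD.le hq)) hd

/-- The block of `Q C(Q)` cut out by a centric local block is nilpotent. -/
theorem nilpotent_sup_cz (hM : IsPModular p M) (hQ : IsPGroup p Q) (hf : IsPBlock M f)
    (hdef : IsDefectGroup p M f ((Q ⊓ cz Q).subgroupOf (cz Q))) :
    ∃ F' : Set (IrrCharacter ↥(Q ⊔ cz Q)), IsPBlock M F' ∧
      (∀ t : ↥(Q ⊔ cz Q), blockCoeff F' t = subgroupBlockCoeff (cz Q) f (t : G)) ∧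
      IsNilpotentBlock p M F' := by
  let _ : ∀ H : Subgroup G, Fintype H := fun H => Fintype.ofFinite H
  have := charP_res hM
  obtain ⟨hS, hD⟩ := isDefect_sup_cz hM hQ hf hdef
  obtain ⟨F', hF', hFc, hFe⟩ := exists_stabilizer_block hM hf hS
  refine ⟨F', hF', hFc, hF', fun R g hRg x hxR _ hxr => ?_⟩
  obtain ⟨-, -, hOR⟩ := (isBrauerPairOf_iff hM F' R g).1 hRg
  have hne : brMap (ResK M) (R.map (Q ⊔ cz Q).subtype) (eA hM (cz Q) f) ≠ 0 := by
    rw [← hFe, ← inclA_eG, ← inclA_brMap]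
    exact fun h0 => (brSetup_block (p := p) hM hF').brMap_ne_zero hOR
      (inclA_injective _ (h0.trans (map_zero _).symm))
  obtain ⟨t, ht, hle⟩ := hS.exists_le_conj hD.inTr (hOR.pgroup.map _)
    (Subgroup.map_subtype_le R) hne
  rw [map_conj_eq_self (hS.le_norm ht)] at hle
  -- `p`-regular elements of `Q C(Q)` centralise `Q`
  have hn : ((cz Q).subgroupOf (Q ⊔ cz Q)).Normal :=
    Subgroup.normal_subgroupOf_of_le_normalizer (hS.le_norm.trans (normalizer_le_normalizer_cz Q))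
  obtain ⟨n, hn'⟩ := IsPGroup.iff_card.1 hQ
  have hidx : ((cz Q).subgroupOf (Q ⊔ cz Q)).index ∣ p ^ n := by
    rw [← hn']
    show (cz Q).relIndex (Q ⊔ cz Q) ∣ Nat.card Q
    have h1 : ((cz Q).subgroupOf (Q ⊔ cz Q)).relIndex (Q.subgroupOf (Q ⊔ cz Q)) =
        (cz Q).relIndex Q := Subgroup.relIndex_subgroupOf le_sup_left
    have htop : Q.subgroupOf (Q ⊔ cz Q) ⊔ (cz Q).subgroupOf (Q ⊔ cz Q) = ⊤ := by
      refine eq_top_iff.2 fun y _ => ?_
      have hy : (y : G) ∈ ((Q ⊔ cz Q : Subgroup G) : Set G) := y.2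
      rw [Subgroup.coe_mul_of_left_le_normalizer_right _ _
        (Subgroup.le_normalizer.trans (normalizer_le_normalizer_cz Q))] at hy
      obtain ⟨q, hq, c, hc, hqc⟩ := Set.mem_mul.1 hy
      have : y = (⟨q, Subgroup.mem_sup_left hq⟩ : ↥(Q ⊔ cz Q)) * ⟨c, Subgroup.mem_sup_right hc⟩ :=
        Subtype.ext hqc.symm
      rw [this]
      exact Subgroup.mul_mem_sup hq hc
    show ((cz Q).subgroupOf (Q ⊔ cz Q)).index ∣ Nat.card Q
    rw [← Subgroup.relIndex_top_right, ← htop, Subgroup.relIndex_sup_right, h1]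
    exact Subgroup.index_dvd_card _
  have hxc : (x : G) ∈ cz Q := by
    obtain ⟨j, -, hj⟩ := (Nat.dvd_prime_pow (Fact.out : p.Prime)).1 hidx
    have hreg : ¬ p ∣ orderOf (x : G) := by rw [Subgroup.orderOf_coe]; exact hxr
    refine mem_of_pow_mem (a := orderOf (x : G)) (b := p ^ j)
      (((Fact.out : p.Prime).coprime_iff_not_dvd.2 hreg).symm.pow_right j) ?_ ?_
    · rw [pow_orderOf_eq_one]; exact (cz Q).one_mem
    · have h2 := pow_index_mem_of_normal ((cz Q).subgroupOf (Q ⊔ cz Q)) x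
      rw [hj, Subgroup.mem_subgroupOf] at h2
      exact h2
  exact mem_cz.2 fun r hr => Subtype.ext (mem_cz.1 hxc r (hle ⟨r, hr, rfl⟩))

/-- If `(Q, f)` is fixed by the whole group, the idempotent of `B` is that of `f`. -/
theorem eG_eq_eA_of_stable (hM : IsPModular p M) {B : Set (IrrCharacter G)}
    (hQf : IsBrauerPairOf p M B Q f)
    (hG : ∀ x : G, x ∈ Subgroup.normalizer (Q : Set G) ∧ StabilizesBlock (cz Q) f x) :
    eG hM B = eA hM (cz Q) f := by
  have := charP_res hM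
  let _ : ∀ H : Subgroup G, Fintype H := fun H => Fintype.ofFinite H
  obtain ⟨hf, hB, hOQ⟩ := (isBrauerPairOf_iff hM B Q f).1 hQf
  have hS := setup_of_stab hM hOQ.pgroup hf (T := ⊤) fun y => iff_of_true trivial (hG y)
  obtain ⟨F, hF, -, hFe⟩ := exists_stabilizer_block hM hf hS
  have hb : IsBlockIdem (⊤ : Subgroup G) (eA hM (cz Q) f) := hFe ▸ isBlockIdem_eA hM hF
  refine (isBlockIdem_eG hM hB).eq_of_mul_ne_zero hb fun h0 => hOQ.block.ne_zero ?_
  have h1 := congrArg (brMap (ResK M) Q) h0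
  rwa [map_zero, brMap_mul hOQ.pgroup (fixAlg_anti le_top (isBlockIdem_eG hM hB).fixed)
    (fixAlg_anti le_top hb.fixed), brMap_eq_self hOQ.block.supp, hOQ.cover] at h1

end CfsgLib.BrauerPairs
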