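import Cfsg.Agent.Lib.BrauerPairs.Principal
import Cfsg.Agent.Lib.BlockCover.DefectGroup
import Mathlib.GroupTheory.Perm.Cycle.Type

/-!
# Defect classes of a group and of the centralisers of its `p`-elements
-/

set_option autoImplicit false
set_option linter.style.haveILetI false
set_option linter.unusedSectionVars false

namespace CfsgLib.BrauerPairs

open Cfsg MonoidAlgebra

variable {p : ℕ} {M : Ideal AlgInt} [M.IsMaximal] {G : Type*} [Group G] [Fintype G] [Fact p.Prime]

theorem exists_block_above (hM : IsPModular p M) {Q : Subgroup G} (hQ : IsPGroup p Q)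
    {e : Set (IrrCharacter (cz Q))} (he : IsPBlock M e) :
    ∃ B : Set (IrrCharacter G), IsPBlock M B ∧ IsBrauerPairOf p M B Q e ∧
      brMap (ResK M) Q (eG hM B) * eA hM (cz Q) e = eA hM (cz Q) e := by
  classical
  let _ : ∀ H : Subgroup G, Fintype H := fun H => Fintype.ofFinite H
  have := charP_res hM
  have heb := isBlockIdem_eA hM he
  obtain ⟨s, hs, hsum⟩ := exists_eG_decomp hM G
  obtain ⟨e', he', hne⟩ : ∃ e' ∈ s, brMap (ResK M) Q e' * eA hM (cz Q) e ≠ 0 := by
    by_contra hcon
    simp only [not_exists, not_and, not_not] at hcon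
    apply heb.ne_zero
    have h1 : brMap (ResK M) Q (1 : MonoidAlgebra (ResK M) G) = 1 := by
      ext x
      by_cases hx : x ∈ cz Q
      · rw [coeff_brMap_of_mem _ hx]
      · rw [coeff_brMap_of_notMem _ hx,
          coeff_eq_zero_of_mem_suppAlg (Subalgebra.one_mem (suppAlg (ResK M) (cz Q))) hx]
    rw [← one_mul (eA hM (cz Q) e), ← h1, ← hsum, map_sum, Finset.sum_mul]
    exact Finset.sum_eq_zero hcon
  obtain ⟨B, hB, rfl⟩ := hs e' he'
  have hb := isBlockIdem_eG hM hB
  have hfixQ : eG hM B ∈ fixAlg (ResK M) Q := fixAlg_anti le_top hb.fixed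
  have hcov : brMap (ResK M) Q (eG hM B) * eA hM (cz Q) e = eA hM (cz Q) e :=
    (heb.mul_idem (brMap_mem_suppAlg Q _)
      (brMap_mem_fixAlg (cz_le_normalizer Q) (fixAlg_anti le_top hb.fixed))
      (by rw [← brMap_mul hQ hfixQ hfixQ, hb.idem])).resolve_left hne
  exact ⟨B, hB, (isBrauerPairOf_iff hM B Q e).2 ⟨he, hB, hQ, bot_le, le_top, heb, hcov⟩, hcov⟩

/-- The defect of a local block is at most that of the block it belongs to. -/
theorem defect_le_of_pair (hM : IsPModular p M) {Q : Subgroup G}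
    {e : Set (IrrCharacter (cz Q))} (he : IsPBlock M e) {B : Set (IrrCharacter G)}
    (hB : IsPBlock M B)
    (hcov : brMap (ResK M) Q (eG hM B) * eA hM (cz Q) e = eA hM (cz Q) e) :
    blockDefect p e ≤ blockDefect p B := by
  classical
  let _ : ∀ H : Subgroup G, Fintype H := fun H => Fintype.ofFinite H
  have := charP_res hM
  obtain ⟨R', hR'⟩ := exists_defectGroup hM he
  have hR'd := (isDefectGroup_iff hM he R').1 hR'
  set R := R'.map (cz Q).subtype with hR
  have hRp : IsPGroup p R := hR'd.pgroup.map _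
  have hRC : R ≤ cz Q := Subgroup.map_subtype_le _
  have heb := isBlockIdem_eA hM he
  have hb := isBlockIdem_eG hM hB
  have hne : brMap (ResK M) R (eA hM (cz Q) e) ≠ 0 := by
    rw [← inclA_eG, hR, ← inclA_brMap]
    exact fun h => hR'd.br_ne (inclA_injective _ (by rw [h, map_zero]))
  have hbr : brMap (ResK M) R (eG hM B) ≠ 0 := by
    intro h0
    apply hne
    have hz : brMap (ResK M) R (brMap (ResK M) Q (eG hM B)) = 0 := by
      ext g
      by_cases hg : g ∈ cz R
      · rw [coeff_brMap_of_mem _ hg]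
        by_cases hgQ : g ∈ cz Q
        · rw [coeff_brMap_of_mem _ hgQ, ← coeff_brMap_of_mem (Q := R) _ hg, h0]
        · rw [coeff_brMap_of_notMem _ hgQ, coeff_zero, Finsupp.zero_apply]
      · rw [coeff_brMap_of_notMem _ hg, coeff_zero, Finsupp.zero_apply]
    rw [← hcov, brMap_mul hRp (fixAlg_anti hRC (brMap_mem_fixAlg (cz_le_normalizer Q)
      (fixAlg_anti le_top hb.fixed))) (fixAlg_anti hRC heb.fixed), hz, zero_mul]
  obtain ⟨D, hD, hle⟩ := exists_defectGroup_ge hM hB hRp hbr
  have h1 := Subgroup.card_le_of_le hle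
  rw [hR, Subgroup.card_map_of_injective (cz Q).subtype_injective,
    BlockCover.natCard_defect hM he hR', BlockCover.natCard_defect hM hB hD] at h1
  exact (Nat.pow_le_pow_iff_right (Fact.out : p.Prime).one_lt).1 h1

theorem deficiency_centralizer (hM : IsPModular p M) {r : ℕ}
    (hG : ∀ B : Set (IrrCharacter G), IsPBlock M B → B ≠ principalBlock M G → blockDefect p B < r)
    {Q : Subgroup G} (hQ : IsPGroup p Q) {e : Set (IrrCharacter (cz Q))} (he : IsPBlock M e)
    (hne : e ≠ principalBlock M (cz Q)) : blockDefect p e < r := by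
  obtain ⟨B, hB, hpair, hcov⟩ := exists_block_above hM hQ he
  refine (defect_le_of_pair hM he hB hcov).trans_lt (hG B hB fun h => hne ?_)
  subst h
  exact eq_principal_of_isBrauerPairOf hM hpair

theorem deficiency_of_centralizers (hM : IsPModular p M) {r : ℕ} (hr : 0 < r)
    (hC : ∀ y : G, orderOf y = p → ∀ e : Set (IrrCharacter (cz (Subgroup.zpowers y))),
      IsPBlock M e → e ≠ principalBlock M (cz (Subgroup.zpowers y)) → blockDefect p e < r)
    {B : Set (IrrCharacter G)} (hB : IsPBlock M B) (hne : B ≠ principalBlock M G) :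
    blockDefect p B < r := by
  classical
  let _ : ∀ H : Subgroup G, Fintype H := fun H => Fintype.ofFinite H
  have := charP_res hM
  by_contra hlt
  rw [not_lt] at hlt
  obtain ⟨D, hD⟩ := exists_defectGroup hM hB
  have hDd := (isDefectGroup_iff hM hB D).1 hD
  have hcard := BlockCover.natCard_defect hM hB hD
  have hnt : Nontrivial D := by
    rw [← Finite.one_lt_card_iff_nontrivial, hcard]
    exact Nat.one_lt_pow (by omega) (Fact.out : p.Prime).one_lt
  have hcn := hDd.pgroup.center_nontrivial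
  have hZp : IsPGroup p (Subgroup.center D) := hDd.pgroup.to_subgroup _
  obtain ⟨z, hz⟩ : ∃ z : Subgroup.center D, orderOf z = p := by
    obtain ⟨n, hn⟩ := hZp.exists_card_eq
    refine exists_prime_orderOf_dvd_card' p ?_
    rw [hn]
    refine dvd_pow_self p ?_
    rintro rfl
    rw [pow_zero] at hn
    exact (Finite.one_lt_card_iff_nontrivial.2 hcn).ne' hn
  set y : G := ((z : D) : G) with hy
  have hyo : orderOf y = p := by rw [hy, Subgroup.orderOf_coe, Subgroup.orderOf_coe, hz]
  set Q := Subgroup.zpowers y with hQ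
  have hQD : Q ≤ D := Subgroup.zpowers_le.2 (z : D).2
  have hQp : IsPGroup p Q := hDd.pgroup.to_le hQD
  have hDC : D ≤ cz Q := by
    intro d hd
    refine mem_cz.2 fun q hq => ?_
    obtain ⟨i, rfl⟩ := hq
    have h1 : Commute y d := (congrArg Subtype.val (Subgroup.mem_center_iff.1 z.2 ⟨d, hd⟩)).symm
    exact (h1.zpow_left i).eq
  have hb := isBlockIdem_eG hM hB
  have hfixD : eG hM B ∈ fixAlg (ResK M) D := fixAlg_anti le_top hb.fixed
  obtain ⟨h, hh, hcovD⟩ := exists_block_le (hasBlocks hM) (brMap_mem_suppAlg D (eG hM B))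
    (brMap_mem_fixAlg (cz_le_normalizer D) (fixAlg_anti le_top hb.fixed))
    (by rw [← brMap_mul hDd.pgroup hfixD hfixD, hb.idem]) hDd.br_ne
  obtain ⟨e, he, rfl⟩ := exists_eA_eq hM hh
  obtain ⟨g, hg, hpair⟩ := exists_pairLE (hasBlocks hM) hQD hDd.pgroup hh
  obtain ⟨f, hf, rfl⟩ := exists_eA_eq hM hg
  have hcov : brMap (ResK M) Q (eG hM B) * eA hM (cz Q) f = eA hM (cz Q) f :=
    (brMap_cover_iff hpair hb.fixed hb.idem).2 hcovD
  obtain ⟨R, hR, hle⟩ := centralizer_le_defect hM hDd.pgroup he hf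
    ((subpairLE_iff hM hf he).2 hpair)
  have hdf : r ≤ blockDefect p f := by
    refine hlt.trans ((Nat.pow_le_pow_iff_right (Fact.out : p.Prime).one_lt).1 ?_)
    rw [← hcard, ← BlockCover.natCard_defect hM hf hR]
    refine le_trans (le_of_eq ?_) (Subgroup.card_le_of_le hle)
    rw [inf_eq_left.2 hDC, Nat.card_congr (Subgroup.subgroupOfEquivOfLe hDC).toEquiv]
  refine absurd (hC y hyo f hf ?_) (not_lt.2 hdf)
  intro hfp
  obtain ⟨-, hB0, hO⟩ := (isBrauerPairOf_iff hM _ Q _).1 (isBrauerPairOf_principal (G := G) hM hQp)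
  have hb0 := isBlockIdem_eG hM hB0
  have h0 : eG hM B * eG hM (principalBlock M G) = 0 :=
    hb.mul_eq_zero hb0 fun h => hne (eG_inj hM hB hB0 h)
  apply (isBlockIdem_eA hM hf).ne_zero
  calc eA hM (cz Q) f = brMap (ResK M) Q (eG hM B) *
        (brMap (ResK M) Q (eG hM (principalBlock M G)) * eA hM (cz Q) f) := by
        rw [show brMap (ResK M) Q (eG hM (principalBlock M G)) * eA hM (cz Q) f = eA hM (cz Q) f
          from hfp ▸ hO.cover, hcov]
    _ = 0 := by
        rw [← mul_assoc, ← brMap_mul hQp (fixAlg_anti le_top hb.fixed)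
          (fixAlg_anti le_top hb0.fixed), h0, map_zero, zero_mul]

end CfsgLib.BrauerPairs
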