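import Cfsg.Agent.Lib.BrauerPairs.LocalNilpotent

/-!
# Brauer's first main theorem
-/

namespace CfsgLib.BrauerPairs

open Cfsg MonoidAlgebra

set_option linter.unusedSectionVars false

section Algebra

variable {k : Type*} [Field k] {G : Type*} [Group G] [Fintype G]

/-- The embedding of a subgroup algebra commutes with relative traces. -/
theorem inclA_relTr {H : Subgroup G} {R T : Subgroup H} {a : MonoidAlgebra k H}
    (ha : a ∈ fixAlg k R) :
    inclA k H (relTr k R T a) =
      relTr k (R.map H.subtype) (T.map H.subtype) (inclA k H a) := by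
  classical
  rw [relTr_eq_sum, relTr_eq_sum, map_sum]
  have hmem : ∀ t : T, ((t : H) : G) ∈ T.map H.subtype := fun t => ⟨t, t.2, rfl⟩
  let f : T ⧸ R.subgroupOf T → (T.map H.subtype) ⧸ (R.map H.subtype).subgroupOf (T.map H.subtype) :=
    fun q => QuotientGroup.mk ⟨((q.out : T) : H), hmem q.out⟩
  have hf : Function.Bijective f := by
    constructor
    · intro q q' h
      have h1 := QuotientGroup.eq.1 h
      rw [Subgroup.mem_subgroupOf] at h1
      obtain ⟨r, hr, hrq⟩ := h1
      rw [← QuotientGroup.out_eq' q, ← QuotientGroup.out_eq' q', QuotientGroup.eq,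
        Subgroup.mem_subgroupOf]
      rwa [show (((q.out)⁻¹ * q'.out : T) : H) = r from (Subtype.ext hrq).symm]
    · intro u
      obtain ⟨⟨x, hx⟩, rfl⟩ := QuotientGroup.mk_surjective u
      obtain ⟨t, ht, rfl⟩ := hx
      refine ⟨QuotientGroup.mk ⟨t, ht⟩, ?_⟩
      obtain ⟨⟨r, hr⟩, hx⟩ := QuotientGroup.mk_out_eq_mul (R.subgroupOf T) (⟨t, ht⟩ : T)
      simp only [f]
      rw [hx, QuotientGroup.eq, Subgroup.mem_subgroupOf]
      exact ⟨(r : H)⁻¹, R.inv_mem (Subgroup.mem_subgroupOf.1 hr), by simp⟩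
  refine Fintype.sum_equiv (Equiv.ofBijective f hf) _ _ fun q => ?_
  rw [← conjA_inclA, Equiv.ofBijective_apply]
  exact (conjA_out_eq (inclA_mem_fixAlg ha)
    (⟨((q.out : T) : H), hmem q.out⟩ : T.map H.subtype)).symm

variable {p : ℕ} [CharP k p] [Fact p.Prime]

/-- A block idempotent of `k[H]` meeting a trace from `P` whose Brauer image is idempotent. -/
theorem brMap_eq_of_trace {H P : Subgroup G} (hP : IsPGroup p P) (hPH : P ≤ H)
    {f : MonoidAlgebra k G} (hf : IsBlockIdem H f) {a : MonoidAlgebra k G}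
    (has : a ∈ suppAlg k H) (haf : a ∈ fixAlg k P)
    (hid : brMap k P (relTr k P H a) * brMap k P (relTr k P H a) = brMap k P (relTr k P H a))
    (hne : brMap k P f * brMap k P (relTr k P H a) ≠ 0) :
    brMap k P f * brMap k P (relTr k P H a) = brMap k P f ∧
      ∀ S : Subgroup G, IsPGroup p S → S ≤ H → brMap k S f ≠ 0 → Nat.card S ≤ Nat.card P := by
  set y := relTr k P H a with hy
  have hyf : y ∈ fixAlg k H := relTr_mem_fixAlg haf
  have hys : y ∈ suppAlg k H := relTr_mem_suppAlg Subgroup.le_normalizer has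
  obtain ⟨c, hc⟩ := hf.locally y hys hyf
  set n := y * f - c • f with hn
  have hyfP : y ∈ fixAlg k P := fixAlg_anti hPH hyf
  have hfP : f ∈ fixAlg k P := fixAlg_anti hPH hf.fixed
  have hnf : ∀ S, S ≤ H → n ∈ fixAlg k S := fun S hS =>
    sub_mem (mul_mem (fixAlg_anti hS hyf) (fixAlg_anti hS hf.fixed))
      ((fixAlg k S).smul_mem (fixAlg_anti hS hf.fixed) c)
  have hnil : ∀ S : Subgroup G, IsPGroup p S → S ≤ H → IsNilpotent (brMap k S n) := by
    intro S hS hSH
    obtain ⟨m, hm⟩ := hc
    exact ⟨m, by rw [← brMap_pow hS (hnf S hSH), hm, map_zero]⟩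
  set z := brMap k P f with hz
  set w := brMap k P y with hw
  have hzz : z * z = z := by rw [hz, ← brMap_mul hP hfP hfP, hf.idem]
  have hcomm : z * w = w * z := by
    rw [hz, hw, ← brMap_mul hP hfP hyfP, ← brMap_mul hP hyfP hfP,
      (commute_of_supp_fix hf.supp hyf).eq]
  have hbrn : brMap k P n = z * w - c • z := by
    rw [hn, map_sub, map_smul, brMap_mul hP hyfP hfP, ← hz, ← hw, hcomm]
  have hc0 : c ≠ 0 := by
    intro h0
    refine hne (eq_zero_of_nilpotent_idem ?_ ?_)
    · have := hnil P hP hPH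
      rwa [hbrn, h0, zero_smul, sub_zero] at this
    · calc z * w * (z * w) = z * (w * z) * w := by simp only [mul_assoc]
        _ = z * w := by rw [← hcomm, ← mul_assoc, hzz, mul_assoc, hid]
  constructor
  · set d := z - z * w with hd
    have hd1 : (z * w) * d = 0 := by
      have hzwzw : z * w * (z * w) = z * w := by
        calc z * w * (z * w) = z * (w * z) * w := by simp only [mul_assoc]
          _ = z * w := by rw [← hcomm, ← mul_assoc, hzz, mul_assoc, hid]
      rw [hd, mul_sub, hzwzw]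
      have : z * w * z = z * w := by rw [mul_assoc, ← hcomm, ← mul_assoc, hzz]
      rw [this, sub_self]
    have hzd : z * d = d := by rw [hd, mul_sub, hzz, ← mul_assoc, hzz]
    obtain ⟨m, hm⟩ := hnil P hP hPH
    have hpow : ∀ i : ℕ, (brMap k P n) ^ i * d = (-c) ^ i • d := by
      intro i
      induction i with
      | zero => simp
      | succ i ih =>
        rw [pow_succ, mul_assoc, hbrn, sub_mul, hd1, smul_mul_assoc, hzd, zero_sub, ← neg_smul,
          mul_smul_comm, ← hbrn, ih, smul_smul, pow_succ']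
    have h := hpow m
    rw [hm, zero_mul] at h
    have : d = 0 := (smul_eq_zero.1 h.symm).resolve_left (pow_ne_zero _ (neg_ne_zero.2 hc0))
    exact (sub_eq_zero.1 this).symm
  · intro S hS hSH hbr
    by_contra hlt
    refine hbr ?_
    have hy0 : brMap k S y = 0 := brMap_relTr_eq_zero hS hSH haf fun t _ hle => hlt
      ((Subgroup.card_le_of_le hle).trans_eq
        (Subgroup.card_map_of_injective (MulAut.conj t).injective))
    have hfS : f ∈ fixAlg k S := fixAlg_anti hSH hf.fixed
    have h1 : brMap k S n = (-c) • brMap k S f := by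
      rw [hn, map_sub, map_smul, brMap_mul hS (fixAlg_anti hSH hyf) hfS, hy0, zero_mul, zero_sub,
        neg_smul]
    have h2 := (hnil S hS hSH).smul (-c)⁻¹
    rw [h1, smul_smul, inv_mul_cancel₀ (neg_ne_zero.2 hc0), one_smul] at h2
    exact eq_zero_of_nilpotent_idem h2 (by rw [← brMap_mul hS hfS hfS, hf.idem])

/-- The Brauer image of a trace from `P` is a trace to the normaliser. -/
theorem brMap_relTr_brMap {H P : Subgroup G} (hP : IsPGroup p P)
    (hNH : Subgroup.normalizer (P : Set G) ≤ H) {b : MonoidAlgebra k G} (hb : b ∈ fixAlg k P) :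
    brMap k P (relTr k P H (brMap k P b)) =
      relTr k P (Subgroup.normalizer (P : Set G)) (brMap k P b) := by
  rw [brMap_relTr_self hP (Subgroup.le_normalizer.trans hNH)
    (fixed_of_supp_cz (brMap_mem_suppAlg P b)), inf_eq_right.2 hNH, brMap_brMap_of_le le_rfl]

end Algebra

variable {p : ℕ} {M : Ideal AlgInt} [M.IsMaximal] {G : Type*} [Group G] [Fintype G] [Fact p.Prime]
  {P H : Subgroup G}

/-- The congruence on `C(P)` is equality of Brauer images. -/
theorem congr_iff_brMap (hM : IsPModular p M) {B : Set (IrrCharacter G)} (hB : IsPBlock M B)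
    {c : Set (IrrCharacter H)} (hc : IsPBlock M c) :
    (∀ x : G, x ∈ cz P → MemLocalIdeal M (blockCoeff B x - subgroupBlockCoeff H c x)) ↔
      brMap (ResK M) P (eG hM B) = brMap (ResK M) P (eA hM H c) := by
  have key : ∀ x : G, MemLocalIdeal M (blockCoeff B x - subgroupBlockCoeff H c x) ↔
      (eG hM B).coeff x = (eA hM H c).coeff x := by
    intro x
    rw [eG, eA, coeff_redFun hM (blockCoeff_mem hM hB x),
      coeff_redFun hM (subgroupBlockCoeff_mem hM hc x), resK_eq_iff]
  constructor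
  · intro h
    ext x
    by_cases hx : x ∈ cz P
    · rw [coeff_brMap_of_mem _ hx, coeff_brMap_of_mem _ hx]; exact (key x).1 (h x hx)
    · rw [coeff_brMap_of_notMem _ hx, coeff_brMap_of_notMem _ hx]
  · intro h x hx
    refine (key x).2 ?_
    have h1 := congrArg (fun a => a.coeff x) h
    simpa only [coeff_brMap_of_mem _ hx] using h1

theorem eq_of_brMap_eq (hM : IsPModular p M) (hP : IsPGroup p P) (hPH : P ≤ H)
    {c c' : Set (IrrCharacter H)} (hc : IsPBlock M c) (hc' : IsPBlock M c')
    (h : brMap (ResK M) P (eA hM H c) = brMap (ResK M) P (eA hM H c'))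
    (hne : brMap (ResK M) P (eA hM H c) ≠ 0) : c = c' := by
  have := charP_res hM
  have hb := isBlockIdem_eA hM hc
  have hb' := isBlockIdem_eA hM hc'
  refine eA_inj hM hc hc' (hb.eq_of_mul_ne_zero hb' fun h0 => hne ?_)
  have h1 := congrArg (brMap (ResK M) P) h0
  rw [map_zero, brMap_mul hP (fixAlg_anti hPH hb.fixed) (fixAlg_anti hPH hb'.fixed), ← h,
    ← brMap_mul hP (fixAlg_anti hPH hb.fixed) (fixAlg_anti hPH hb.fixed), hb.idem] at h1
  exact h1

theorem trace_of_defect (hM : IsPModular p M) (hP : IsPGroup p P) (hPH : P ≤ H)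
    {c : Set (IrrCharacter H)} (hc : IsPBlock M c) (hD : IsDefectGroup p M c (P.subgroupOf H)) :
    ∃ b : MonoidAlgebra (ResK M) G, b ∈ suppAlg (ResK M) H ∧ b ∈ fixAlg (ResK M) P ∧
      relTr (ResK M) P H b = eA hM H c := by
  let _ : ∀ H : Subgroup G, Fintype H := fun H => Fintype.ofFinite H
  have := charP_res hM
  obtain ⟨a, -, haf, ha⟩ := ((isDefectGroup_iff hM hc _).1 hD).inTr
  refine ⟨inclA (ResK M) H a, inclA_mem_suppAlg a, ?_, ?_⟩
  · have := inclA_mem_fixAlg haf
    rwa [Subgroup.map_subgroupOf_eq_of_le hPH] at this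
  · rw [← inclA_eG hM H c, ← ha, inclA_relTr haf, Subgroup.map_subgroupOf_eq_of_le hPH,
      ← MonoidHom.range_eq_map, Subgroup.range_subtype]

theorem brMap_ne_zero_of_defect (hM : IsPModular p M) (hPH : P ≤ H)
    {c : Set (IrrCharacter H)} (hc : IsPBlock M c) (hD : IsDefectGroup p M c (P.subgroupOf H)) :
    brMap (ResK M) P (eA hM H c) ≠ 0 := by
  let _ : ∀ H : Subgroup G, Fintype H := fun H => Fintype.ofFinite H
  have := charP_res hM
  intro h0
  rw [← Subgroup.map_subgroupOf_eq_of_le hPH, ← inclA_eG hM H c, ← inclA_brMap] at h0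
  exact ((isDefectGroup_iff hM hc _).1 hD).br_ne
    (inclA_injective _ (h0.trans (map_zero _).symm))

/-- The key computation for a block of `G` with defect group `P`. -/
theorem sub_block_key (hM : IsPModular p M) (hP : IsPGroup p P)
    (hH : Subgroup.normalizer (P : Set G) ≤ H) {B : Set (IrrCharacter G)} (hB : IsPBlock M B)
    (hD : IsDefectGroup p M B P) {c : Set (IrrCharacter H)} (hc : IsPBlock M c)
    (hne : brMap (ResK M) P (eA hM H c) * brMap (ResK M) P (eG hM B) ≠ 0) :
    brMap (ResK M) P (eA hM H c) * brMap (ResK M) P (eG hM B) =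
        brMap (ResK M) P (eA hM H c) ∧
      IsDefectGroup p M c (P.subgroupOf H) := by
  let _ : ∀ H : Subgroup G, Fintype H := fun H => Fintype.ofFinite H
  have := charP_res hM
  have hPH : P ≤ H := Subgroup.le_normalizer.trans hH
  have hd := (isDefectGroup_iff hM hB P).1 hD
  obtain ⟨b, -, hbf, hbB⟩ := hd.inTr
  have has : brMap (ResK M) P b ∈ suppAlg (ResK M) H := fun x hx =>
    hH (cz_le_normalizer P (brMap_mem_suppAlg P b x hx))
  have haf : brMap (ResK M) P b ∈ fixAlg (ResK M) P := fixed_of_supp_cz (brMap_mem_suppAlg P b)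
  have hy : brMap (ResK M) P (relTr (ResK M) P H (brMap (ResK M) P b)) =
      brMap (ResK M) P (eG hM B) := by
    rw [brMap_relTr_brMap hP hH hbf, ← hbB, brMap_relTr_self hP le_top hbf, top_inf_eq]
  have hBfix : eG hM B ∈ fixAlg (ResK M) P := fixAlg_anti le_top (isBlockIdem_eG hM hB).fixed
  obtain ⟨heq, hmax⟩ := brMap_eq_of_trace hP hPH (isBlockIdem_eA hM hc) has haf
    (by rw [hy, ← brMap_mul hP hBfix hBfix, (isBlockIdem_eG hM hB).idem]) (by rw [hy]; exact hne)
  rw [hy] at heq
  refine ⟨heq, ?_⟩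
  have hbr : brMap (ResK M) P (eA hM H c) ≠ 0 := fun h0 => hne (by rw [h0, zero_mul])
  obtain ⟨D, hD', hle⟩ := exists_defectGroup_ge hM hc (R := P.subgroupOf H) hP.comap_subtype
    (fun h0 => hbr (by
      rw [← Subgroup.map_subgroupOf_eq_of_le hPH, ← inclA_eG hM H c, ← inclA_brMap, h0,
        map_zero]))
  have hD'd := (isDefectGroup_iff hM hc D).1 hD'
  have hne' : brMap (ResK M) (D.map H.subtype) (eA hM H c) ≠ 0 := by
    rw [← inclA_eG hM H c, ← inclA_brMap]
    exact fun h0 => hD'd.br_ne (inclA_injective _ (h0.trans (map_zero _).symm))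
  have hcard := hmax _ (hD'd.pgroup.map _) (Subgroup.map_subtype_le D) hne'
  rw [Subgroup.card_map_of_injective H.subtype_injective] at hcard
  have : P.subgroupOf H = D := Subgroup.eq_of_le_of_card_ge hle (hcard.trans_eq
    (Nat.card_congr (Subgroup.subgroupOfEquivOfLe hPH).toEquiv).symm)
  rwa [this]

/-- The key computation for a block of `H` with defect group `P`. -/
theorem super_block_key (hM : IsPModular p M) (hP : IsPGroup p P)
    (hH : Subgroup.normalizer (P : Set G) ≤ H) {c : Set (IrrCharacter H)} (hc : IsPBlock M c)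
    (hD : IsDefectGroup p M c (P.subgroupOf H)) {B : Set (IrrCharacter G)} (hB : IsPBlock M B)
    (hne : brMap (ResK M) P (eG hM B) * brMap (ResK M) P (eA hM H c) ≠ 0) :
    brMap (ResK M) P (eG hM B) * brMap (ResK M) P (eA hM H c) =
        brMap (ResK M) P (eG hM B) ∧
      IsDefectGroup p M B P := by
  let _ : ∀ H : Subgroup G, Fintype H := fun H => Fintype.ofFinite H
  have := charP_res hM
  have hPH : P ≤ H := Subgroup.le_normalizer.trans hH
  obtain ⟨b, -, hbf, hbc⟩ := trace_of_defect hM hP hPH hc hD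
  have hy : brMap (ResK M) P (relTr (ResK M) P ⊤ (brMap (ResK M) P b)) =
      brMap (ResK M) P (eA hM H c) := by
    rw [brMap_relTr_brMap hP le_top hbf, ← hbc, brMap_relTr_self hP hPH hbf,
      inf_eq_right.2 hH]
  have hcfix : eA hM H c ∈ fixAlg (ResK M) P := fixAlg_anti hPH (isBlockIdem_eA hM hc).fixed
  obtain ⟨heq, hmax⟩ := brMap_eq_of_trace hP (le_top : P ≤ ⊤) (isBlockIdem_eG hM hB)
    (mem_suppAlg_top _) (fixed_of_supp_cz (brMap_mem_suppAlg P b))
    (by rw [hy, ← brMap_mul hP hcfix hcfix, (isBlockIdem_eA hM hc).idem]) (by rw [hy]; exact hne)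
  rw [hy] at heq
  refine ⟨heq, ?_⟩
  obtain ⟨D, hD', hle⟩ := exists_defectGroup_ge hM hB hP
    (fun h0 => hne (by rw [h0, zero_mul]))
  have hD'd := (isDefectGroup_iff hM hB D).1 hD'
  rwa [Subgroup.eq_of_le_of_card_ge hle (hmax D hD'd.pgroup le_top hD'd.br_ne)]

theorem brMap_eq_of_defect (hM : IsPModular p M) (hP : IsPGroup p P)
    (hH : Subgroup.normalizer (P : Set G) ≤ H) {B : Set (IrrCharacter G)} (hB : IsPBlock M B)
    {c : Set (IrrCharacter H)} (hc : IsPBlock M c) (hDB : IsDefectGroup p M B P)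
    (hDc : IsDefectGroup p M c (P.subgroupOf H))
    (hne : brMap (ResK M) P (eG hM B) * brMap (ResK M) P (eA hM H c) ≠ 0) :
    brMap (ResK M) P (eG hM B) = brMap (ResK M) P (eA hM H c) := by
  have := charP_res hM
  have hcomm : brMap (ResK M) P (eG hM B) * brMap (ResK M) P (eA hM H c) =
      brMap (ResK M) P (eA hM H c) * brMap (ResK M) P (eG hM B) :=
    (commute_of_supp_fix (H := cz P) (brMap_mem_suppAlg P (eA hM H c))
      (brMap_mem_fixAlg (cz_le_normalizer P) (fixAlg_anti le_top
        (isBlockIdem_eG hM hB).fixed))).eq.symm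
  rw [← (super_block_key hM hP hH hc hDc hB hne).1, hcomm,
    (sub_block_key hM hP hH hB hDB hc (hcomm ▸ hne)).1]

theorem exists_unique_sub_block (hM : IsPModular p M) (hP : IsPGroup p P)
    (hH : Subgroup.normalizer (P : Set G) ≤ H) {B : Set (IrrCharacter G)} (hB : IsPBlock M B)
    (hD : IsDefectGroup p M B P) :
    ∃! c : Set (IrrCharacter H), IsPBlock M c ∧ IsDefectGroup p M c (P.subgroupOf H) ∧
      ∀ x : G, x ∈ cz P → MemLocalIdeal M (blockCoeff B x - subgroupBlockCoeff H c x) := by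
  have := charP_res hM
  have hd := (isDefectGroup_iff hM hB P).1 hD
  have hPH : P ≤ H := Subgroup.le_normalizer.trans hH
  obtain ⟨s, hs, hsum⟩ := hasBlocks hM (G := G) H
  obtain ⟨f, hfs, hfz⟩ : ∃ f ∈ s, brMap (ResK M) P f * brMap (ResK M) P (eG hM B) ≠ 0 := by
    by_contra hcon
    simp only [not_exists, not_and, not_not] at hcon
    refine hd.br_ne ?_
    rw [← one_mul (brMap (ResK M) P (eG hM B)), ← brMap_one (k := ResK M) P, ← hsum, map_sum,
      Finset.sum_mul]
    exact Finset.sum_eq_zero hcon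
  obtain ⟨c, hc, rfl⟩ := exists_eA_eq hM (hs f hfs)
  have hDc := (sub_block_key hM hP hH hB hD hc hfz).2
  have hcomm := (commute_of_supp_fix (H := cz P) (brMap_mem_suppAlg P (eA hM H c))
      (brMap_mem_fixAlg (cz_le_normalizer P) (fixAlg_anti le_top
        (isBlockIdem_eG hM hB).fixed))).eq
  have heq := brMap_eq_of_defect hM hP hH hB hc hD hDc (by rwa [← hcomm])
  refine ⟨c, ⟨hc, hDc, (congr_iff_brMap hM hB hc).2 heq⟩, fun c' hc' => ?_⟩
  exact eq_of_brMap_eq hM hP hPH hc'.1 hc
    (((congr_iff_brMap hM hB hc'.1).1 hc'.2.2).symm.trans heq)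
    (brMap_ne_zero_of_defect hM hPH hc'.1 hc'.2.1)

theorem exists_unique_super_block (hM : IsPModular p M) (hP : IsPGroup p P)
    (hH : Subgroup.normalizer (P : Set G) ≤ H) {c : Set (IrrCharacter H)} (hc : IsPBlock M c)
    (hD : IsDefectGroup p M c (P.subgroupOf H)) :
    ∃! B : Set (IrrCharacter G), IsPBlock M B ∧ IsDefectGroup p M B P ∧
      ∀ x : G, x ∈ cz P → MemLocalIdeal M (blockCoeff B x - subgroupBlockCoeff H c x) := by
  let _ : ∀ H : Subgroup G, Fintype H := fun H => Fintype.ofFinite H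
  have := charP_res hM
  have hPH : P ≤ H := Subgroup.le_normalizer.trans hH
  have hz := brMap_ne_zero_of_defect hM hPH hc hD
  obtain ⟨t, ht, htsum⟩ := exists_eG_decomp hM G
  obtain ⟨f, hft, hfz⟩ : ∃ f ∈ t, brMap (ResK M) P f * brMap (ResK M) P (eA hM H c) ≠ 0 := by
    by_contra hcon
    simp only [not_exists, not_and, not_not] at hcon
    refine hz ?_
    rw [← one_mul (brMap (ResK M) P (eA hM H c)), ← brMap_one (k := ResK M) P, ← htsum, map_sum,
      Finset.sum_mul]
    exact Finset.sum_eq_zero hcon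
  obtain ⟨B, hB, rfl⟩ := ht f hft
  have hDB := (super_block_key hM hP hH hc hD hB hfz).2
  have heq := brMap_eq_of_defect hM hP hH hB hc hDB hD hfz
  refine ⟨B, ⟨hB, hDB, (congr_iff_brMap hM hB hc).2 heq⟩, fun B' hB' => ?_⟩
  have h1 := ((congr_iff_brMap hM hB'.1 hc).1 hB'.2.2).trans heq.symm
  have hb := isBlockIdem_eG hM hB
  have hb' := isBlockIdem_eG hM hB'.1
  refine eG_inj hM hB'.1 hB (hb'.eq_of_mul_ne_zero hb fun h0 => hz ?_)
  have h2 := congrArg (brMap (ResK M) P) h0
  rw [map_zero, brMap_mul hP (fixAlg_anti le_top hb'.fixed) (fixAlg_anti le_top hb.fixed), h1,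
    ← brMap_mul hP (fixAlg_anti le_top hb.fixed) (fixAlg_anti le_top hb.fixed), hb.idem] at h2
  rw [← heq, h2]

end CfsgLib.BrauerPairs
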