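import Cfsg.Agent.Lib.BrauerPairs.Local
import Cfsg.Prelude.Def_BlockFusion

/-!
# Elementary consequences of the definition of the fusion system of a block
-/

namespace CfsgLib.BrauerPairs

open Cfsg

variable {p : ℕ} {M : Ideal AlgInt} [M.IsMaximal] {G : Type*} [Group G] [Fintype G]
  [Fact p.Prime] {B : Set (IrrCharacter G)} {P Q : Subgroup G} {e : Set (IrrCharacter (cz P))}
  {f : Set (IrrCharacter (cz Q))} {F : FusionSystem P}

theorem subpair_unique (hM : IsPModular p M) (hmax : IsMaximalBrauerPair p M B P e)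
    {g : Set (IrrCharacter (cz Q))} (hf : IsPBlock M f) (hg : IsPBlock M g)
    (hle : SubpairLE p M Q f P e) (hle' : SubpairLE p M Q g P e) : f = g := by
  have := charP_res hM
  obtain ⟨hP, -⟩ := (isMaximalBrauerPair_iff hM B P e).1 hmax
  obtain ⟨he, -, hOP⟩ := (isBrauerPairOf_iff hM B P e).1 hP
  refine eA_inj hM hf hg (pairLE_unique (hasBlocks hM) (b := (P, eA hM (cz P) e))
    (isBlockIdem_eA hM he) hOP.pgroup ((subpairLE_iff hM hf he).1 hle)
    ((subpairLE_iff hM hg he).1 hle'))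

omit [M.IsMaximal] [Fintype G] [Fact p.Prime] in
theorem subpairLE_le {f : Set (IrrCharacter (cz Q))} (hle : SubpairLE p M Q f P e) : Q ≤ P := by
  have key : ∀ a b : BrauerPairIdx G, Relation.ReflTransGen (NormalSubpairRel p M) a b →
      a.1 ≤ b.1 := by
    intro a b h
    induction h with
    | refl => exact le_rfl
    | tail _ h2 ih => exact ih.trans h2.2.2.1
  exact key ⟨Q, f⟩ ⟨P, e⟩ hle

theorem isConj_iff (hM : IsPModular p M) (hF : IsBlockFusionSystemOn p M B P e F)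
    (hf : IsPBlock M f) (hle : SubpairLE p M Q f P e) (Q' : Subgroup G) :
    F.IsConj Q Q' ↔ ∃ x : G, Q.map (MulAut.conj x).toMonoidHom = Q' ∧
      SubpairLE p M (Q.map (MulAut.conj x).toMonoidHom) (conjBlock Q x f) P e := by
  constructor
  · rintro ⟨φ, hφ, rfl⟩
    obtain ⟨-, x, hx, -, f', hf', hxf'⟩ := (hF.2 Q φ).1 hφ
    have hQ : IsPBlock M f' := by
      rcases Relation.ReflTransGen.cases_head hf' with h | ⟨c, hc, -⟩
      · obtain ⟨rfl, h⟩ := Sigma.mk.inj_iff.1 h
        exact (eq_of_heq h) ▸ hF.1.1.1.2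
      · exact hc.1.2
    refine ⟨x, ?_, subpair_unique hM hF.1 hf hQ hle hf' ▸ hxf'⟩
    ext y
    simp only [Subgroup.mem_map, MonoidHom.mem_range, MulEquiv.coe_toMonoidHom, MulAut.conj_apply]
    constructor
    · rintro ⟨u, hu, rfl⟩; exact ⟨⟨u, hu⟩, hx _⟩
    · rintro ⟨u, rfl⟩; exact ⟨u, u.2, (hx u).symm⟩
  · rintro ⟨x, rfl, hx⟩
    let φ : Q →* G := (MulAut.conj x).toMonoidHom.comp Q.subtype
    refine ⟨φ, (hF.2 Q φ).2 ⟨subpairLE_le hle, x, fun u => rfl, subpairLE_le hx, f, hle, hx⟩, ?_⟩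
    rw [MonoidHom.range_comp, Subgroup.range_subtype]

end CfsgLib.BrauerPairs
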