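import Cfsg.Agent.Lib.BrauerPairs.LocalNilpotent
import Cfsg.Agent.Lib.Blocks.WeakOrth

/-!
# Nilpotency and normal subgroups of `p`-power index
-/

namespace CfsgLib.BrauerPairs

open Cfsg MonoidAlgebra

set_option linter.unusedSectionVars false

section Algebra

variable {k : Type*} [Field k] {G : Type*} [Group G]

theorem cz_subgroupOf_eq {K R : Subgroup G} (hR : R ≤ K) :
    cz (R.subgroupOf K) = (cz R).subgroupOf K := by
  ext x
  rw [Subgroup.mem_subgroupOf, mem_cz, mem_cz]
  constructor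
  · intro h r hr
    exact congrArg Subtype.val (h ⟨r, hR hr⟩ hr)
  · intro h r hr
    exact Subtype.ext (h r hr)

theorem cz_map_subtype {K : Subgroup G} (R : Subgroup K) :
    (cz R).map K.subtype = cz (R.map K.subtype) ⊓ K := by
  ext x
  constructor
  · rintro ⟨y, hy, rfl⟩
    refine ⟨mem_cz.2 ?_, y.2⟩
    rintro _ ⟨r, hr, rfl⟩
    exact congrArg Subtype.val (mem_cz.1 hy r hr)
  · rintro ⟨hx, hxK⟩
    exact ⟨⟨x, hxK⟩, mem_cz.2 fun r hr => Subtype.ext (mem_cz.1 hx r ⟨r, hr, rfl⟩), rfl⟩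

theorem IsBlockIdem.restr {H K : Subgroup G} (hHK : H ≤ K) {a : MonoidAlgebra k G}
    (ha : IsBlockIdem H a) : IsBlockIdem (H.subgroupOf K) (CfsgLib.BrauerPairs.restrA k K a) := by
  have heq : CfsgLib.BrauerPairs.inclA k K (CfsgLib.BrauerPairs.restrA k K a) = a := CfsgLib.BrauerPairs.inclA_restrA fun x hx => hHK (ha.supp x hx)
  have hmap : (H.subgroupOf K).map K.subtype = H := Subgroup.map_subgroupOf_eq_of_le hHK
  refine ⟨fun y hy => ?_, fun h hh => CfsgLib.BrauerPairs.inclA_injective K ?_, CfsgLib.BrauerPairs.inclA_injective K ?_, fun h0 => ?_,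
    fun z hzs hzf => ?_⟩
  · exact ha.supp (y : G) hy
  · rw [← conjA_inclA, heq]
    exact ha.fixed (h : G) hh
  · rw [map_mul, heq, ha.idem]
  · exact ha.ne_zero (by rw [← heq, h0, map_zero])
  · have h1 := map_subtype_inclA hzs
    have h2 := inclA_mem_fixAlg hzf
    rw [hmap] at h1 h2
    obtain ⟨c, n, hn⟩ := ha.locally _ h1 h2
    exact ⟨c, n, CfsgLib.BrauerPairs.inclA_injective K (by rw [map_pow, map_sub, map_mul, map_smul, heq, hn, map_zero])⟩

theorem mem_of_pow_mem {H : Subgroup G} {u : G} {a b : ℕ} (hab : Nat.Coprime a b)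
    (ha : u ^ a ∈ H) (hb : u ^ b ∈ H) : u ∈ H := by
  have h := Nat.gcd_eq_gcd_ab a b
  rw [hab] at h
  have : u = (u ^ a) ^ (Nat.gcdA a b) * (u ^ b) ^ (Nat.gcdB a b) := by
    rw [← zpow_natCast u a, ← zpow_natCast u b, ← zpow_mul, ← zpow_mul, ← zpow_add, ← h]
    simp
  rw [this]
  exact H.mul_mem (H.zpow_mem ha _) (H.zpow_mem hb _)

theorem pow_index_mem_of_normal (N : Subgroup G) [N.Normal] (u : G) : u ^ N.index ∈ N := by
  rw [← QuotientGroup.eq_one_iff, QuotientGroup.mk_pow, Subgroup.index]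
  exact pow_card_eq_one'

variable [Fintype G] {p : ℕ} [CharP k p] [Fact p.Prime]

/-- A `p`-regular element stabilising the pair above also stabilises a pair below, on `cz R ⊓ N`. -/
theorem exists_fixed_block_below (hk : HasBlocks k G) {N : Subgroup G} [N.Normal] {n : ℕ}
    (hN : N.index = p ^ n) {R : Subgroup G} {a β : MonoidAlgebra k G}
    (ha : IsBlockIdem (cz R) a) (hβ : β * β = β) (hβs : β ∈ suppAlg k (cz R ⊓ N))
    (hβf : β ∈ fixAlg k (cz R ⊓ N)) (hβa : β * a = a) {x : G} (hxN : x ∈ N)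
    (hxR : x ∈ Subgroup.normalizer (R : Set G)) (hxa : conjA x a = a)
    (hxp : ¬ p ∣ orderOf x) :
    ∃ g, IsBlockIdem (cz R ⊓ N) g ∧ β * g = g ∧ conjA x g = g := by
  classical
  have hp : p.Prime := Fact.out
  set L := cz R ⊓ N with hL
  obtain ⟨s, hs, hsum⟩ := hk L
  obtain ⟨g, hgs, hag⟩ : ∃ g ∈ s, a * g ≠ 0 := by
    by_contra hcon
    simp only [not_exists, not_and, not_not] at hcon
    exact ha.ne_zero (by rw [← mul_one a, ← hsum, Finset.mul_sum]; exact Finset.sum_eq_zero hcon)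
  have hg := hs g hgs
  have hβg : β * g = g := by
    refine (hg.mul_idem hβs hβf hβ).resolve_left fun h0 => hag ?_
    calc a * g = β * a * g := by rw [hβa]
      _ = a * (β * g) := by
        rw [(commute_of_supp_fix (H := cz R) (fun y hy => (hβs y hy).1) ha.fixed).eq, mul_assoc]
      _ = 0 := by rw [h0, mul_zero]
  refine ⟨g, hg, hβg, ?_⟩
  have hCN : cz R ≤ Subgroup.normalizer (L : Set G) := fun u hu =>
    Fusion.mem_normalizer_of_forall fun y hy => ⟨(cz R).mul_mem ((cz R).mul_mem hu hy.1)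
      ((cz R).inv_mem hu), ‹N.Normal›.conj_mem y hy.2 u⟩
  have hxL : x ∈ Subgroup.normalizer (L : Set G) := fun y =>
    ⟨fun hy => ⟨(normalizer_le_normalizer_cz R hxR y).1 hy.1, ‹N.Normal›.conj_mem y hy.2 x⟩,
      fun hy => ⟨(normalizer_le_normalizer_cz R hxR y).2 hy.1, by
        simpa [mul_assoc] using ‹N.Normal›.conj_mem _ hy.2 x⁻¹⟩⟩
  -- the orbit of `g` under the centraliser
  set O : Finset (MonoidAlgebra k G) :=
    (Finset.univ.filter fun u : G => u ∈ cz R).image fun u => conjA u g with hO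
  have hOb : ∀ e ∈ O, IsBlockIdem L e := by
    intro e he
    obtain ⟨u, hu, rfl⟩ := Finset.mem_image.1 he
    have := hg.conjA u
    rwa [map_conj_eq_self (hCN (Finset.mem_filter.1 hu).2)] at this
  set S := ∑ e ∈ O, e with hS
  have hSs : S ∈ suppAlg k (cz R) :=
    Subalgebra.sum_mem _ fun e he => fun y hy => ((hOb e he).supp y hy).1
  have hSf : S ∈ fixAlg k (cz R) := by
    intro v hv
    rw [hS, conjA_sum]
    have hperm : ∀ w ∈ cz R, ∀ e ∈ O, conjA w e ∈ O := by
      intro w hw e he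
      obtain ⟨u, hu, rfl⟩ := Finset.mem_image.1 he
      exact Finset.mem_image.2 ⟨w * u, Finset.mem_filter.2 ⟨Finset.mem_univ _,
        (cz R).mul_mem hw (Finset.mem_filter.1 hu).2⟩, conjA_mul_left _ _ _⟩
    refine Finset.sum_bij' (fun e _ => conjA v e) (fun e _ => conjA v⁻¹ e) (hperm v hv)
      (hperm v⁻¹ ((cz R).inv_mem hv)) (fun e _ => ?_) (fun e _ => ?_) (fun e _ => rfl)
    · rw [← conjA_mul_left, inv_mul_cancel, conjA_one_left]
    · rw [← conjA_mul_left, mul_inv_cancel, conjA_one_left]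
  have hSi : S * S = S := by
    rw [hS, Finset.sum_mul]
    refine Finset.sum_congr rfl fun e he => ?_
    rw [Finset.mul_sum, Finset.sum_eq_single e (fun e' he' hne =>
      (hOb e he).mul_eq_zero (hOb e' he') hne.symm) (fun h => (h he).elim), (hOb e he).idem]
  have hgO : g ∈ O := Finset.mem_image.2
    ⟨1, Finset.mem_filter.2 ⟨Finset.mem_univ _, (cz R).one_mem⟩, conjA_one_left g⟩
  have hSg : S * g = g := by
    rw [hS, Finset.sum_mul, Finset.sum_eq_single g (fun e' he' hne =>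
      (hOb e' he').mul_eq_zero hg hne) (fun h => (h hgO).elim), hg.idem]
  have hSa : S * a = a := by
    refine (ha.mul_idem hSs hSf hSi).resolve_left fun h0 => hag ?_
    have hcomm : a * S = 0 := by rw [(commute_of_supp_fix ha.supp hSf).eq, h0]
    calc a * g = a * S * g := by rw [mul_assoc, hSg]
      _ = 0 := by rw [hcomm, zero_mul]
  have hxg : IsBlockIdem L (conjA x g) := by
    have := hg.conjA x; rwa [map_conj_eq_self hxL] at this
  obtain ⟨u, hu, hug⟩ : ∃ u ∈ cz R, conjA u g = conjA x g := by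
    by_contra hcon
    simp only [not_exists, not_and] at hcon
    refine hag (conjA_inj (g := x) ?_)
    have hz : S * conjA x g = 0 := by
      rw [hS, Finset.sum_mul]
      refine Finset.sum_eq_zero fun e he => (hOb e he).mul_eq_zero hxg ?_
      obtain ⟨v, hv, rfl⟩ := Finset.mem_image.1 he
      exact hcon v (Finset.mem_filter.1 hv).2
    rw [conjA_mul, hxa, conjA_zero]
    calc a * conjA x g = S * a * conjA x g := by rw [hSa]
      _ = a * (S * conjA x g) := by rw [(commute_of_supp_fix hSs ha.fixed).eq, mul_assoc]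
      _ = 0 := by rw [hz, mul_zero]
  -- `x` commutes with the action of the centraliser
  have hcom : ∀ v ∈ cz R, conjA x (conjA v g) = conjA v (conjA x g) := by
    intro v hv
    rw [← conjA_mul_left, ← conjA_mul_left,
      show x * v = v * x * (x⁻¹ * v⁻¹ * x * v) by group, conjA_mul_left,
      hg.fixed (x⁻¹ * v⁻¹ * x * v) ⟨?_, ?_⟩]
    · refine (cz R).mul_mem ?_ hv
      have := (normalizer_le_normalizer_cz R (Subgroup.inv_mem _ hxR) v⁻¹).1 ((cz R).inv_mem hv)
      simpa using this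
    · rw [show x⁻¹ * v⁻¹ * x * v = x⁻¹ * (v⁻¹ * x * v⁻¹⁻¹) by group]
      exact N.mul_mem (N.inv_mem hxN) (‹N.Normal›.conj_mem x hxN v⁻¹)
  have hpow : ∀ m : ℕ, conjA (x ^ m) g = conjA (u ^ m) g := by
    intro m
    induction m with
    | zero => simp
    | succ m ih =>
      rw [pow_succ', conjA_mul_left, ih, hcom _ ((cz R).pow_mem hu m), ← hug, ← conjA_mul_left,
        ← pow_succ]
  have hmem : u ∈ pairStab L g := by
    refine mem_of_pow_mem (a := orderOf x) (b := p ^ n)
      ((hp.coprime_iff_not_dvd.2 hxp).symm.pow_right n) ⟨?_, ?_⟩ ⟨?_, ?_⟩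
    · exact Subgroup.pow_mem _ (hCN hu) _
    · rw [← hpow, pow_orderOf_eq_one, conjA_one_left]
    · exact Subgroup.pow_mem _ (hCN hu) _
    · exact hg.fixed _ ⟨(cz R).pow_mem hu _, hN ▸ pow_index_mem_of_normal N u⟩
  rw [← hug]
  exact hmem.2

end Algebra

variable {p : ℕ} {M : Ideal AlgInt} [M.IsMaximal] {G : Type*} [Group G] [Fintype G]
  [Fact p.Prime] {B : Set (IrrCharacter G)} {N : Subgroup G} [N.Normal] [Fintype N]
  {c : Set (IrrCharacter N)}

theorem eA_eq_of_coeff (hM : IsPModular p M)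
    (hBc : ∀ g : G, blockCoeff B g = subgroupBlockCoeff N c g) : eA hM N c = eG hM B :=
  congrArg (redFun hM) (funext fun g => (hBc g).symm)

theorem nilpotent_of_nilpotent_normal (hM : IsPModular p M) {n : ℕ} (hN : N.index = p ^ n)
    (hB : IsPBlock M B) (hBc : ∀ g : G, blockCoeff B g = subgroupBlockCoeff N c g)
    (hnil : IsNilpotentBlock p M c) : IsNilpotentBlock p M B := by
  let _ : ∀ H : Subgroup G, Fintype H := fun H => Fintype.ofFinite H
  have := charP_res hM
  have hp : p.Prime := Fact.out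
  refine ⟨hB, fun Q e hQe x hxQ hxe hxr => ?_⟩
  obtain ⟨he, -, hOQ⟩ := (isBrauerPairOf_iff hM B Q e).1 hQe
  have hxN : x ∈ N := by
    refine mem_of_pow_mem (a := orderOf x) (b := p ^ n)
      ((hp.coprime_iff_not_dvd.2 hxr).symm.pow_right n) ?_ (hN ▸ pow_index_mem_of_normal N x)
    rw [pow_orderOf_eq_one]; exact N.one_mem
  have hQn : Q ≤ Subgroup.normalizer ((Q ⊓ N : Subgroup G) : Set G) := fun q hq =>
    Fusion.mem_normalizer_of_forall fun y hy =>
      ⟨Q.mul_mem (Q.mul_mem hq hy.1) (Q.inv_mem hq), ‹N.Normal›.conj_mem y hy.2 q⟩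
  have hxR : x ∈ Subgroup.normalizer ((Q ⊓ N : Subgroup G) : Set G) :=
    Fusion.mem_normalizer_of_forall fun y hy =>
      ⟨(Subgroup.mem_normalizer_iff.1 hxQ y).1 hy.1, ‹N.Normal›.conj_mem y hy.2 x⟩
  set R := Q ⊓ N with hR
  have hb := isBlockIdem_eG hM hB
  obtain ⟨a, ha⟩ := exists_normalSub (hasBlocks hM) (inf_le_left : R ≤ Q) hQn hOQ.pgroup
    (isBlockIdem_eA hM he)
  have hxa : conjA x a = a := by
    refine normalSub_unique (Q := R) ?_ ha
    have h := ha.conj x
    have he' : conjPair x (Q, eA hM (cz Q) e) = (Q, eA hM (cz Q) e) :=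
      (conjPair_eq_iff hxQ).2
        ((stabilizesBlock_iff_conjA hM (normalizer_le_normalizer_cz Q hxQ) he).1 hxe)
    have hR' : conjPair x (R, a) = (R, conjA x a) := Prod.ext (map_conj_eq_self hxR) rfl
    rwa [he', hR'] at h
  have hcov : brMap (ResK M) R (eG hM B) * a = a :=
    (brMap_cover_iff (Relation.ReflTransGen.single ha) hb.fixed hb.idem).2 hOQ.cover
  have hbN : eG hM B ∈ suppAlg (ResK M) N := by
    rw [← eA_eq_of_coeff hM hBc, ← inclA_eG]
    exact inclA_mem_suppAlg _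
  have hfixR : eG hM B ∈ fixAlg (ResK M) R := fixAlg_anti le_top hb.fixed
  have hsupp : brMap (ResK M) R (eG hM B) ∈ suppAlg (ResK M) (cz R ⊓ N) := by
    intro y hy
    refine ⟨brMap_mem_suppAlg R _ y hy, not_not.1 fun hyN => hy ?_⟩
    by_cases hyc : y ∈ cz R
    · rw [coeff_brMap_of_mem _ hyc]; exact coeff_eq_zero_of_mem_suppAlg hbN hyN
    · exact coeff_brMap_of_notMem _ hyc
  obtain ⟨g, hg, hβg, hxg⟩ := exists_fixed_block_below (hasBlocks hM) hN ha.block_left
    (by rw [← brMap_mul ha.pgroup_left hfixR hfixR, hb.idem])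
    hsupp (fixAlg_anti inf_le_left
      (brMap_mem_fixAlg (cz_le_normalizer R) (fixAlg_anti le_top hb.fixed))) hcov hxN hxR hxa hxr
  -- transfer to `N`
  set R' := R.subgroupOf N with hR'def
  have hczR : (cz R ⊓ N).subgroupOf N = cz R' := by
    rw [cz_subgroupOf_eq (inf_le_right : R ≤ N)]
    ext y
    exact ⟨fun h => h.1, fun h => ⟨h, y.2⟩⟩
  have hgN : inclA (ResK M) N (restrA (ResK M) N g) = g := inclA_restrA fun y hy => (hg.supp y hy).2
  have hgblock : IsBlockIdem (cz R') (restrA (ResK M) N g) := hczR ▸ hg.restr inf_le_right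
  obtain ⟨g', hg', hge⟩ := exists_eA_eq hM hgblock
  have hpairN : IsBrauerPairOf p M c R' g' := by
    refine (isBrauerPairOf_iff hM c R' g').2 ⟨hg', hnil.1, ha.pgroup_left.comap_subtype, bot_le,
      le_top, isBlockIdem_eA hM hg', inclA_injective N ?_⟩
    rw [hge, map_mul, inclA_brMap, inclA_eG, hgN, eA_eq_of_coeff hM hBc, hR'def,
      Subgroup.map_subgroupOf_eq_of_le (inf_le_right : R ≤ N)]
    exact hβg
  have hxR'N : (⟨x, hxN⟩ : N) ∈ Subgroup.normalizer (R' : Set N) :=
    Subgroup.mem_normalizer_iff.2 fun y => by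
      simp only [hR'def, Subgroup.mem_subgroupOf, Subgroup.coe_mul, Subgroup.coe_inv]
      exact Subgroup.mem_normalizer_iff.1 hxR (y : G)
  have hxg' : conjA (⟨x, hxN⟩ : N) (eA hM (cz R') g') = eA hM (cz R') g' := by
    apply inclA_injective N
    rw [← conjA_inclA, hge, hgN]
    exact hxg
  have hkey := hnil.2 R' g' hpairN ⟨x, hxN⟩ hxR'N
    ((stabilizesBlock_iff_conjA hM (normalizer_le_normalizer_cz R' hxR'N) hg').2 hxg')
    (by unfold IsPRegular at hxr ⊢; rwa [← Subgroup.orderOf_coe])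
  -- `x` centralises `Q ∩ N` and `Q / (Q ∩ N)`
  refine mem_cz.2 fun q hq => ?_
  set r := q⁻¹ * (x * q * x⁻¹) with hr
  have hrR : r ∈ R := by
    refine ⟨Q.mul_mem (Q.inv_mem hq) ((Subgroup.mem_normalizer_iff.1 hxQ q).1 hq), ?_⟩
    rw [show r = (q⁻¹ * x * q⁻¹⁻¹) * x⁻¹ by rw [hr]; group]
    exact N.mul_mem (‹N.Normal›.conj_mem x hxN q⁻¹) (N.inv_mem hxN)
  have hxr' : x * r * x⁻¹ = r := by
    have h1 : r * x = x * r := congrArg Subtype.val
      (mem_cz.1 hkey (⟨r, hrR.2⟩ : N) (show (⟨r, hrR.2⟩ : N) ∈ R' from hrR))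
    rw [← h1, mul_inv_cancel_right]
  have hm : ∀ m : ℕ, x ^ m * q * (x ^ m)⁻¹ = q * r ^ m := by
    intro m
    induction m with
    | zero => simp
    | succ m ih =>
      calc x ^ (m + 1) * q * (x ^ (m + 1))⁻¹ = x * (x ^ m * q * (x ^ m)⁻¹) * x⁻¹ := by
            rw [pow_succ']; group
        _ = (x * q * x⁻¹) * (x * r * x⁻¹) ^ m := by rw [ih, conj_pow]; group
        _ = _ := by rw [hxr', show x * q * x⁻¹ = q * r by rw [hr, mul_inv_cancel_left],
                        pow_succ', mul_assoc]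
  have h1 := hm (orderOf x)
  rw [pow_orderOf_eq_one, one_mul, inv_one, mul_one] at h1
  obtain ⟨m, hm'⟩ := ha.pgroup_left ⟨r, hrR⟩
  have h2 : r ^ p ^ m = 1 := congrArg Subtype.val hm'
  have h3 : r ^ orderOf x = 1 := left_eq_mul.1 h1
  have h4 := pow_gcd_eq_one.2 ⟨h2, h3⟩
  rw [Nat.Coprime.gcd_eq_one (((Fact.out : p.Prime).coprime_iff_not_dvd.2 hxr).pow_left m),
    pow_one] at h4
  have h5 : x * q * x⁻¹ = q := by
    have h6 : q * r = q := by rw [h4, mul_one]
    rwa [hr, mul_inv_cancel_left] at h6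
  exact (mul_inv_eq_iff_eq_mul.1 h5).symm

theorem nilpotent_normal_of_nilpotent (hM : IsPModular p M) {n : ℕ} (hN : N.index = p ^ n)
    (hc : IsPBlock M c)
    (hBc : ∀ g : G, blockCoeff B g = subgroupBlockCoeff N c g)
    (hnil : IsNilpotentBlock p M B) : IsNilpotentBlock p M c := by
  let _ : ∀ H : Subgroup G, Fintype H := fun H => Fintype.ofFinite H
  have := charP_res hM
  refine ⟨hc, fun R g hRg x hxR hxg hxr => ?_⟩
  obtain ⟨hg, -, hOR⟩ := (isBrauerPairOf_iff hM c R g).1 hRg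
  set R' := R.map N.subtype with hR'
  set h := inclA (ResK M) N (eA hM (cz R) g) with hh
  have hhb : IsBlockIdem (cz R' ⊓ N) h := by
    have := (isBlockIdem_eA hM hg).inclA_map
    rwa [cz_map_subtype] at this
  obtain ⟨s, hs, hsum⟩ := hasBlocks hM (G := G) (cz R')
  obtain ⟨a, has, hah⟩ : ∃ a ∈ s, a * h ≠ 0 := by
    by_contra hcon
    simp only [not_exists, not_and, not_not] at hcon
    exact hhb.ne_zero (by rw [← one_mul h, ← hsum, Finset.sum_mul]; exact Finset.sum_eq_zero hcon)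
  have ha := hs a has
  have hb := isBlockIdem_eG hM hnil.1
  have hfixR : eG hM B ∈ fixAlg (ResK M) R' := fixAlg_anti le_top hb.fixed
  have hhcov : brMap (ResK M) R' (eG hM B) * h = h := by
    rw [← eA_eq_of_coeff hM hBc, ← inclA_eG, hR', ← inclA_brMap, hh, ← map_mul, hOR.cover]
  have hcov : brMap (ResK M) R' (eG hM B) * a = a := by
    refine (ha.mul_idem (brMap_mem_suppAlg R' _)
      (brMap_mem_fixAlg (cz_le_normalizer R') (fixAlg_anti le_top hb.fixed))
      (by rw [← brMap_mul (hOR.pgroup.map _) hfixR hfixR, hb.idem])).resolve_left fun h0 => hah ?_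
    calc a * h = a * brMap (ResK M) R' (eG hM B) * h := by rw [mul_assoc, hhcov]
      _ = 0 := by rw [← (commute_of_supp_fix (brMap_mem_suppAlg R' _) ha.fixed).eq, h0, zero_mul]
  obtain ⟨a', ha', hae⟩ := exists_eA_eq hM ha
  have hpair : IsBrauerPairOf p M B R' a' := (isBrauerPairOf_iff hM B R' a').2
    ⟨ha', hnil.1, hOR.pgroup.map _, bot_le, le_top, isBlockIdem_eA hM ha', by rw [hae]; exact hcov⟩
  have hxR' : (x : G) ∈ Subgroup.normalizer (R' : Set G) := by
    refine Fusion.mem_normalizer_of_forall ?_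
    rintro _ ⟨r, hr, rfl⟩
    exact ⟨x * r * x⁻¹, (Subgroup.mem_normalizer_iff.1 hxR r).1 hr, rfl⟩
  have hxh : conjA (x : G) h = h := by
    rw [hh, conjA_inclA,
      (stabilizesBlock_iff_conjA hM (normalizer_le_normalizer_cz R hxR) hg).1 hxg]
  have hxa : conjA (x : G) a = a := by
    have hxb : IsBlockIdem (cz R') (conjA (x : G) a) := by
      have := ha.conjA (x : G)
      rwa [map_conj_eq_self (normalizer_le_normalizer_cz R' hxR')] at this
    have hasupp : a ∈ suppAlg (ResK M) (cz R' ⊓ N) := by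
      intro y hy
      refine ⟨ha.supp y hy, not_not.1 fun hyN => hy ?_⟩
      have hyc : y ∈ cz R' := ha.supp y hy
      have hsing : p ∣ orderOf y := by
        by_contra hreg
        refine hyN (mem_of_pow_mem (a := orderOf y) (b := p ^ n)
          (((Fact.out : p.Prime).coprime_iff_not_dvd.2 hreg).symm.pow_right n) ?_
          (hN ▸ pow_index_mem_of_normal N y))
        rw [pow_orderOf_eq_one]; exact N.one_mem
      have h0 : subgroupBlockCoeff (cz R') a' y = 0 :=
        (subgroupBlockCoeff_coe (cz R') a' ⟨y, hyc⟩).trans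
          (Blocks.blockCoeff_eq_zero_of_singular hM ha' (Subgroup.orderOf_coe (⟨y, hyc⟩ : cz R') ▸ hsing))
      rw [← hae, eA, coeff_redFun (h := by rw [h0]; exact Subring.zero_mem _)]
      simp only [h0]
      exact map_zero (resK hM)
    have hah' : a * h = h :=
      (hhb.mul_idem hasupp (fixAlg_anti inf_le_left ha.fixed) ha.idem).resolve_left hah
    refine (hxb.eq_of_mul_ne_zero ha fun h0 => hhb.ne_zero ?_)
    have h1 : conjA (x : G) a * h = h := by
      conv_lhs => rw [← hxh, ← conjA_mul, hah', hxh]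
    calc h = conjA (x : G) a * (a * h) := by rw [hah', h1]
      _ = 0 := by rw [← mul_assoc, h0, zero_mul]
  have key := hnil.2 R' a' hpair x hxR'
    ((stabilizesBlock_iff_conjA hM (normalizer_le_normalizer_cz R' hxR') ha').2 (hae ▸ hxa))
    (by unfold IsPRegular at hxr ⊢; rwa [Subgroup.orderOf_coe])
  exact mem_cz.2 fun r hr => Subtype.ext (mem_cz.1 key r ⟨r, hr, rfl⟩)

end CfsgLib.BrauerPairs
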