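import Cfsg.Agent.Lib.BrauerPairs.Deficiency
import Cfsg.Agent.Lib.BrauerPairs.PPowerIndex
import Cfsg.Agent.Lib.Blocks.BlockParts
import Cfsg.Agent.Lib.BlockCover.Basic

/-!
# Induction from a subgroup containing the centraliser of a defect group
-/

set_option autoImplicit false
set_option linter.style.haveILetI false
set_option linter.unusedSectionVars false

namespace CfsgLib.BrauerPairs

open Cfsg MonoidAlgebra

variable {p : ℕ} {M : Ideal AlgInt} [M.IsMaximal] {G : Type*} [Group G] [Fintype G] [Fact p.Prime]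
  {H : Subgroup G}

theorem nilpotent_brMap_mul {K : Subgroup G} (hK : IsPGroup p K) {x b e : MonoidAlgebra (ResK M) G}
    {l : ResK M} (hx : x ∈ fixAlg (ResK M) ⊤) (hb : b ∈ fixAlg (ResK M) ⊤)
    (he : IsBlockIdem (cz K) e) (hcov : brMap (ResK M) K b * e = e)
    (hn : IsNilpotent (x * b - l • b)) (hM : IsPModular p M) :
    IsNilpotent (brMap (ResK M) K x * e - l • e) := by
  have := charP_res hM
  obtain ⟨n, hn⟩ := hn
  have hxK : x ∈ fixAlg (ResK M) K := fixAlg_anti le_top hx
  have hbK : b ∈ fixAlg (ResK M) K := fixAlg_anti le_top hb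
  have h1 : IsNilpotent (brMap (ResK M) K (x * b - l • b)) := ⟨n, by
    rw [← brMap_pow hK (sub_mem (mul_mem hxK hbK) ((fixAlg (ResK M) K).smul_mem hbK l)), hn,
      map_zero]⟩
  have hfix : x * b - l • b ∈ fixAlg (ResK M) (⊤ : Subgroup G) :=
    sub_mem (mul_mem hx hb) ((fixAlg (ResK M) ⊤).smul_mem hb l)
  have hcomm : Commute (brMap (ResK M) K (x * b - l • b)) e :=
    (commute_of_supp_fix he.supp
      (brMap_mem_fixAlg (cz_le_normalizer K) (fixAlg_anti le_top hfix))).symm
  have h2 := hcomm.isNilpotent_mul_right h1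
  rwa [map_sub, map_smul, brMap_mul hK hxK hbK, sub_mul, smul_mul_assoc, mul_assoc, hcov] at h2

/-- A pair under a block of a subgroup `H ≥ C(D)` and under a block of `G` gives induction. -/
theorem isInducedBlock_of_pair (hM : IsPModular p M) [Fintype H] {b : Set (IrrCharacter H)}
    (hb : IsPBlock M b) {B : Set (IrrCharacter G)} (hB : IsPBlock M B) {D : Subgroup H}
    (hDp : IsPGroup p D) {e : MonoidAlgebra (ResK M) H} (he : IsBlockIdem (cz D) e)
    (hC : cz (D.map H.subtype) ≤ H)
    (hcovb : brMap (ResK M) D (eG hM b) * e = e)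
    (hcovB : brMap (ResK M) (D.map H.subtype) (eG hM B) * inclA (ResK M) H e =
      inclA (ResK M) H e) : IsInducedBlock M H b B := by
  classical
  have := charP_res hM
  obtain ⟨ξ, hξ⟩ := Blocks.IsPBlock.nonempty hM hb
  obtain ⟨χ, hχ⟩ := Blocks.IsPBlock.nonempty hM hB
  refine Blocks.isInducedBlock_of_forall hM hb hB hξ hχ fun g => ?_
  let c : G → ℂ := fun y => if IsConj g y then 1 else 0
  let cH : H → ℂ := fun y => c (y : G)
  have hc : ∀ y, c y ∈ Blocks.lRing hM := fun y => by
    simp only [c]; split_ifs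
    · exact Subring.one_mem _
    · exact Subring.zero_mem _
  have hcl : ∀ x y, c (x * y * x⁻¹) = c y := fun x y => by
    simp only [c, Blocks.isConj_conj_iff]
  have hclH : ∀ x y : H, cH (x * y * x⁻¹) = cH y := fun x y => by
    simp only [cH, Subgroup.coe_mul, Subgroup.coe_inv, hcl]
  have hcH : ∀ y : H, cH y ∈ Blocks.lRing hM := fun y => hc _
  have hl : (∑ᶠ x : G, c x * (χ : G → ℂ) x / (χ : G → ℂ) 1) = centralChar (χ : G → ℂ) g := by
    rw [omega_sum_eq, ← Blocks.omega_classSum (Characters.irr_isClassFunction χ) g]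
    refine congrArg _ ?_
    ext y
    rw [Blocks.coeff_ofFun, Blocks.coeff_classSum]
    simp only [c]
    split_ifs <;> rfl
  have hl' : (∑ᶠ x : H, cH x * (ξ : H → ℂ) x / (ξ : H → ℂ) 1) =
      inducedCentralChar H (ξ : H → ℂ) g := by
    rw [BlockCover.inducedCentralChar_eq_sum, finsum_eq_sum_of_fintype, Finset.sum_div]
  have h1 := nilpotent_sub hM hB hχ hc hcl
  have h2 := nilpotent_sub hM hb hξ hcH hclH
  set l := resK hM ⟨_, omega_sum_mem hM χ hc hcl⟩ with hldef
  set l' := resK hM ⟨_, omega_sum_mem hM ξ hcH hclH⟩ with hl'def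
  have hfixG : redFun hM c ∈ fixAlg (ResK M) (⊤ : Subgroup G) :=
    mem_fixAlg_iff_coeff.2 fun u _ x => by
      rw [coeff_redFun hM (hc _), coeff_redFun hM (hc x)]
      exact congrArg _ (Subtype.ext (hcl u x))
  have hfixH : redFun hM cH ∈ fixAlg (ResK M) (⊤ : Subgroup H) :=
    mem_fixAlg_iff_coeff.2 fun u _ x => by
      rw [coeff_redFun hM (hcH _), coeff_redFun hM (hcH x)]
      exact congrArg _ (Subtype.ext (hclH u x))
  have heG : IsBlockIdem (cz (D.map H.subtype)) (inclA (ResK M) H e) := by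
    have := he.inclA_map
    rwa [cz_map_subtype, inf_eq_left.2 hC] at this
  have n1 := nilpotent_brMap_mul (hDp.map H.subtype) hfixG (isBlockIdem_eG hM hB).fixed heG hcovB h1 hM
  have n2 := (nilpotent_brMap_mul hDp hfixH (isBlockIdem_eG hM hb).fixed he hcovb h2 hM).map
    (inclA (ResK M) H)
  have heq : inclA (ResK M) H (brMap (ResK M) D (redFun hM cH)) =
      brMap (ResK M) (D.map H.subtype) (redFun hM c) := by
    rw [inclA_brMap]
    ext x
    by_cases hx : x ∈ cz (D.map H.subtype)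
    · rw [coeff_brMap_of_mem _ hx, coeff_brMap_of_mem _ hx,
        show (inclA (ResK M) H (redFun hM cH)).coeff x = _ from coeff_inclA _ ⟨x, hC hx⟩]
      exact coeff_redFun_congr hM rfl
    · rw [coeff_brMap_of_notMem _ hx, coeff_brMap_of_notMem _ hx]
  rw [map_sub, map_mul, map_smul, heq] at n2
  set X := brMap (ResK M) (D.map H.subtype) (redFun hM c) * inclA (ResK M) H e with hX
  set E := inclA (ResK M) H e with hE
  have hll : l' = l := by
    have hcomm : Commute (X - l • E) (X - l' • E) := by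
      have hXE : Commute X E := (commute_of_supp_fix heG.supp
        (mul_mem (brMap_mem_fixAlg (cz_le_normalizer _) (fixAlg_anti le_top hfixG)) heG.fixed)).symm
      exact ((Commute.refl X).sub_right (hXE.smul_right _)).sub_left
        ((hXE.symm.smul_left _).sub_right (((Commute.refl E).smul_left _).smul_right _))
    have h3 := hcomm.isNilpotent_sub n1 n2
    rw [sub_sub_sub_cancel_left, ← sub_smul] at h3
    by_contra hne
    have h4 := h3.smul (l' - l)⁻¹
    rw [smul_smul, inv_mul_cancel₀ (sub_ne_zero.2 hne), one_smul] at h4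
    exact heG.ne_zero (eq_zero_of_nilpotent_idem h4 heG.idem)
  rw [← hl, ← hl']
  exact (resK_eq_iff hM ⟨_, omega_sum_mem hM ξ hcH hclH⟩ ⟨_, omega_sum_mem hM χ hc hcl⟩).1 hll

/-- Induction from `H ≥ C(D₀)`: definedness and defect groups. -/
theorem induced_from_centric (hM : IsPModular p M) [Fintype H] {b : Set (IrrCharacter H)}
    (hb : IsPBlock M b) {D₀ : Subgroup H} (hD₀ : IsDefectGroup p M b D₀)
    (hC : cz (D₀.map H.subtype) ≤ H) :
    InducedBlockDefined M H b ∧ ∀ B : Set (IrrCharacter G), IsInducedBlock M H b B →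
      ∃ D, IsDefectGroup p M B D ∧ D₀.map H.subtype ≤ D ∧
        D ⊓ cz (D₀.map H.subtype) ≤ D₀.map H.subtype := by
  classical
  let _ : ∀ K : Subgroup G, Fintype K := fun K => Fintype.ofFinite K
  let _ : ∀ K : Subgroup H, Fintype K := fun K => Fintype.ofFinite K
  have := charP_res hM
  have hd := (isDefectGroup_iff hM hb D₀).1 hD₀
  have hbb := isBlockIdem_eG hM hb
  have hfixD : eG hM b ∈ fixAlg (ResK M) D₀ := fixAlg_anti le_top hbb.fixed
  obtain ⟨h, hh, hcovb⟩ := exists_block_le (hasBlocks hM) (brMap_mem_suppAlg D₀ (eG hM b))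
    (brMap_mem_fixAlg (cz_le_normalizer D₀) (fixAlg_anti le_top hbb.fixed))
    (by rw [← brMap_mul hd.pgroup hfixD hfixD, hbb.idem]) hd.br_ne
  obtain ⟨e, he, rfl⟩ := exists_eA_eq hM hh
  set Q := D₀.map H.subtype with hQ
  have hQp : IsPGroup p Q := hd.pgroup.map _
  have heG : IsBlockIdem (cz Q) (inclA (ResK M) H (eA hM (cz D₀) e)) := by
    have := hh.inclA_map
    rwa [cz_map_subtype, inf_eq_left.2 hC] at this
  obtain ⟨e', he', hee⟩ := exists_eA_eq hM heG
  obtain ⟨B, hB, -, hcovB⟩ := exists_block_above hM hQp he'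
  have hind : IsInducedBlock M H b B :=
    isInducedBlock_of_pair hM hb hB hd.pgroup hh hC hcovb (by rw [← hee]; exact hcovB)
  refine ⟨⟨B, hind⟩, fun B' hB' => ?_⟩
  obtain rfl : B' = B := Blocks.IsInducedBlock.unique hM hB' hind
  have hbB := isBlockIdem_eG hM hB
  obtain ⟨D, h', hD, hover, hle⟩ := (brSetup_block (p := p) hM hB).exists_le_defect (hasBlocks hM)
    (⟨hQp, bot_le, le_top, isBlockIdem_eA hM he', hcovB⟩ :
      OverPair p (⊥ : Subgroup G) (eG hM B') ⊤ Q (eA hM (cz Q) e'))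
  refine ⟨D, (isDefectGroup_iff hM hB D).2 hD, hle.le, ?_⟩
  obtain ⟨eD, heD, rfl⟩ := exists_eA_eq hM hover.block
  obtain ⟨R, hR, hRle⟩ := centralizer_le_defect hM hover.pgroup heD he' ((subpairLE_iff hM he' heD).2 hle)
  -- the defect groups of `e'` are no larger than the centre of `D₀`
  have hpair : IsBrauerPairOf p M b D₀ e := (isBrauerPairOf_iff hM b D₀ e).2
    ⟨he, hb, hd.pgroup, bot_le, le_top, hh, hcovb⟩
  have hmax : IsMaximalBrauerPair p M b D₀ e := (isMaximalBrauerPair_iff hM b D₀ e).2 ⟨hpair, hd⟩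
  obtain ⟨x, hx, -, hxc⟩ := exists_conj_centralizer_eq hM hmax he
    ((subpairLE_iff hM he he).2 Relation.ReflTransGen.refl)
  have hx' : D₀.map (MulAut.conj x).toMonoidHom = D₀ :=
    Subgroup.eq_of_le_of_card_ge (pairLE_of_subpairLE hM hx).le
      (Subgroup.card_map_of_injective (MulAut.conj x).injective).ge
  rw [hx'] at hxc
  have hRd := (isDefectGroup_iff hM he' R).1 hR
  set S := R.map (cz Q).subtype with hS
  have hSH : S ≤ H := (Subgroup.map_subtype_le R).trans hC
  set SH := S.subgroupOf H with hSHdef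
  have hSHmap : SH.map H.subtype = S := Subgroup.map_subgroupOf_eq_of_le hSH
  have hSHC : SH ≤ cz D₀ := by
    intro s hs
    refine mem_cz.2 fun d hd' => Subtype.ext ?_
    exact mem_cz.1 (Subgroup.map_subtype_le R hs) (d : G) ⟨d, hd', rfl⟩
  set SC := SH.subgroupOf (cz D₀) with hSC
  have hSCmap : SC.map (cz D₀).subtype = SH := Subgroup.map_subgroupOf_eq_of_le hSHC
  have hne : brMap (ResK M) SC (eG hM e) ≠ 0 := by
    intro h0
    apply hRd.br_ne
    apply inclA_injective (cz Q)
    rw [inclA_brMap, inclA_eG, map_zero, ← hS, hee, ← hSHmap, ← inclA_brMap, ← hSCmap,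
      ← inclA_eG, ← inclA_brMap, h0, map_zero, map_zero]
  have hSCp : IsPGroup p SC := ((hRd.pgroup.map _).comap_subtype).comap_subtype
  obtain ⟨R₂, hR₂, hR₂le⟩ := exists_defectGroup_ge hM he hSCp hne
  have hcardR : Nat.card R ≤ Nat.card ↥(D₀ ⊓ cz D₀) := by
    rw [← hxc R₂ hR₂]
    refine le_of_eq_of_le ?_ (Subgroup.card_le_of_le hR₂le)
    rw [← Subgroup.card_map_of_injective (cz D₀).subtype_injective (K := SC), hSCmap,
      ← Subgroup.card_map_of_injective H.subtype_injective (K := SH), hSHmap, hS,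
      Subgroup.card_map_of_injective (cz Q).subtype_injective]
  have hle1 : (D₀ ⊓ cz D₀).map H.subtype ≤ D ⊓ cz Q := by
    rintro _ ⟨z, ⟨hz1, hz2⟩, rfl⟩
    refine ⟨hle.le ⟨z, hz1, rfl⟩, mem_cz.2 ?_⟩
    rintro _ ⟨d, hd', rfl⟩
    exact congrArg Subtype.val (mem_cz.1 hz2 d hd')
  have heq : (D₀ ⊓ cz D₀).map H.subtype = D ⊓ cz Q := by
    refine Subgroup.eq_of_le_of_card_ge hle1 ?_
    rw [Subgroup.card_map_of_injective H.subtype_injective]
    refine le_trans ?_ hcardR
    rw [← Nat.card_congr (Subgroup.subgroupOfEquivOfLe (inf_le_right : D ⊓ cz Q ≤ cz Q)).toEquiv]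
    exact Subgroup.card_le_of_le hRle
  rw [← heq]
  exact Subgroup.map_mono inf_le_left

end CfsgLib.BrauerPairs
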