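import Cfsg.Agent.Lib.BrauerPairs.NormalSubgroup
import Cfsg.Agent.Lib.BrauerPairs.InducedFromCentric
import Cfsg.Agent.Lib.BrauerPairs.Inside

/-!
# Covering blocks through the normalizer of a defect group (Harris–Knörr)

`d` is a block of `N ⊴ G` with defect group `Q`, `H = N_G(Q)` and `e` is the Brauer correspondent of
`d` in `H ∩ N`.  The idempotent of `e` is the Brauer image at `Q` of that of `d`; covering is read
off from products of idempotents, induction from `H` from the Brauer map at `Q`.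
-/

set_option autoImplicit false
set_option linter.style.haveILetI false
set_option linter.unusedSectionVars false

namespace CfsgLib.BrauerPairs.HarrisKnorr

open Cfsg MonoidAlgebra

variable {p : ℕ} {M : Ideal AlgInt} [M.IsMaximal] {G : Type*} [Group G] [Fintype G] [Fact p.Prime]

/-- A block of `H ≥ P C(P)` under the Brauer image of `B` at `P` induces `B`. -/
theorem isInducedBlock_of_brMap (hM : IsPModular p M) {H P : Subgroup G} [Fintype H]
    (hP : IsPGroup p P) (hPH : P ≤ H) (hC : cz P ≤ H) {c : Set (IrrCharacter H)}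
    (hc : IsPBlock M c) {B : Set (IrrCharacter G)} (hB : IsPBlock M B)
    (hne : brMap (ResK M) P (eA hM H c) ≠ 0)
    (hcov : brMap (ResK M) P (eG hM B) * brMap (ResK M) P (eA hM H c) =
      brMap (ResK M) P (eA hM H c)) : IsInducedBlock M H c B := by
  have := charP_res hM
  have hmap : (P.subgroupOf H).map H.subtype = P := Subgroup.map_subgroupOf_eq_of_le hPH
  have hincl : inclA (ResK M) H (brMap (ResK M) (P.subgroupOf H) (eG hM c)) =
      brMap (ResK M) P (eA hM H c) := by rw [inclA_brMap, hmap, inclA_eG]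
  have hbc := isBlockIdem_eG hM hc
  have hPp : IsPGroup p (P.subgroupOf H) := hP.comap_subtype
  have hfix : eG hM c ∈ fixAlg (ResK M) (P.subgroupOf H) := fixAlg_anti le_top hbc.fixed
  obtain ⟨e, he, hcovb⟩ := exists_block_le (hasBlocks hM)
    (brMap_mem_suppAlg (P.subgroupOf H) (eG hM c))
    (brMap_mem_fixAlg (cz_le_normalizer _) (fixAlg_anti le_top hbc.fixed))
    (by rw [← brMap_mul hPp hfix hfix, hbc.idem])
    (fun h => hne (by rw [← hincl, h, map_zero]))
  refine isInducedBlock_of_pair hM hc hB hPp he (by rwa [hmap]) hcovb ?_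
  rw [hmap]
  conv_lhs => rw [← hcovb, map_mul, hincl, ← mul_assoc, hcov, ← hincl, ← map_mul, hcovb]

variable {Q : Subgroup G}

theorem mem_normalizer_of_conj_mem {t : G} (h : ∀ q ∈ Q, t * q * t⁻¹ ∈ Q) :
    t ∈ Subgroup.normalizer (Q : Set G) := by
  have heq : Q.map (MulAut.conj t).toMonoidHom = Q := by
    refine Subgroup.eq_of_le_of_card_ge ?_
      (Subgroup.card_map_of_injective (MulAut.conj t).injective).ge
    rintro _ ⟨q, hq, rfl⟩
    exact h q hq
  refine Subgroup.mem_normalizer_iff.2 fun q => ⟨h q, fun hq => ?_⟩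
  rw [← heq] at hq
  obtain ⟨r, hr, hrq⟩ := hq
  have h1 : t * r * t⁻¹ = t * q * t⁻¹ := hrq
  rwa [← mul_left_cancel (mul_right_cancel h1)]

section Normalizer

/-- Blocks of `N_G(Q)` are fixed by the Brauer map at `Q`. -/
theorem brMap_eA_self (hM : IsPModular p M) (hQ : IsPGroup p Q)
    {c : Set (IrrCharacter ↥(Subgroup.normalizer (Q : Set G)))} (hc : IsPBlock M c) :
    brMap (ResK M) Q (eA hM (Subgroup.normalizer (Q : Set G)) c) =
      eA hM (Subgroup.normalizer (Q : Set G)) c := by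
  have := charP_res hM
  have hb := isBlockIdem_eA hM hc
  exact brMap_idem_eq hQ le_rfl Subgroup.le_normalizer (cz_le_normalizer Q) hb.supp hb.fixed hb.idem

theorem isInducedBlock_of_mul_eq (hM : IsPModular p M) (hQ : IsPGroup p Q)
    [Fintype ↥(Subgroup.normalizer (Q : Set G))]
    {c : Set (IrrCharacter ↥(Subgroup.normalizer (Q : Set G)))} (hc : IsPBlock M c)
    {B : Set (IrrCharacter G)} (hB : IsPBlock M B)
    (h : brMap (ResK M) Q (eG hM B) * eA hM (Subgroup.normalizer (Q : Set G)) c =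
      eA hM (Subgroup.normalizer (Q : Set G)) c) :
    IsInducedBlock M (Subgroup.normalizer (Q : Set G)) c B := by
  refine isInducedBlock_of_brMap hM hQ Subgroup.le_normalizer (cz_le_normalizer Q) hc hB ?_ ?_
  · rw [brMap_eA_self hM hQ hc]; exact (isBlockIdem_eA hM hc).ne_zero
  · rw [brMap_eA_self hM hQ hc, h]

/-- The idempotent of a block of `N_G(Q)` lies under or is killed by a central Brauer image. -/
theorem brMap_mul_cases (hM : IsPModular p M) (hQ : IsPGroup p Q)
    {c : Set (IrrCharacter ↥(Subgroup.normalizer (Q : Set G)))} (hc : IsPBlock M c)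
    {B : Set (IrrCharacter G)} (hB : IsPBlock M B) :
    brMap (ResK M) Q (eG hM B) * eA hM (Subgroup.normalizer (Q : Set G)) c = 0 ∨
      brMap (ResK M) Q (eG hM B) * eA hM (Subgroup.normalizer (Q : Set G)) c =
        eA hM (Subgroup.normalizer (Q : Set G)) c := by
  have := charP_res hM
  have hb := isBlockIdem_eG hM hB
  refine (isBlockIdem_eA hM hc).mul_idem
    (suppAlg_mono (cz_le_normalizer Q) (brMap_mem_suppAlg Q _))
    (brMap_mem_fixAlg le_rfl (fixAlg_anti le_top hb.fixed)) ?_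
  rw [← brMap_mul hQ (fixAlg_anti le_top hb.fixed) (fixAlg_anti le_top hb.fixed), hb.idem]

theorem exists_block_over (hM : IsPModular p M) (hQ : IsPGroup p Q)
    {c : Set (IrrCharacter ↥(Subgroup.normalizer (Q : Set G)))} (hc : IsPBlock M c) :
    ∃ B : Set (IrrCharacter G), IsPBlock M B ∧
      brMap (ResK M) Q (eG hM B) * eA hM (Subgroup.normalizer (Q : Set G)) c =
        eA hM (Subgroup.normalizer (Q : Set G)) c := by
  obtain ⟨t, ht, htsum⟩ := exists_eG_decomp hM G
  by_contra hcon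
  simp only [not_exists, not_and] at hcon
  refine (isBlockIdem_eA hM hc).ne_zero ?_
  rw [← one_mul (eA hM (Subgroup.normalizer (Q : Set G)) c), ← brMap_one (k := ResK M) Q, ← htsum,
    map_sum, Finset.sum_mul]
  refine Finset.sum_eq_zero fun f hf => ?_
  obtain ⟨B, hB, rfl⟩ := ht f hf
  exact (brMap_mul_cases hM hQ hc hB).resolve_right (hcon B hB)

/-- Induction from `N_G(Q)` forces the Brauer image to lie over the block. -/
theorem mul_eq_of_isInducedBlock (hM : IsPModular p M) (hQ : IsPGroup p Q)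
    [Fintype ↥(Subgroup.normalizer (Q : Set G))]
    {c : Set (IrrCharacter ↥(Subgroup.normalizer (Q : Set G)))}
    {B : Set (IrrCharacter G)} (h : IsInducedBlock M (Subgroup.normalizer (Q : Set G)) c B) :
    brMap (ResK M) Q (eG hM B) * eA hM (Subgroup.normalizer (Q : Set G)) c =
      eA hM (Subgroup.normalizer (Q : Set G)) c := by
  obtain ⟨B₀, hB₀, h₀⟩ := exists_block_over hM hQ h.1
  rwa [Blocks.IsInducedBlock.unique hM h (isInducedBlock_of_mul_eq hM hQ h.1 hB₀ h₀)]

end Normalizer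

variable (N : Subgroup G) [N.Normal] [Fintype N]

/-- The Brauer image at `Q` of a block of `N` is its correspondent in `N_N(Q)`. -/
theorem brMap_correspondent (hM : IsPModular p M) (hQ : IsPGroup p Q) (hQN : Q ≤ N)
    {d : Set (IrrCharacter N)} (hd : IsPBlock M d)
    {e : Set (IrrCharacter ↥(Subgroup.normalizer (Q : Set G) ⊓ N))} (he : IsPBlock M e)
    (heQ : IsDefectGroup p M e (Q.subgroupOf (Subgroup.normalizer (Q : Set G) ⊓ N)))
    (hed : IsInducedBlockIn M N (Subgroup.normalizer (Q : Set G) ⊓ N) e d) :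
    brMap (ResK M) Q (eA hM N d) = eA hM (Subgroup.normalizer (Q : Set G) ⊓ N) e := by
  classical
  have := charP_res hM
  set K := (Subgroup.normalizer (Q : Set G) ⊓ N).subgroupOf N with hKdef
  let _ : Fintype K := Fintype.ofFinite _
  have hle : (Subgroup.normalizer (Q : Set G) ⊓ N) ≤ N := inf_le_right
  have hK : ∀ x : N, x ∈ K ↔ (x : G) ∈ (Subgroup.normalizer (Q : Set G) ⊓ N) := fun x => Iff.rfl
  set e' := CharCorr.twistIrr (inEquiv hle hK) '' e with he'
  have he'b : IsPBlock M e' := isPBlock_twist _ he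
  have hQL : Q ≤ (Subgroup.normalizer (Q : Set G) ⊓ N) := le_inf Subgroup.le_normalizer hQN
  set P := Q.subgroupOf N with hP
  have hPp : IsPGroup p P := hQ.comap_subtype
  have hnorm : Subgroup.normalizer (P : Set N) ≤ K := fun x hx => by
    refine ⟨mem_normalizer_of_conj_mem fun q hq => ?_, x.2⟩
    exact ((Subgroup.mem_normalizer_iff.1 hx) ⟨q, hQN hq⟩).1 hq
  have hPK : P ≤ K := Subgroup.le_normalizer.trans hnorm
  have hD : IsDefectGroup p M e' (P.subgroupOf K) := by
    have h := isDefectGroup_twist (p := p) (inEquiv hle hK) heQ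
    have heq : (Q.subgroupOf (Subgroup.normalizer (Q : Set G) ⊓ N)).map (inEquiv hle hK).symm.toMonoidHom = P.subgroupOf K := by
      ext x
      rw [Subgroup.mem_map_equiv]
      rfl
    rwa [heq] at h
  obtain ⟨d', ⟨hd', -, hcg⟩, -⟩ := exists_unique_super_block hM hPp hnorm he'b hD
  have hbr := (congr_iff_brMap hM hd' he'b).1 hcg
  have hne := brMap_ne_zero_of_defect hM hPK he'b hD
  have hCK : cz P ≤ K := (cz_le_normalizer P).trans hnorm
  have hfix : eA hM K e' ∈ fixAlg (ResK M) P := fixAlg_anti hPK (isBlockIdem_eA hM he'b).fixed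
  have hind : IsInducedBlock M K e' d' := isInducedBlock_of_brMap hM hPp hPK hCK he'b hd' hne
    (by rw [hbr, ← brMap_mul hPp hfix hfix, (isBlockIdem_eA hM he'b).idem])
  obtain rfl : d' = d := Blocks.IsInducedBlock.unique hM hind
    ((isInducedBlock_inside_iff hle hK d he).1 hed)
  have hb := isBlockIdem_eA hM he'b
  have hKn : K ≤ Subgroup.normalizer (P : Set N) := fun x hx =>
    mem_normalizer_of_conj_mem fun q hq =>
      ((Subgroup.mem_normalizer_iff.1 hx.1) (q : G)).1 hq
  rw [brMap_idem_eq hPp hKn hPK hCK hb.supp hb.fixed hb.idem] at hbr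
  have h2 := congrArg (inclA (ResK M) N) hbr
  rwa [inclA_brMap, Subgroup.map_subgroupOf_eq_of_le hQN, inclA_eG, inclA_eA hM hle hK e] at h2

/-- Covering between `N_G(Q)` and `N_N(Q)` in terms of idempotents. -/
theorem covers_iff (hM : IsPModular p M) [Fintype ↥(Subgroup.normalizer (Q : Set G) ⊓ N)]
    {c : Set (IrrCharacter ↥(Subgroup.normalizer (Q : Set G)))} (hc : IsPBlock M c)
    {e : Set (IrrCharacter ↥(Subgroup.normalizer (Q : Set G) ⊓ N))} (he : IsPBlock M e) :
    (∃ ψ ∈ c, ∃ ξ ∈ e, classInner (fun l : ↥(Subgroup.normalizer (Q : Set G) ⊓ N) =>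
        (ψ : ↥(Subgroup.normalizer (Q : Set G)) → ℂ) (Subgroup.inclusion inf_le_left l))
      (ξ : ↥(Subgroup.normalizer (Q : Set G) ⊓ N) → ℂ) ≠ 0) ↔
      eA hM (Subgroup.normalizer (Q : Set G)) c *
        eA hM (Subgroup.normalizer (Q : Set G) ⊓ N) e ≠ 0 := by
  classical
  set K := N.subgroupOf (Subgroup.normalizer (Q : Set G)) with hKdef
  let _ : Fintype (Subgroup.normalizer (Q : Set G)) := Fintype.ofFinite _
  let _ : Fintype K := Fintype.ofFinite _
  have hle : (Subgroup.normalizer (Q : Set G)) ⊓ N ≤ (Subgroup.normalizer (Q : Set G)) := inf_le_left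
  have hK : ∀ x : (Subgroup.normalizer (Q : Set G)), x ∈ K ↔ (x : G) ∈ (Subgroup.normalizer (Q : Set G)) ⊓ N := fun x => ⟨fun h => ⟨x.2, h⟩, fun h => h.2⟩
  have he' := isPBlock_twist (inEquiv hle hK) he
  have hmul : inclA (ResK M) (Subgroup.normalizer (Q : Set G)) (eG hM c * eA hM K (CharCorr.twistIrr (inEquiv hle hK) '' e)) =
      eA hM (Subgroup.normalizer (Q : Set G)) c * eA hM ((Subgroup.normalizer (Q : Set G)) ⊓ N) e := by rw [map_mul, inclA_eG, inclA_eA hM hle hK e]
  have hval : ∀ (ψ : IrrCharacter (Subgroup.normalizer (Q : Set G))) (ξ : IrrCharacter ↥((Subgroup.normalizer (Q : Set G)) ⊓ N)),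
      classInner (fun k : K => (ψ : (Subgroup.normalizer (Q : Set G)) → ℂ) k)
          (CharCorr.twistIrr (inEquiv hle hK) ξ : K → ℂ) =
        classInner (fun l : ↥((Subgroup.normalizer (Q : Set G)) ⊓ N) => (ψ : (Subgroup.normalizer (Q : Set G)) → ℂ) (Subgroup.inclusion hle l))
          (ξ : ↥((Subgroup.normalizer (Q : Set G)) ⊓ N) → ℂ) := by
    intro ψ ξ
    rw [← CharCorr.classInner_comp_equiv (inEquiv hle hK)
      (fun l : ↥((Subgroup.normalizer (Q : Set G)) ⊓ N) => (ψ : (Subgroup.normalizer (Q : Set G)) → ℂ) (Subgroup.inclusion hle l)) (ξ : ↥((Subgroup.normalizer (Q : Set G)) ⊓ N) → ℂ)]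
    rfl
  constructor
  · rintro ⟨ψ, hψ, ξ, hξ, hne⟩ h0
    refine mul_ne_zero_of_covers K hM hc he' ⟨ψ, hψ, _, ⟨ξ, hξ, rfl⟩, by rwa [hval]⟩
      (inclA_injective (Subgroup.normalizer (Q : Set G)) ?_)
    rw [hmul, h0, map_zero]
  · intro h
    obtain ⟨ψ, hψ, _, ⟨ξ, hξ, rfl⟩, hne⟩ := covers_of_mul_ne_zero K hM hc he'
      (fun h0 => h (by rw [← hmul, h0, map_zero]))
    exact ⟨ψ, hψ, ξ, hξ, by rwa [hval] at hne⟩

/-- Over a covered block the Brauer image of the product survives at its defect group. -/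
theorem brMap_mul_ne_zero (hM : IsPModular p M) (hQN : Q ≤ N)
    {B : Set (IrrCharacter G)} (hB : IsPBlock M B) {d : Set (IrrCharacter N)} (hd : IsPBlock M d)
    (hdQ : IsDefectGroup p M d (Q.subgroupOf N)) (hne : eG hM B * eA hM N d ≠ 0) :
    brMap (ResK M) Q (eG hM B * eA hM N d) ≠ 0 := by
  classical
  have := charP_res hM
  have hD := (isDefectGroup_iff hM hd _).1 hdQ
  have hb := isBlockIdem_eG hM hB
  have he := isBlockIdem_eA hM hd
  have hbf : eG hM B ∈ fixAlg (ResK M) N := fixAlg_anti le_top hb.fixed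
  have hcomm : eA hM N d * eG hM B = eG hM B * eA hM N d :=
    (commute_of_supp_fix (mem_suppAlg_top _) hb.fixed).eq
  have hmap : (Q.subgroupOf N).map N.subtype = Q := Subgroup.map_subgroupOf_eq_of_le hQN
  have hTr : InTr (⊥ : Subgroup G) Q N (eA hM N d) := by
    obtain ⟨a, -, haD, hae⟩ := hD.inTr
    have haf := inclA_mem_fixAlg haD
    rw [hmap] at haf
    refine ⟨inclA (ResK M) N a, by rw [cz_bot]; exact mem_suppAlg_top _, haf, ?_⟩
    rw [← inclA_eG, ← hae, inclA_relTr haD, hmap, ← MonoidHom.range_eq_map, Subgroup.range_subtype]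
  have hbr : brMap (ResK M) Q (eA hM N d) ≠ 0 := by
    rw [← inclA_eG, ← hmap, ← inclA_brMap]
    exact fun h => hD.br_ne (inclA_injective N (by rw [h, map_zero]))
  exact brMap_ne_zero_of_normal N he (hmap ▸ hD.pgroup.map N.subtype) hQN hTr hbr
    ((fixAlg (ResK M) N).mul_mem hbf he.fixed)
    (by rw [mul_assoc, ← mul_assoc (eA hM N d), hcomm, mul_assoc, he.idem, ← mul_assoc, hb.idem])
    hne (by rw [← mul_assoc, hcomm, mul_assoc, he.idem]) (by rw [mul_assoc, he.idem])

omit [M.IsMaximal] in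
/-- A block of `H` over a block of a normalised subgroup survives only where a conjugate of the
latter does. -/
theorem exists_conj_brMap_ne_zero {k : Type*} [Field k] [CharP k p] {H L : Subgroup G} (hLH : L ≤ H)
    (hHL : H ≤ Subgroup.normalizer (L : Set G)) {b c : MonoidAlgebra k G} (hb : IsBlockIdem L b)
    (hc : IsBlockIdem H c) (hne : c * b ≠ 0) {R T : Subgroup G} (hRp : IsPGroup p R) (hRH : R ≤ H)
    (hTR : T ≤ R) (hbr : brMap k R c ≠ 0) :
    ∃ h ∈ H, brMap k T (conjA h b) ≠ 0 := by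
  classical
  let _ : Fintype H := Fintype.ofFinite _
  set S : Finset (MonoidAlgebra k G) := Finset.univ.image fun h : H => conjA (h : G) b with hS
  have hSblk : ∀ x ∈ S, IsBlockIdem L x := by
    intro x hx
    obtain ⟨h, -, rfl⟩ := Finset.mem_image.1 hx
    have := hb.conjA (h : G)
    rwa [map_conj_eq_self (hHL h.2)] at this
  set z := ∑ x ∈ S, x with hz
  have hbS : b ∈ S := Finset.mem_image.2 ⟨1, Finset.mem_univ _, by simp⟩
  have hzs : z ∈ suppAlg k H :=
    Subalgebra.sum_mem _ fun x hx => suppAlg_mono hLH (hSblk x hx).supp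
  have hzz : z * z = z := by
    rw [hz, Finset.sum_mul]
    refine Finset.sum_congr rfl fun x hx => ?_
    rw [Finset.mul_sum, Finset.sum_eq_single x (fun y hy hyx => (hSblk x hx).mul_eq_zero
      (hSblk y hy) fun h => hyx h.symm) (fun h => absurd hx h), (hSblk x hx).idem]
  have hzf : z ∈ fixAlg k H := by
    rw [mem_fixAlg]
    intro g hg
    rw [hz, conjA_sum]
    have hinj : Set.InjOn (fun x : MonoidAlgebra k G => conjA g x) (S : Set _) :=
      fun a _ b _ h => conjA_inj h
    have himg : S.image (fun x => conjA g x) = S := by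
      refine Finset.eq_of_subset_of_card_le ?_ (Finset.card_image_of_injOn hinj).ge
      intro x hx
      obtain ⟨y, hy, rfl⟩ := Finset.mem_image.1 hx
      obtain ⟨h, -, rfl⟩ := Finset.mem_image.1 hy
      refine Finset.mem_image.2 ⟨⟨g, hg⟩ * h, Finset.mem_univ _, ?_⟩
      simp only [Subgroup.coe_mul, conjA_mul_left]
    conv_rhs => rw [← himg, Finset.sum_image hinj]
  have hzb : z * b = b := by
    rw [hz, Finset.sum_mul, Finset.sum_eq_single _ (fun y hy hyx => (hSblk y hy).mul_eq_zero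
      hb hyx) (fun h => absurd hbS h), hb.idem]
  have hcz : z * c = c := by
    refine (hc.mul_idem hzs hzf hzz).resolve_left fun h0 => hne ?_
    rw [← hzb, ← mul_assoc, (commute_of_supp_fix hc.supp hzf).eq, h0, zero_mul]
  have hbrz : brMap k T z ≠ 0 := brMap_ne_zero_of_le hTR fun h0 => hbr (by
    rw [← hcz, brMap_mul hRp (fixAlg_anti hRH hzf) (fixAlg_anti hRH hc.fixed), h0, zero_mul])
  obtain ⟨x, hx, hxne⟩ : ∃ x ∈ S, brMap k T x ≠ 0 := by
    by_contra hcon
    simp only [not_exists, not_and, not_not] at hcon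
    exact hbrz (by rw [hz, map_sum]; exact Finset.sum_eq_zero hcon)
  obtain ⟨h, -, rfl⟩ := Finset.mem_image.1 hx
  exact ⟨h, h.2, hxne⟩

/-- A defect group of a block covering `e` meets `N` in `Q`. -/
theorem defect_inter (hM : IsPModular p M) (hQ : IsPGroup p Q) (hQN : Q ≤ N)
    {c : Set (IrrCharacter ↥(Subgroup.normalizer (Q : Set G)))} (hc : IsPBlock M c)
    {e : Set (IrrCharacter ↥(Subgroup.normalizer (Q : Set G) ⊓ N))} (he : IsPBlock M e)
    (heQ : IsDefectGroup p M e (Q.subgroupOf (Subgroup.normalizer (Q : Set G) ⊓ N)))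
    (hne : eA hM (Subgroup.normalizer (Q : Set G)) c *
        eA hM (Subgroup.normalizer (Q : Set G) ⊓ N) e ≠ 0)
    {R : Subgroup G} (hRH : R ≤ Subgroup.normalizer (Q : Set G))
    (hR : IsDefectGroup p M c (R.subgroupOf (Subgroup.normalizer (Q : Set G)))) :
    R ⊓ N = Q ∧ Subgroup.normalizer (R : Set G) ≤ Subgroup.normalizer (Q : Set G) := by
  classical
  have := charP_res hM
  let _ : Fintype (Subgroup.normalizer (Q : Set G)) := Fintype.ofFinite _
  let _ : Fintype ↥((Subgroup.normalizer (Q : Set G)) ⊓ N) := Fintype.ofFinite _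
  have hRd := (isDefectGroup_iff hM hc _).1 hR
  have hRp : IsPGroup p R :=
    IsPGroup.of_equiv hRd.pgroup (Subgroup.subgroupOfEquivOfLe hRH)
  have hcb := isBlockIdem_eA hM hc
  have heb := isBlockIdem_eA hM he
  have hQH : Q ≤ (Subgroup.normalizer (Q : Set G)) := Subgroup.le_normalizer
  -- `Q` lies in every defect group of `c`
  have hQR : Q ≤ R := by
    have hQp : IsPGroup p (Q.subgroupOf (Subgroup.normalizer (Q : Set G))) := hQ.comap_subtype
    obtain ⟨t, -, ht⟩ := (brSetup_block (p := p) hM hc).exists_le_conj hRd.inTr hQp le_top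
      (fun h0 => hcb.ne_zero (by
        have h1 := congrArg (inclA (ResK M) (Subgroup.normalizer (Q : Set G))) h0
        rwa [inclA_brMap, Subgroup.map_subgroupOf_eq_of_le hQH, inclA_eG, brMap_eA_self hM hQ hc,
          map_zero] at h1))
    intro q hq
    have hu : (t : G) * q * (t : G)⁻¹ ∈ Q := ((Subgroup.mem_normalizer_iff.1 t.2) q).1 hq
    obtain ⟨r, hr, hru⟩ := ht (show (⟨_, hQH hu⟩ : (Subgroup.normalizer (Q : Set G))) ∈ Q.subgroupOf (Subgroup.normalizer (Q : Set G)) from hu)
    have h1 : (t : G) * (r : G) * (t : G)⁻¹ = (t : G) * q * (t : G)⁻¹ := congrArg Subtype.val hru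
    rw [← mul_left_cancel (mul_right_cancel h1)]
    exact hr
  -- the orbit sum of the idempotent of `e`
  have hnorm : ∀ h : (Subgroup.normalizer (Q : Set G)), (h : G) ∈ Subgroup.normalizer (((Subgroup.normalizer (Q : Set G)) ⊓ N : Subgroup G) : Set G) := fun h =>
    mem_normalizer_of_conj_mem fun x hx =>
      ⟨(Subgroup.normalizer (Q : Set G)).mul_mem ((Subgroup.normalizer (Q : Set G)).mul_mem h.2 hx.1) ((Subgroup.normalizer (Q : Set G)).inv_mem h.2), ‹N.Normal›.conj_mem x hx.2 h⟩
  obtain ⟨g, hg, hxne⟩ := exists_conj_brMap_ne_zero (p := p)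
    (inf_le_left : (Subgroup.normalizer (Q : Set G)) ⊓ N ≤ (Subgroup.normalizer (Q : Set G))) (fun g hg => hnorm ⟨g, hg⟩) heb hcb hne hRp hRH
    (inf_le_left : R ⊓ N ≤ R) (brMap_ne_zero_of_defect hM hRH hc hR)
  set h : (Subgroup.normalizer (Q : Set G)) := ⟨g, hg⟩ with hh
  replace hxne : brMap (ResK M) (R ⊓ N) (conjA (h : G) (eA hM ((Subgroup.normalizer (Q : Set G)) ⊓ N) e)) ≠ 0 := hxne
  set T := (R ⊓ N).map (MulAut.conj (h : G)⁻¹).toMonoidHom with hTdef
  have hTne : brMap (ResK M) T (eA hM ((Subgroup.normalizer (Q : Set G)) ⊓ N) e) ≠ 0 := by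
    intro h0
    apply hxne
    have := conjA_brMap (k := ResK M) (h : G) T (eA hM ((Subgroup.normalizer (Q : Set G)) ⊓ N) e)
    have hTT : T.map (MulAut.conj (h : G)).toMonoidHom = R ⊓ N := by
      rw [hTdef, Subgroup.map_map]
      convert Subgroup.map_id (R ⊓ N)
      ext y
      simp [mul_assoc]
    rw [h0, conjA_zero, hTT] at this
    exact this.symm
  have hTle : T ≤ (Subgroup.normalizer (Q : Set G)) ⊓ N := by
    rintro _ ⟨y, hy, rfl⟩
    exact ⟨(Subgroup.normalizer (Q : Set G)).mul_mem ((Subgroup.normalizer (Q : Set G)).mul_mem ((Subgroup.normalizer (Q : Set G)).inv_mem h.2) (hRH hy.1)) ((Subgroup.normalizer (Q : Set G)).inv_mem ((Subgroup.normalizer (Q : Set G)).inv_mem h.2)),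
      ‹N.Normal›.conj_mem y hy.2 _⟩
  have hTp : IsPGroup p (T.subgroupOf ((Subgroup.normalizer (Q : Set G)) ⊓ N)) :=
    ((hRp.to_le inf_le_left).map (MulAut.conj (h : G)⁻¹).toMonoidHom).comap_subtype
  have hcard := (brSetup_block (p := p) hM he).card_le_defect ((isDefectGroup_iff hM he _).1 heQ)
    hTp le_top (fun h0 => hTne (by
      rw [← inclA_eG, ← Subgroup.map_subgroupOf_eq_of_le hTle, ← inclA_brMap, h0, map_zero]))
  rw [Nat.card_congr (Subgroup.subgroupOfEquivOfLe hTle).toEquiv,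
    Nat.card_congr (Subgroup.subgroupOfEquivOfLe (le_inf hQH hQN)).toEquiv, hTdef,
    Subgroup.card_map_of_injective (MulAut.conj (h : G)⁻¹).injective] at hcard
  have heq : Q = R ⊓ N := Subgroup.eq_of_le_of_card_ge (le_inf hQR hQN) hcard
  refine ⟨heq.symm, fun x hx => mem_normalizer_of_conj_mem fun q hq => ?_⟩
  rw [heq]
  exact ⟨((Subgroup.mem_normalizer_iff.1 hx) q).1 (hQR hq), ‹N.Normal›.conj_mem q (hQN hq) x⟩

/-- Blocks of `N_G(Q)` covering `e` with the same induced block are equal. -/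
theorem eq_of_induced_eq (hM : IsPModular p M) (hQ : IsPGroup p Q) (hQN : Q ≤ N)
    {e : Set (IrrCharacter ↥(Subgroup.normalizer (Q : Set G) ⊓ N))} (he : IsPBlock M e)
    (heQ : IsDefectGroup p M e (Q.subgroupOf (Subgroup.normalizer (Q : Set G) ⊓ N)))
    {B : Set (IrrCharacter G)} (hB : IsPBlock M B)
    {c c' : Set (IrrCharacter ↥(Subgroup.normalizer (Q : Set G)))}
    (hc : IsPBlock M c) (hc' : IsPBlock M c')
    (hne : eA hM (Subgroup.normalizer (Q : Set G)) c *
        eA hM (Subgroup.normalizer (Q : Set G) ⊓ N) e ≠ 0)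
    (hne' : eA hM (Subgroup.normalizer (Q : Set G)) c' *
        eA hM (Subgroup.normalizer (Q : Set G) ⊓ N) e ≠ 0)
    (hcov : brMap (ResK M) Q (eG hM B) * eA hM (Subgroup.normalizer (Q : Set G)) c =
      eA hM (Subgroup.normalizer (Q : Set G)) c)
    (hcov' : brMap (ResK M) Q (eG hM B) * eA hM (Subgroup.normalizer (Q : Set G)) c' =
      eA hM (Subgroup.normalizer (Q : Set G)) c') : c = c' := by
  classical
  have := charP_res hM
  let _ : Fintype (Subgroup.normalizer (Q : Set G)) := Fintype.ofFinite _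
  have key : ∀ (a : Set (IrrCharacter (Subgroup.normalizer (Q : Set G)))), IsPBlock M a →
      eA hM (Subgroup.normalizer (Q : Set G)) a * eA hM ((Subgroup.normalizer (Q : Set G)) ⊓ N) e ≠ 0 →
      brMap (ResK M) Q (eG hM B) * eA hM (Subgroup.normalizer (Q : Set G)) a = eA hM (Subgroup.normalizer (Q : Set G)) a →
      ∃ R : Subgroup G, R ≤ (Subgroup.normalizer (Q : Set G)) ∧ R ⊓ N = Q ∧ IsPGroup p R ∧ IsDefectGroup p M B R ∧
        brMap (ResK M) R (eA hM (Subgroup.normalizer (Q : Set G)) a) ≠ 0 ∧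
        brMap (ResK M) R (eG hM B) = brMap (ResK M) R (eA hM (Subgroup.normalizer (Q : Set G)) a) := by
    intro a ha hane hacov
    obtain ⟨D, hD⟩ := exists_defectGroup hM ha
    have hRH : D.map (Subgroup.normalizer (Q : Set G)).subtype ≤ (Subgroup.normalizer (Q : Set G)) := Subgroup.map_subtype_le D
    have hsub : (D.map (Subgroup.normalizer (Q : Set G)).subtype).subgroupOf (Subgroup.normalizer (Q : Set G)) = D :=
      Subgroup.comap_map_eq_self_of_injective (Subgroup.normalizer (Q : Set G)).subtype_injective D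
    have hRp : IsPGroup p (D.map (Subgroup.normalizer (Q : Set G)).subtype) := ((isDefectGroup_iff hM ha D).1 hD).pgroup.map _
    rw [← hsub] at hD
    obtain ⟨hRN, hNR⟩ := defect_inter N hM hQ hQN ha he heQ hane hRH hD
    have hbr := brMap_ne_zero_of_defect hM hRH ha hD
    have hQR : Q ≤ D.map (Subgroup.normalizer (Q : Set G)).subtype := hRN.ge.trans inf_le_left
    have hprod : brMap (ResK M) (D.map (Subgroup.normalizer (Q : Set G)).subtype) (eG hM B) *
        brMap (ResK M) (D.map (Subgroup.normalizer (Q : Set G)).subtype) (eA hM (Subgroup.normalizer (Q : Set G)) a) ≠ 0 := by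
      rw [← brMap_brMap_of_le hQR (eG hM B), ← brMap_mul hRp
        (fixAlg_anti hRH (brMap_mem_fixAlg le_rfl
          (fixAlg_anti le_top (isBlockIdem_eG hM hB).fixed)))
        (fixAlg_anti hRH (isBlockIdem_eA hM ha).fixed), hacov]
      exact hbr
    have hDB := (super_block_key hM hRp hNR ha hD hB hprod).2
    exact ⟨_, hRH, hRN, hRp, hDB, hbr,
      brMap_eq_of_defect hM hRp hNR hB ha hDB hD hprod⟩
  obtain ⟨R, hRH, hRN, hRp, hDB, hbr, heqR⟩ := key c hc hne hcov
  obtain ⟨R', -, hR'N, -, hDB', -, heqR'⟩ := key c' hc' hne' hcov'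
  obtain ⟨t, -, rfl⟩ := (brSetup_block (p := p) hM hB).isDefect_conj
    ((isDefectGroup_iff hM hB R).1 hDB) ((isDefectGroup_iff hM hB R').1 hDB')
  have hQR : Q ≤ R := hRN.ge.trans inf_le_left
  have ht : t ∈ (Subgroup.normalizer (Q : Set G)) := mem_normalizer_of_conj_mem fun q hq =>
    hR'N.le ⟨⟨q, hQR hq, rfl⟩, ‹N.Normal›.conj_mem q (hQN hq) t⟩
  have h' : brMap (ResK M) R (eG hM B) = brMap (ResK M) R (eA hM (Subgroup.normalizer (Q : Set G)) c') := by
    apply conjA_inj (g := t)
    rw [conjA_brMap, conjA_brMap, (isBlockIdem_eG hM hB).fixed t (Subgroup.mem_top t),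
      (isBlockIdem_eA hM hc').fixed t ht, heqR']
  exact eq_of_brMap_eq hM hRp hRH hc hc' (heqR.symm.trans h') hbr

end CfsgLib.BrauerPairs.HarrisKnorr
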