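import Cfsg.Agent.Lib.BrauerPairs.Nilpotent

/-!
# Pairs inside the centraliser of a subpair, and nilpotency of local blocks
-/

namespace CfsgLib.BrauerPairs

open Cfsg MonoidAlgebra

set_option linter.unusedSectionVars false

section Algebra

variable {k : Type*} [Field k] {G : Type*} [Group G]

theorem map_subtype_inclA {K : Subgroup G} {H : Subgroup K} {a : MonoidAlgebra k K}
    (ha : a ∈ suppAlg k H) : inclA k K a ∈ suppAlg k (H.map K.subtype) := by
  intro x hx
  by_cases hxK : x ∈ K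
  · refine ⟨⟨x, hxK⟩, ha _ ?_, rfl⟩
    rwa [← coeff_inclA a ⟨x, hxK⟩]
  · exact absurd (coeff_inclA_of_notMem a hxK) hx

theorem conjA_inclA {K : Subgroup G} (x : K) (a : MonoidAlgebra k K) :
    conjA (x : G) (inclA k K a) = inclA k K (conjA x a) := by
  ext y
  rw [coeff_conjA]
  by_cases hy : y ∈ K
  · rw [show (inclA k K (conjA x a)).coeff y = (conjA x a).coeff ⟨y, hy⟩ from
      coeff_inclA _ ⟨y, hy⟩, coeff_conjA]
    exact coeff_inclA a (x⁻¹ * ⟨y, hy⟩ * x)
  · rw [coeff_inclA_of_notMem _ hy, coeff_inclA_of_notMem]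
    intro h
    apply hy
    have := K.mul_mem (K.mul_mem x.2 h) (K.inv_mem x.2)
    simpa [mul_assoc] using this

theorem inclA_mem_fixAlg {K : Subgroup G} {H : Subgroup K} {a : MonoidAlgebra k K}
    (ha : a ∈ fixAlg k H) : inclA k K a ∈ fixAlg k (H.map K.subtype) := by
  rintro _ ⟨h, hh, rfl⟩
  show conjA (h : G) _ = _
  rw [conjA_inclA, ha h hh]

theorem IsBlockIdem.inclA_map {K : Subgroup G} {H : Subgroup K} {e : MonoidAlgebra k K}
    (he : IsBlockIdem H e) :
    IsBlockIdem (H.map K.subtype) (CfsgLib.BrauerPairs.inclA k K e) where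
  supp := map_subtype_inclA he.supp
  fixed := inclA_mem_fixAlg he.fixed
  idem := by rw [← map_mul, he.idem]
  ne_zero h := he.ne_zero (inclA_injective K (by rw [h, map_zero]))
  locally z hzs hzf := by
    have hzK : z ∈ suppAlg k K := fun x hx => Subgroup.map_subtype_le H (hzs x hx)
    obtain ⟨w, rfl⟩ : ∃ w, CfsgLib.BrauerPairs.inclA k K w = z := ⟨_, inclA_restrA hzK⟩
    have hws : w ∈ suppAlg k H := by
      intro y hy
      obtain ⟨y', hy', hyy⟩ := hzs (y : G) (show (CfsgLib.BrauerPairs.inclA k K w).coeff (y : G) ≠ 0 by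
        rwa [coeff_inclA])
      exact (Subtype.ext hyy : y' = y) ▸ hy'
    have hwf : w ∈ fixAlg k H := fun h hh => inclA_injective K (by
      rw [← conjA_inclA]; exact hzf (h : G) ⟨h, hh, rfl⟩)
    obtain ⟨c, hc⟩ := he.locally w hws hwf
    exact ⟨c, by simpa using hc.map (CfsgLib.BrauerPairs.inclA k K)⟩

theorem cz_sup_map (Q : Subgroup G) (R : Subgroup (cz Q)) :
    cz (Q ⊔ R.map (cz Q).subtype) = (cz R).map (cz Q).subtype := by
  ext x
  constructor
  · intro hx
    refine ⟨⟨x, cz_anti le_sup_left hx⟩, mem_cz.2 fun r hr => Subtype.ext ?_, rfl⟩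
    exact mem_cz.1 hx r (Subgroup.mem_sup_right ⟨r, hr, rfl⟩)
  · rintro ⟨y, hy, rfl⟩
    rw [cz, Subgroup.mem_centralizer_iff]
    intro g hg
    have hle : Q ⊔ R.map (cz Q).subtype ≤ Subgroup.centralizer ({(y : G)} : Set G) := sup_le
      (fun q hq => Subgroup.mem_centralizer_iff.2 fun z hz => by
        rw [Set.mem_singleton_iff.1 hz]; exact (mem_cz.1 y.2 q hq).symm)
      (by
        rintro _ ⟨r, hr, rfl⟩
        refine Subgroup.mem_centralizer_iff.2 fun z hz => ?_
        rw [Set.mem_singleton_iff.1 hz]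
        exact (congrArg Subtype.val (mem_cz.1 hy r hr)).symm)
    exact (Subgroup.mem_centralizer_iff.1 (hle hg) _ rfl).symm

variable [Fintype G] {p : ℕ} [CharP k p] [Fact p.Prime]

/-- A pair inside `C(Q)` over the local block gives a pair of `G` above `(Q, f)`. -/
theorem normalSub_of_local {Q : Subgroup G} (hQ : IsPGroup p Q) {f : MonoidAlgebra k (cz Q)}
    (hfb : IsBlockIdem (⊤ : Subgroup (cz Q)) f) {R : Subgroup (cz Q)}
    {h : MonoidAlgebra k (cz Q)} (hR : OverPair p ⊥ f ⊤ R h) :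
    NormalSub p (Q, inclA k (cz Q) f) (Q ⊔ R.map (cz Q).subtype, inclA k (cz Q) h) := by
  have hb : IsBlockIdem (cz Q) (inclA k (cz Q) f) := hfb.inclA
  have hRC : R.map (cz Q).subtype ≤ cz Q := Subgroup.map_subtype_le _
  refine ⟨hQ, hQ.to_sup_of_normal_left' (hR.pgroup.map _) (hRC.trans (cz_le_normalizer Q)), hb,
    ?_, le_sup_left, sup_le Subgroup.le_normalizer (hRC.trans (cz_le_normalizer Q)),
    fun y hy => ?_, ?_⟩
  · show IsBlockIdem (cz (Q ⊔ R.map (cz Q).subtype)) _
    rw [cz_sup_map]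
    exact hR.block.inclA_map
  · have hle : Q ⊔ R.map (cz Q).subtype ≤ pairStab Q (inclA k (cz Q) f) := sup_le
      (fun q hq => ⟨Subgroup.le_normalizer hq, fixed_of_supp_cz hb.supp q hq⟩)
      (fun r hr => ⟨cz_le_normalizer Q (hRC hr), hb.fixed r (hRC hr)⟩)
    exact (hle hy).2
  · show brMap k (Q ⊔ R.map (cz Q).subtype) (inclA k (cz Q) f) * inclA k (cz Q) h = _
    rw [brMap_sup_of_supp hb.supp, ← inclA_brMap, ← map_mul, hR.cover]

end Algebra

variable {p : ℕ} {M : Ideal AlgInt} [M.IsMaximal] {G : Type*} [Group G] [Fintype G]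
  [Fact p.Prime] {B : Set (IrrCharacter G)}

/-- The local blocks of a nilpotent block are nilpotent. -/
theorem nilpotent_local (hM : IsPModular p M) (hnil : IsNilpotentBlock p M B) {Q : Subgroup G}
    {f : Set (IrrCharacter (cz Q))} (hQf : IsBrauerPairOf p M B Q f) : IsNilpotentBlock p M f := by
  let _ : ∀ H : Subgroup G, Fintype H := fun H => Fintype.ofFinite H
  have := charP_res hM
  obtain ⟨hf, hB, hOQ⟩ := (isBrauerPairOf_iff hM B Q f).1 hQf
  refine ⟨hf, fun R g hRg x hxN hxg hxr => ?_⟩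
  obtain ⟨hg, -, hOR⟩ := (isBrauerPairOf_iff hM f R g).1 hRg
  set R' := R.map (cz Q).subtype with hR'
  set h := inclA (ResK M) (cz Q) (eA hM (cz R) g) with hh
  have hstep : NormalSub p (Q, eA hM (cz Q) f) (Q ⊔ R', h) := by
    rw [← inclA_eG hM (cz Q) f]
    exact normalSub_of_local hOQ.pgroup (isBlockIdem_eG hM hf) hOR
  obtain ⟨g', hg', hge⟩ := exists_eA_eq hM (show IsBlockIdem (cz (Q ⊔ R')) h from hstep.block_right)
  have hpair : IsBrauerPairOf p M B (Q ⊔ R') g' := by
    refine (isBrauerPairOf_iff hM B _ g').2 ⟨hg', hB, hstep.pgroup_right, bot_le, le_top,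
      isBlockIdem_eA hM hg', ?_⟩
    rw [hge]
    exact (brMap_cover_iff (Relation.ReflTransGen.single hstep) (isBlockIdem_eG hM hB).fixed
      (isBlockIdem_eG hM hB).idem).1 hOQ.cover
  have hxS : (x : G) ∈ Subgroup.normalizer ((Q ⊔ R' : Subgroup G) : Set G) := by
    refine Fusion.mem_normalizer_of_forall fun y hy => ?_
    have hm : (Q ⊔ R').map (MulAut.conj (x : G)).toMonoidHom ≤ Q ⊔ R' := by
      rw [Subgroup.map_sup]
      refine sup_le_sup (map_conj_eq_self (cz_le_normalizer Q x.2)).le ?_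
      rintro _ ⟨_, ⟨r, hr, rfl⟩, rfl⟩
      exact ⟨x * r * x⁻¹, (Subgroup.mem_normalizer_iff.1 hxN r).1 hr, rfl⟩
    exact hm ⟨y, hy, rfl⟩
  have hxfix : conjA (x : G) h = h := by
    rw [hh, conjA_inclA,
      (stabilizesBlock_iff_conjA hM (normalizer_le_normalizer_cz R hxN) hg).1 hxg]
  have key := hnil.2 (Q ⊔ R') g' hpair x hxS
    ((stabilizesBlock_iff_conjA hM (normalizer_le_normalizer_cz _ hxS) hg').2 (hge ▸ hxfix))
    (by unfold IsPRegular at hxr ⊢; rwa [Subgroup.orderOf_coe])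
  refine mem_cz.2 fun r hr => Subtype.ext ?_
  exact mem_cz.1 key r (Subgroup.mem_sup_right ⟨r, hr, rfl⟩)

/-- For a nilpotent block all subgroups of the defect group are fully centralised. -/
theorem fullyCentralized_of_nilpotent (hM : IsPModular p M) {P : Subgroup G}
    {e : Set (IrrCharacter (cz P))} {F : FusionSystem P}
    (hF : IsBlockFusionSystemOn p M B P e F) (hnil : IsNilpotentBlock p M B) {Q : Subgroup G}
    (hQ : Q ≤ P) : F.IsFullyCentralized Q := by
  refine ⟨hQ, ?_⟩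
  rintro R ⟨φ, hφ, rfl⟩
  rw [inner_of_nilpotent hM hF hnil Q] at hφ
  obtain ⟨-, s, hs, hse⟩ := hφ
  rw [← map_range_of_conj hse,
    ← Subgroup.card_map_of_injective (f := (MulAut.conj s⁻¹).toMonoidHom)
      (MulAut.conj s⁻¹).injective (K := FusionSystem.centralizerIn P
        (Q.map (MulAut.conj s).toMonoidHom))]
  refine Subgroup.card_le_of_le ?_
  rintro _ ⟨y, ⟨hyP, hyC⟩, rfl⟩
  refine ⟨P.mul_mem (P.mul_mem (P.inv_mem hs) hyP) (by simpa using hs), ?_⟩
  obtain ⟨c, hc, rfl⟩ := (cz_map_conj Q s).le hyC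
  simpa [mul_assoc] using hc

end CfsgLib.BrauerPairs
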