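import Cfsg.Agent.Lib.BrauerPairs.System

/-!
# The trace of a major subsection block does not vanish on the block it induces
-/

set_option autoImplicit false

namespace CfsgLib.BrauerPairs

open MonoidAlgebra

variable {k : Type*} [Field k] {G : Type*} [Group G] [Fintype G] {p : ℕ} [CharP k p]
  [hp : Fact p.Prime]

/-- If `(Q, f)` is a pair of `E` and `f` has as large a defect as `E`, the trace of `f` to `G`
is not nilpotent on `E`. -/
theorem not_isNilpotent_trace (hk : HasBlocks k G) {Q D DE : Subgroup G}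
    {f E : MonoidAlgebra k G} (hSE : BrSetup p (⊥ : Subgroup G) E ⊤)
    (hS : BrSetup p Q f (cz Q)) (hpair : brMap k Q E * f = f)
    (hD : IsDefect p Q f (cz Q) D) (hDE : IsDefect p (⊥ : Subgroup G) E ⊤ DE)
    (hcard : Nat.card DE ≤ Nat.card D) : ¬ IsNilpotent (relTr k (cz Q) ⊤ f * E) := by
  classical
  -- a block over the defect group
  set NC := cz Q ⊓ Subgroup.normalizer (D : Set G) with hNC
  set σ := brMap k D f with hσ
  have hfD : f ∈ fixAlg k D := fixAlg_anti hD.le_T hS.fixed
  have hσidem : σ * σ = σ := by rw [hσ, ← brMap_mul hD.pgroup hfD hfD, hS.block.idem]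
  have hσfix : σ ∈ fixAlg k NC := hS.brMap_fixed hD.le_T
  have hczD : cz D ≤ NC := hS.cz_le_inf hD.le
  obtain ⟨h, hh, hcov⟩ := exists_block_le hk (brMap_mem_suppAlg D f) (fixAlg_anti hczD hσfix)
    hσidem hD.br_ne
  have hover : OverPair p Q f (cz Q) D h := ⟨hD.pgroup, hD.le, hD.le_T, hh, hcov⟩
  -- it is a maximal pair of `E`
  have hEQ : E ∈ fixAlg k (⊤ : Subgroup G) := hSE.fixed
  have hQn : D ≤ Subgroup.normalizer (Q : Set G) := hD.le_T.trans hS.le_norm
  have hbQE : brMap k Q E ∈ fixAlg k D := brMap_mem_fixAlg hQn (fixAlg_anti le_top hEQ)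
  have hcovE : brMap k D E * h = h := by
    have h1 := congrArg (brMap k D) hpair
    rw [brMap_mul hD.pgroup hbQE hfD, brMap_brMap_of_le hD.le, ← hσ] at h1
    conv_lhs => rw [← hcov, ← mul_assoc, h1, hcov]
  have hoverE : OverPair p (⊥ : Subgroup G) E ⊤ D h := ⟨hD.pgroup, bot_le, le_top, hh, hcovE⟩
  set A := (⊤ : Subgroup G) ⊓ pairStab D h with hA
  have hSA : BrSetup p D h A := hSE.setup_stab hoverE
  obtain ⟨S, hdefS⟩ := hSA.exists_isDefect
  have hSD : S = D := by
    have hbrS : brMap k S E ≠ 0 := fun h0 => hdefS.br_ne (by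
      have h1 := congrArg (brMap k S) hcovE
      have hhS : h ∈ fixAlg k S := fixAlg_anti hdefS.le_T hSA.fixed
      have hES : brMap k D E ∈ fixAlg k S :=
        brMap_mem_fixAlg (hdefS.le_T.trans hSA.le_norm) (fixAlg_anti le_top hEQ)
      rw [brMap_mul hdefS.pgroup hES hhS, brMap_brMap_of_le hdefS.le, h0, zero_mul] at h1
      exact h1.symm)
    refine (Subgroup.eq_of_le_of_card_ge hdefS.le ?_).symm
    exact (hSE.card_le_defect hDE hdefS.pgroup le_top hbrS).trans hcard
  have hnd : ¬ p ∣ (D ⊔ cz D).relIndex A := not_dvd_relIndex_stab hSA (hSD ▸ hdefS)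
  -- the trace
  obtain ⟨a, has, haf, hfa⟩ := hD.inTr
  set N := (⊤ : Subgroup G) ⊓ Subgroup.normalizer (D : Set G) with hN
  have hNCN : NC ≤ N := le_inf le_top inf_le_right
  have hDNC : D ≤ NC := le_inf hD.le_T Subgroup.le_normalizer
  have hbrz : brMap k D (relTr k (cz Q) ⊤ f) = relTr k NC N σ := by
    conv_lhs => rw [← hfa, relTr_relTr hD.le_T le_top haf,
      brMap_relTr_self hD.pgroup le_top haf]
    have ha' : brMap k D a ∈ fixAlg k D := brMap_mem_fixAlg Subgroup.le_normalizer haf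
    rw [hσ, ← hfa, brMap_relTr_self hD.pgroup hD.le_T haf, relTr_relTr hDNC hNCN ha']
  have hAN : A ≤ N := le_inf le_top (hSA.le_norm)
  have hczn : N ≤ Subgroup.normalizer (cz D : Set G) :=
    inf_le_right.trans (normalizer_le_normalizer_cz D)
  have hterm : ∀ q : N ⧸ NC.subgroupOf N, conjA ((q.out : N) : G) σ * h =
      if q ∈ Set.range (Subgroup.quotientSubgroupOfEmbeddingOfLE NC hAN) then h else 0 := by
    intro q
    split_ifs with hq
    · obtain ⟨r, rfl⟩ := hq
      obtain ⟨t, rfl⟩ := QuotientGroup.mk_surjective r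
      rw [Subgroup.quotientSubgroupOfEmbeddingOfLE_apply_mk, conjA_out_eq hσfix,
        Subgroup.coe_inclusion]
      have ht : conjA (t : G) h = h := hSA.fixed _ t.2
      conv_lhs => rw [← ht, ← conjA_mul, hcov, ht]
    · set g : G := ((q.out : N) : G) with hg
      have hgn : g ∈ Subgroup.normalizer (D : Set G) := (q.out).2.2
      have hbl : IsBlockIdem (cz D) (conjA g⁻¹ h) := by
        have := hh.conjA g⁻¹
        rwa [map_conj_eq_self (hczn (N.inv_mem (q.out).2))] at this
      have hgh : conjA g (conjA g⁻¹ h) = h := by rw [← conjA_mul_left, mul_inv_cancel, conjA_one_left]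
      rcases hbl.mul_idem (brMap_mem_suppAlg D f) (fixAlg_anti hczD hσfix) hσidem with h0 | h1
      · conv_lhs => rw [← hgh, ← conjA_mul, h0, conjA_zero]
      · exfalso
        obtain ⟨n, hn, hnh⟩ := hS.exists_conj_eq hD hover ⟨hD.pgroup, hD.le, hD.le_T, hbl, h1⟩
        refine hq ?_
        have htA : g * n ∈ A := ⟨Subgroup.mem_top _, mem_pairStab.2
          ⟨Subgroup.mul_mem _ hgn hn.2, by rw [conjA_mul_left, hnh, hgh]⟩⟩
        refine ⟨QuotientGroup.mk ⟨g * n, htA⟩, ?_⟩
        rw [Subgroup.quotientSubgroupOfEmbeddingOfLE_apply_mk]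
        conv_rhs => rw [← QuotientGroup.out_eq' q]
        rw [QuotientGroup.eq, Subgroup.mem_subgroupOf]
        simp only [Subgroup.coe_mul, Subgroup.coe_inv, Subgroup.coe_inclusion, ← hg, mul_inv_rev,
          mul_assoc, inv_mul_cancel, mul_one]
        exact NC.inv_mem hn
  set m := NC.relIndex A with hm
  have hprod : relTr k NC N σ * h = (m : k) • h := by
    rw [relTr_eq_sum, Finset.sum_mul, Finset.sum_congr rfl fun q _ => hterm q, ← Finset.sum_filter,
      Finset.sum_const, Nat.cast_smul_eq_nsmul]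
    congr 1
    rw [hm, Subgroup.relIndex, Subgroup.index_eq_card, Nat.card_eq_fintype_card,
      ← Finset.card_univ,
      ← Finset.card_map (Subgroup.quotientSubgroupOfEmbeddingOfLE NC hAN)]
    congr 1
    ext q
    simp
  have hm0 : (m : k) ≠ 0 := fun h0 => hnd
    (((CharP.cast_eq_zero_iff k p m).1 h0).trans
      (Subgroup.relIndex_dvd_of_le_left A (sup_le hDNC hczD)))
  rintro ⟨n, hn⟩
  have hzfix : relTr k (cz Q) ⊤ f ∈ fixAlg k (⊤ : Subgroup G) := relTr_mem_fixAlg hS.fixed
  set X := brMap k D (relTr k (cz Q) ⊤ f * E) with hX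
  have hXn : X ^ n = 0 := by
    rw [hX, ← brMap_pow hD.pgroup (mul_mem (fixAlg_anti le_top hzfix) (fixAlg_anti le_top hEQ)), hn,
      map_zero]
  have hXh : X * h = (m : k) • h := by
    rw [hX, brMap_mul hD.pgroup (fixAlg_anti le_top hzfix) (fixAlg_anti le_top hEQ), mul_assoc,
      hcovE, hbrz, hprod]
  have hpow : ∀ j : ℕ, X ^ j * h = (m : k) ^ j • h := fun j => by
    induction j with
    | zero => simp
    | succ j ih => rw [pow_succ, mul_assoc, hXh, mul_smul_comm, ih, smul_smul, ← pow_succ']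
  have := hpow n
  rw [hXn, zero_mul] at this
  exact hh.ne_zero ((smul_eq_zero.1 this.symm).resolve_left (pow_ne_zero _ hm0))

end CfsgLib.BrauerPairs
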