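import Cfsg.Agent.Lib.BrauerPairs.PIndexBlock
import Cfsg.Agent.Lib.BrauerPairs.FirstMain
import Mathlib.RingTheory.Artinian.Ring

/-!
# Blocks of a normal subgroup below an idempotent of the group algebra

An idempotent `u` of `k[G]` fixed by `N ⊴ G` and lying under the block `e` of `k[N]` has nonzero
Brauer image at every defect group of `e`: otherwise every product of a homogeneous component of
`u` into `k[N]` is nilpotent, and `u` itself would be nilpotent.
-/

set_option autoImplicit false
set_option linter.style.haveILetI false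
set_option linter.unusedSectionVars false

namespace CfsgLib.BrauerPairs

open Cfsg MonoidAlgebra

section Graded

variable {k : Type*} [Field k] {G : Type*} [Group G] [Fintype G] (N : Subgroup G) [N.Normal]

/-- The part of an element in the coset `q`. -/
noncomputable def cosetPart (q : G ⧸ N) (a : MonoidAlgebra k G) : MonoidAlgebra k G :=
  Blocks.ofFun fun g => by classical exact if (g : G ⧸ N) = q then a.coeff g else 0

open scoped Classical in
theorem coeff_cosetPart (q : G ⧸ N) (a : MonoidAlgebra k G) (g : G) :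
    (cosetPart N q a).coeff g = if (g : G ⧸ N) = q then a.coeff g else 0 := by
  rw [cosetPart, Blocks.coeff_ofFun]

/-- Elements supported in one coset. -/
def InCoset (q : G ⧸ N) (a : MonoidAlgebra k G) : Prop :=
  ∀ g : G, a.coeff g ≠ 0 → (g : G ⧸ N) = q

theorem inCoset_cosetPart (q : G ⧸ N) (a : MonoidAlgebra k G) : InCoset N q (cosetPart N q a) := by
  intro g hg
  rw [coeff_cosetPart] at hg
  by_contra h
  exact hg (if_neg h)

theorem InCoset.mul {q r : G ⧸ N} {a b : MonoidAlgebra k G} (ha : InCoset N q a)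
    (hb : InCoset N r b) : InCoset N (q * r) (a * b) := by
  classical
  intro g hg
  obtain ⟨x, hx, y, hy, rfl⟩ := Finset.mem_mul.1
    (MonoidAlgebra.support_coeff_mul_subset a b (Finsupp.mem_support_iff.2 hg))
  rw [QuotientGroup.mk_mul, ha x (Finsupp.mem_support_iff.1 hx), hb y (Finsupp.mem_support_iff.1 hy)]

theorem inCoset_one : InCoset N 1 (1 : MonoidAlgebra k G) := by
  classical
  intro g hg
  rw [MonoidAlgebra.one_def, coeff_single, Finsupp.single_apply] at hg
  by_cases h : (1 : G) = g
  · rw [← h, QuotientGroup.mk_one]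
  · exact absurd (if_neg h) hg

theorem sum_cosetPart (a : MonoidAlgebra k G) [Fintype (G ⧸ N)] :
    ∑ q : G ⧸ N, cosetPart N q a = a := by
  classical
  ext g
  rw [coeff_sum, Finsupp.finsetSum_apply]
  simp [coeff_cosetPart]

open scoped Classical in
theorem cosetPart_mem_fixAlg {a : MonoidAlgebra k G} (ha : a ∈ fixAlg k N) (q : G ⧸ N) :
    cosetPart N q a ∈ fixAlg k N := by
  rw [mem_fixAlg_iff_coeff] at ha ⊢
  intro n hn x
  have hn1 : (n : G ⧸ N) = 1 := (QuotientGroup.eq_one_iff n).2 hn
  rw [coeff_cosetPart, coeff_cosetPart, ha n hn x]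
  refine if_congr ?_ rfl rfl
  simp [hn1]

theorem cosetPart_of_inCoset {q r : G ⧸ N} {a : MonoidAlgebra k G} (ha : InCoset N q a)
    (h : r ≠ q) : cosetPart N r a = 0 := by
  ext g
  rw [coeff_cosetPart, coeff_zero, Finsupp.zero_apply]
  split_ifs with hg
  · exact not_not.1 fun hne => h (hg ▸ ha g hne)
  · rfl

theorem cosetPart_add (q : G ⧸ N) (a b : MonoidAlgebra k G) :
    cosetPart N q (a + b) = cosetPart N q a + cosetPart N q b := by
  ext g
  simp only [coeff_cosetPart, coeff_add, Finsupp.add_apply]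
  split_ifs <;> simp

theorem cosetPart_sum {ι : Type*} (q : G ⧸ N) (s : Finset ι) (f : ι → MonoidAlgebra k G) :
    cosetPart N q (∑ i ∈ s, f i) = ∑ i ∈ s, cosetPart N q (f i) := by
  classical
  ext g
  simp only [coeff_cosetPart, coeff_sum, Finsupp.finsetSum_apply]
  split_ifs <;> simp

theorem cosetPart_one_mem (a : MonoidAlgebra k G) : cosetPart N 1 a ∈ suppAlg k N := fun g hg =>
  (QuotientGroup.eq_one_iff g).1 (inCoset_cosetPart N 1 a g hg)

theorem cosetPart_self {q : G ⧸ N} {a : MonoidAlgebra k G} (ha : InCoset N q a) :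
    cosetPart N q a = a := by
  ext g
  rw [coeff_cosetPart]
  split_ifs with hg
  · rfl
  · exact (not_not.1 fun hne => hg (ha g hne)).symm

/-- Multiplication by `e ∈ k[N]` commutes with taking a coset part. -/
theorem cosetPart_mul_left {e : MonoidAlgebra k G} (he : e ∈ suppAlg k N) (q : G ⧸ N)
    (a : MonoidAlgebra k G) : cosetPart N q (e * a) = e * cosetPart N q a := by
  classical
  let _ : Fintype (G ⧸ N) := Fintype.ofFinite _
  have he1 : InCoset N 1 e := fun g hg => (QuotientGroup.eq_one_iff g).2 (he g hg)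
  conv_lhs => rw [← sum_cosetPart N a, Finset.mul_sum, cosetPart_sum]
  rw [Finset.sum_eq_single q]
  · refine cosetPart_self N ?_
    simpa using he1.mul N (inCoset_cosetPart N q a)
  · intro r _ hr
    refine cosetPart_of_inCoset N (he1.mul N (inCoset_cosetPart N r a)) ?_
    rw [one_mul]; exact fun h => hr h.symm
  · simp

theorem isNilpotent_of_forall_cosetPart {u : MonoidAlgebra k G} (hu : u ∈ fixAlg k N)
    (h : ∀ w ∈ fixAlg k N, IsNilpotent (cosetPart N 1 (u * w))) : IsNilpotent u := by
  classical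
  let _ : Fintype (G ⧸ N) := Fintype.ofFinite _
  set A := suppAlg k N ⊓ fixAlg k N with hA
  letI : CommRing A := { (inferInstance : Ring A) with
    mul_comm := fun a b => Subtype.ext (commute_of_supp_fix a.2.1 b.2.2).eq }
  haveI : Module.Finite k (MonoidAlgebra k G) :=
    Module.Finite.equiv (MonoidAlgebra.coeffLinearEquiv k).symm
  haveI : FiniteDimensional k A := FiniteDimensional.finiteDimensional_submodule (Subalgebra.toSubmodule A)
  haveI : IsArtinianRing A := IsArtinianRing.of_finite k A
  obtain ⟨r, hr⟩ := IsArtinianRing.isNilpotent_nilradical (R := A)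
  set J := nilradical A with hJ
  -- words in the homogeneous components
  let wrd : List (G ⧸ N) → MonoidAlgebra k G := fun l =>
    (l.map fun q => cosetPart N q u).prod
  have hwrd_app : ∀ l l', wrd (l ++ l') = wrd l * wrd l' := fun l l' => by
    simp [wrd, List.map_append, List.prod_append]
  have hwrd : ∀ l, InCoset N l.prod (wrd l) ∧ wrd l ∈ fixAlg k N := by
    intro l
    induction l with
    | nil => exact ⟨inCoset_one N, (fixAlg k N).one_mem⟩
    | cons q l ih =>
      simp only [wrd, List.map_cons, List.prod_cons]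
      exact ⟨(inCoset_cosetPart N q u).mul N ih.1,
        (fixAlg k N).mul_mem (cosetPart_mem_fixAlg N hu q) ih.2⟩
  have hseg : ∀ l : List (G ⧸ N), l ≠ [] → l.prod = 1 →
      ∃ y ∈ J, (y : MonoidAlgebra k G) = wrd l := by
    intro l hne hl
    obtain ⟨q, l', rfl⟩ := List.exists_cons_of_ne_nil hne
    have hsupp : wrd (q :: l') ∈ suppAlg k N := fun g hg =>
      (QuotientGroup.eq_one_iff g).1 (hl ▸ (hwrd _).1 g hg)
    refine ⟨⟨wrd (q :: l'), hsupp, (hwrd _).2⟩, ?_, rfl⟩
    have heq : cosetPart N 1 (u * wrd l') = wrd (q :: l') := by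
      conv_lhs => rw [← sum_cosetPart N u, Finset.sum_mul, cosetPart_sum]
      rw [Finset.sum_eq_single q]
      · have h1 := (inCoset_cosetPart N q u).mul N (hwrd l').1
        rw [← List.prod_cons, hl] at h1
        rw [cosetPart_self N h1]
        simp [wrd]
      · intro s _ hs
        refine cosetPart_of_inCoset N ((inCoset_cosetPart N s u).mul N (hwrd l').1) fun hh => hs ?_
        rw [List.prod_cons] at hl
        exact mul_right_cancel (hh.symm.trans hl.symm)
      · simp
    obtain ⟨n, hn⟩ := h (wrd l') (hwrd l').2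
    rw [heq] at hn
    exact mem_nilradical.2 ⟨n, Subtype.ext (by simpa using hn)⟩
  have hmany : ∀ (t : ℕ) (l : List (G ⧸ N)) (i : ℕ) (S : Finset ℕ), i ≤ l.length →
      (∀ j ∈ S, i < j ∧ j ≤ l.length ∧ (l.take j).prod = (l.take i).prod) → t ≤ S.card →
      ∃ y ∈ J ^ t, ∃ b, wrd (l.drop i) = (y : MonoidAlgebra k G) * b := by
    intro t
    induction t with
    | zero => exact fun l i S _ _ _ => ⟨1, by simp, wrd (l.drop i), by simp⟩
    | succ t ih =>
      intro l i S hi hS hcard
      have hne : S.Nonempty := Finset.card_pos.1 (by omega)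
      set j := S.min' hne with hj
      obtain ⟨hij, hjl, hjp⟩ := hS j (S.min'_mem hne)
      obtain ⟨y, hy, b, hb⟩ := ih l j (S.erase j) hjl (fun m hm => by
        obtain ⟨hmj, hmS⟩ := Finset.mem_erase.1 hm
        obtain ⟨-, hml, hmp⟩ := hS m hmS
        exact ⟨lt_of_le_of_ne (S.min'_le m hmS) (Ne.symm hmj), hml, hmp.trans hjp.symm⟩)
        (by rw [Finset.card_erase_of_mem (S.min'_mem hne)]; omega)
      have hseg' : ((l.drop i).take (j - i)).prod = 1 := by
        have h1 : l.take j = l.take i ++ (l.drop i).take (j - i) := by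
          rw [show j = i + (j - i) by omega, List.take_add, Nat.add_sub_cancel_left]
        have h2 := hjp
        rw [h1, List.prod_append] at h2
        exact mul_eq_left.1 h2
      obtain ⟨z, hz, hzw⟩ := hseg ((l.drop i).take (j - i))
        (by
          intro hnil
          have := congrArg List.length hnil
          simp only [List.length_take, List.length_drop, List.length_nil] at this
          omega) hseg'
      refine ⟨z * y, by rw [pow_succ']; exact Ideal.mul_mem_mul hz hy, b, ?_⟩
      have h3 : l.drop i = (l.drop i).take (j - i) ++ l.drop j := by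
        conv_lhs => rw [← List.take_append_drop (j - i) (l.drop i), List.drop_drop]
        congr 2
        omega
      rw [h3, hwrd_app, hb, ← hzw, ← mul_assoc]
      rfl
  have hvanish : ∀ l : List (G ⧸ N), l.length = Fintype.card (G ⧸ N) * (r + 1) → wrd l = 0 := by
    intro l hl
    obtain ⟨c, -, hc⟩ := Finset.exists_lt_card_fiber_of_mul_lt_card_of_maps_to
      (s := Finset.range (l.length + 1)) (t := (Finset.univ : Finset (G ⧸ N)))
      (f := fun j => (l.take j).prod) (n := r + 1) (fun _ _ => Finset.mem_univ _)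
      (by rw [Finset.card_univ, Finset.card_range, hl]; omega)
    set S := (Finset.range (l.length + 1)).filter fun j => (l.take j).prod = c
    have hne : S.Nonempty := Finset.card_pos.1 (by omega)
    set i := S.min' hne with hi
    have him := Finset.mem_filter.1 (S.min'_mem hne)
    obtain ⟨y, hy, b, hb⟩ := hmany r l i (S.erase i) (by have := Finset.mem_range.1 him.1; omega)
      (fun j hj => by
        obtain ⟨hji, hjS⟩ := Finset.mem_erase.1 hj
        have hjm := Finset.mem_filter.1 hjS
        exact ⟨lt_of_le_of_ne (S.min'_le j hjS) (Ne.symm hji),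
          by have := Finset.mem_range.1 hjm.1; omega, hjm.2.trans him.2.symm⟩)
      (by rw [Finset.card_erase_of_mem (S.min'_mem hne)]; omega)
    rw [hr, Ideal.zero_eq_bot, Ideal.mem_bot] at hy
    rw [← List.take_append_drop i l, hwrd_app, hb, hy]
    simp
  refine ⟨Fintype.card (G ⧸ N) * (r + 1), ?_⟩
  have hpow : ∀ m : ℕ, u ^ m ∈
      AddSubmonoid.closure {x | ∃ l : List (G ⧸ N), l.length = m ∧ x = wrd l} := by
    intro m
    induction m with
    | zero => exact AddSubmonoid.subset_closure ⟨[], rfl, by simp [wrd]⟩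
    | succ m ih =>
      rw [pow_succ']
      refine AddSubmonoid.closure_induction (motive := fun x _ => u * x ∈
        AddSubmonoid.closure {x | ∃ l : List (G ⧸ N), l.length = m + 1 ∧ x = wrd l}) ?_ ?_ ?_ ih
      · intro x hx
        obtain ⟨l, hl, rfl⟩ := hx
        rw [show u * wrd l = ∑ q : G ⧸ N, cosetPart N q u * wrd l by
          rw [← Finset.sum_mul, sum_cosetPart]]
        exact sum_mem fun q _ => AddSubmonoid.subset_closure
          ⟨q :: l, by simp [hl], by simp [wrd]⟩
      · rw [mul_zero]; exact zero_mem _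
      · intro x y _ _ hx hy; rw [mul_add]; exact add_mem hx hy
  have hle : AddSubmonoid.closure {x : MonoidAlgebra k G |
      ∃ l : List (G ⧸ N), l.length = Fintype.card (G ⧸ N) * (r + 1) ∧ x = wrd l} ≤ ⊥ := by
    rw [AddSubmonoid.closure_le]
    rintro x ⟨l, hl, rfl⟩
    exact AddSubmonoid.mem_bot.2 (hvanish l hl)
  exact AddSubmonoid.mem_bot.1 (hle (hpow _))

variable {p : ℕ} [CharP k p] [Fact p.Prime]

/-- An idempotent under a block of the normal subgroup has nonzero Brauer image at its defect
groups. -/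
theorem brMap_ne_zero_of_normal {e u : MonoidAlgebra k G} (he : IsBlockIdem N e) {D : Subgroup G}
    (hD : IsPGroup p D) (hDN : D ≤ N) (hTr : InTr (⊥ : Subgroup G) D N e)
    (hbr : brMap k D e ≠ 0) (huf : u ∈ fixAlg k N) (huu : u * u = u) (hu0 : u ≠ 0)
    (heu : e * u = u) (hue : u * e = u) : brMap k D u ≠ 0 := by
  classical
  intro h0
  obtain ⟨a, has, haD, hae⟩ := hTr
  have hconj : ∀ t ∈ N, ∀ S : Subgroup G, S < D → ¬ D ≤ S.map (MulAut.conj t).toMonoidHom := by
    intro t _ S hS hle
    have h1 := (Subgroup.card_le_of_le hle).trans_eq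
      (Subgroup.card_map_of_injective (MulAut.conj t).injective)
    exact hS.ne (Subgroup.eq_of_le_of_card_ge hS.le h1)
  -- traces of multiples of `u` have no Brauer image inside `k[N]`
  let J : AddSubmonoid (MonoidAlgebra k G) :=
    { carrier := {x | ∀ w ∈ fixAlg k N,
        brMap k D (cosetPart N 1 (relTr k D N (x * a) * w)) = 0}
      zero_mem' := fun w _ => by
        rw [zero_mul, relTr_zero, zero_mul]
        rw [show cosetPart N 1 (0 : MonoidAlgebra k G) = 0 by ext g; simp [coeff_cosetPart], map_zero]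
      add_mem' := fun {x y} hx hy w hw => by
        rw [add_mul, relTr_add, add_mul, cosetPart_add, map_add, hx w hw, hy w hw, add_zero] }
  have huJ : u ∈ J := by
    refine mem_of_brMap_eq_zero (Q := (⊥ : Subgroup G)) (R := D) bot_le
      (fun x _ y => by simp) J ?_ (by rw [cz_bot]; exact mem_suppAlg_top _)
      (fixAlg_anti hDN huf) h0
    intro S _ hS b _ hb w hw
    have hbaS : b * a ∈ fixAlg k S := (fixAlg k S).mul_mem hb (fixAlg_anti hS.le haD)
    have hwS : w ∈ fixAlg k S := fixAlg_anti (hS.le.trans hDN) hw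
    rw [relTr_mul_right (T := D) haD, relTr_relTr hS.le hDN hbaS, relTr_mul_right (T := N) hw]
    have hlin : cosetPart N 1 (relTr k S N (b * a * w)) =
        relTr k S N (cosetPart N 1 (b * a * w)) := by
      rw [relTr_eq_sum, relTr_eq_sum, cosetPart_sum]
      refine Finset.sum_congr rfl fun q _ => ?_
      ext g
      simp only [coeff_cosetPart, coeff_conjA]
      refine if_congr ?_ rfl rfl
      simp only [QuotientGroup.mk_mul, QuotientGroup.mk_inv,
        (QuotientGroup.eq_one_iff ((q.out : N) : G)).2 (q.out).2, inv_one, one_mul, mul_one]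
    rw [hlin]
    refine brMap_relTr_eq_zero hD hDN ?_ fun t ht => hconj t ht S hS
    have hbaw : b * a * w ∈ fixAlg k S := (fixAlg k S).mul_mem hbaS hwS
    intro s hs
    have hsN : ((s : G) : G ⧸ N) = 1 := (QuotientGroup.eq_one_iff s).2 (hDN (hS.le hs))
    ext g
    simp only [coeff_cosetPart, coeff_conjA, QuotientGroup.mk_mul, QuotientGroup.mk_inv, hsN,
      inv_one, one_mul, mul_one]
    rw [show (b * a * w).coeff (s⁻¹ * g * s) = (b * a * w).coeff g by
      conv_rhs => rw [← hbaw s hs, coeff_conjA]]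
  have htr : relTr k D N (u * a) = u := by rw [← relTr_mul_left huf, hae, hue]
  have hzero : ∀ w ∈ fixAlg k N, brMap k D (cosetPart N 1 (u * w)) = 0 := fun w hw => by
    have := huJ w hw
    rwa [htr] at this
  apply hu0
  refine eq_zero_of_nilpotent_idem (isNilpotent_of_forall_cosetPart N huf fun w hw => ?_) huu
  set x := cosetPart N 1 (u * w) with hx
  have hxs : x ∈ suppAlg k N := cosetPart_one_mem N _
  have hxf : x ∈ fixAlg k N := cosetPart_mem_fixAlg N ((fixAlg k N).mul_mem huf hw) 1
  have hex : e * x = x := by rw [hx, ← cosetPart_mul_left N he.supp, ← mul_assoc, heu]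
  have hxe : x * e = x := by rw [(commute_of_supp_fix hxs he.fixed).eq, hex]
  obtain ⟨t, ht⟩ := he.locally x hxs hxf
  rw [hxe] at ht
  by_cases ht0 : t = 0
  · simpa [ht0] using ht
  · exfalso
    apply hbr
    obtain ⟨n, hn⟩ := ht
    have hfe : e ∈ fixAlg k D := fixAlg_anti hDN he.fixed
    have hfd : x - t • e ∈ fixAlg k D :=
      sub_mem (fixAlg_anti hDN hxf) ((fixAlg k D).smul_mem hfe t)
    have h1 : IsNilpotent (brMap k D (x - t • e)) :=
      ⟨n, by rw [← brMap_pow hD hfd, hn, map_zero]⟩
    rw [map_sub, map_smul, hzero w hw, zero_sub, ← neg_smul] at h1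
    have h2 := h1.smul (-t)⁻¹
    rw [smul_smul, inv_mul_cancel₀ (neg_ne_zero.2 ht0), one_smul] at h2
    exact eq_zero_of_nilpotent_idem h2 (by rw [← brMap_mul hD hfe hfe, he.idem])

end Graded

section Blocks

open CfsgLib.CharCorr CfsgLib.Characters

variable {p : ℕ} {M : Ideal AlgInt} [M.IsMaximal] {G : Type*} [Group G] [Fintype G] [Fact p.Prime]
  (N : Subgroup G) [N.Normal] [Fintype N] {B : Set (IrrCharacter G)} {c : Set (IrrCharacter N)}

omit [M.IsMaximal] [Fact p.Prime] in
theorem subgroupBlockCoeff_orbitSet_conj (c : Set (IrrCharacter N)) (a x : G) :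
    subgroupBlockCoeff N (BlockCover.orbitSet N c) (a * x * a⁻¹) =
      subgroupBlockCoeff N (BlockCover.orbitSet N c) x := by
  by_cases hx : x ∈ N
  · rw [← show ((⟨x, hx⟩ : N) : G) = x from rfl, subgroupBlockCoeff_coe,
      ← show ((⟨a * x * a⁻¹, ‹N.Normal›.conj_mem x hx a⟩ : N) : G) = a * x * a⁻¹ from rfl,
      subgroupBlockCoeff_coe]
    exact BlockCover.blockCoeff_orbitSet_conj N c a ⟨x, hx⟩
  · rw [subgroupBlockCoeff_notMem _ hx, subgroupBlockCoeff_notMem]
    exact fun h => hx (by simpa [mul_assoc] using ‹N.Normal›.conj_mem _ h a⁻¹)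

/-- A block not covering `c` annihilates the idempotent of `c`. -/
theorem covers_of_mul_ne_zero (hM : IsPModular p M) (hB : IsPBlock M B) (hc : IsPBlock M c)
    (hne : eG hM B * eA hM N c ≠ 0) :
    ∃ χ ∈ B, ∃ θ ∈ c, classInner (fun n : N => (χ : G → ℂ) n) (θ : N → ℂ) ≠ 0 := by
  classical
  by_contra hcon
  apply hne
  set O := BlockCover.orbitSet N c with hO
  set z := Blocks.ofFun (subgroupBlockCoeff N O) with hz
  have hzi : z = inclA ℂ N (Blocks.blockIdem O) := by
    ext g
    by_cases hg : g ∈ N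
    · rw [hz, Blocks.coeff_ofFun, ← show ((⟨g, hg⟩ : N) : G) = g from rfl, subgroupBlockCoeff_coe,
        coeff_inclA, Blocks.coeff_blockIdem]
    · rw [hz, Blocks.coeff_ofFun, subgroupBlockCoeff_notMem O hg, coeff_inclA_of_notMem _ hg]
  have hzc : z ∈ Subalgebra.center ℂ (MonoidAlgebra ℂ G) :=
    ofFun_mem_center (subgroupBlockCoeff_orbitSet_conj N c)
  have hBz : Blocks.blockIdem B * z = 0 := by
    refine Blocks.central_ext (mul_mem (Blocks.blockIdem_mem_center B) hzc)
      (Subalgebra.zero_mem _) fun χ => ?_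
    rw [Blocks.omega_mul χ (Blocks.blockIdem_mem_center B), Blocks.omega_blockIdem, map_zero]
    split_ifs with hχ
    · rw [one_mul, hz, Blocks.omega_ofFun]
      rw [← Finset.sum_subset (Finset.subset_univ (Finset.univ.filter (· ∈ N))) fun x _ hx => by
          rw [subgroupBlockCoeff_notMem O (by simpa using hx), zero_mul],
        Finset.sum_subtype (p := fun x => x ∈ N) (Finset.univ.filter (· ∈ N)) (by simp)
          (fun x => subgroupBlockCoeff N O x * (χ : G → ℂ) x)]
      have hn : ∀ n : N, (χ : G → ℂ) n = ∑ η : IrrCharacter N,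
          classInner ((χ : G → ℂ) ∘ N.subtype) (η : N → ℂ) * (η : N → ℂ) n := fun n => by
        simpa using congrFun (irr_res_eq_sum χ N.subtype) n
      simp only [subgroupBlockCoeff_coe, hn, Finset.mul_sum]
      rw [Finset.sum_comm, Finset.sum_eq_zero, zero_div]
      intro η _
      by_cases hη : η ∈ O
      · obtain ⟨g, θ, hθ, rfl⟩ := hη
        have h0 : classInner ((χ : G → ℂ) ∘ N.subtype) (conjIrr N g θ : N → ℂ) = 0 := by
          have he : classInner (fun n : N => (χ : G → ℂ) n) (conjIrr N g θ : N → ℂ) =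
              classInner (fun n : N => (χ : G → ℂ) n) (θ : N → ℂ) := by
            rw [← classInner_comp_equiv (MulAut.conjNormal g) (fun n : N => (χ : G → ℂ) n)
              (θ : N → ℂ)]
            congr 1
            funext n
            simp only [Function.comp_apply, MulAut.conjNormal_apply]
            exact (irr_isClassFunction χ (n : G) g).symm
          exact he.trans (not_not.1 fun h => hcon ⟨χ, hχ, θ, hθ, h⟩)
        exact Finset.sum_eq_zero fun n _ => by rw [h0, zero_mul, mul_zero]
      · have h := BlockCover.sum_blockCoeff_mul O η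
        rw [if_neg hη, div_eq_iff (irr_one_ne_zero η), zero_mul] at h
        rw [← Finset.sum_congr rfl fun n _ => (by ring :
          classInner ((χ : G → ℂ) ∘ N.subtype) (η : N → ℂ) *
            (blockCoeff O n * (η : N → ℂ) n) = _), ← Finset.mul_sum, h, mul_zero]
    · rw [zero_mul]
  have hzero : Blocks.blockIdem B * inclA ℂ N (Blocks.blockIdem c) = 0 := by
    rw [show Blocks.blockIdem c = Blocks.blockIdem O * Blocks.blockIdem c by
      rw [Blocks.blockIdem_mul, Set.inter_eq_right.2 (BlockCover.subset_orbitSet N c)],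
      map_mul, ← hzi, ← mul_assoc, hBz, zero_mul]
  have hBR : ∀ x, (Blocks.blockIdem B).coeff x ∈ Blocks.lRing hM := fun x => by
    rw [Blocks.coeff_blockIdem]; exact blockCoeff_mem hM hB x
  have hcoef : ∀ x, (inclA ℂ N (Blocks.blockIdem c)).coeff x = subgroupBlockCoeff N c x := by
    intro x
    by_cases hx : x ∈ N
    · rw [← show ((⟨x, hx⟩ : N) : G) = x from rfl, coeff_inclA, subgroupBlockCoeff_coe,
        Blocks.coeff_blockIdem]
    · rw [coeff_inclA_of_notMem _ hx, subgroupBlockCoeff_notMem c hx]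
  have h := redFun_mul hM hBR (b := inclA ℂ N (Blocks.blockIdem c))
    (fun x => by rw [hcoef]; exact subgroupBlockCoeff_mem hM hc x)
  rw [hzero, show ((Blocks.blockIdem B).coeff ·) = blockCoeff B from
    funext (Blocks.coeff_blockIdem B), show ((inclA ℂ N (Blocks.blockIdem c)).coeff ·) =
    subgroupBlockCoeff N c from funext hcoef] at h
  refine h.symm.trans ?_
  ext g
  rw [coeff_redFun hM (show ((0 : MonoidAlgebra ℂ G).coeff g) ∈ Blocks.lRing hM by simp)]
  exact (congrArg (resK hM) (Subtype.ext (show (0 : MonoidAlgebra ℂ G).coeff g = ((0 : Blocks.lRing hM) : ℂ) by simp))).trans (map_zero (resK hM))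

/-- A block covering `c` does not annihilate the idempotent of `c`. -/
theorem mul_ne_zero_of_covers (hM : IsPModular p M) (hB : IsPBlock M B) (hc : IsPBlock M c)
    (hcov : ∃ χ ∈ B, ∃ θ ∈ c, classInner (fun n : N => (χ : G → ℂ) n) (θ : N → ℂ) ≠ 0) :
    eG hM B * eA hM N c ≠ 0 := by
  classical
  intro h0
  have hb := isBlockIdem_eG hM hB
  obtain ⟨s, hs, hsum⟩ := hasBlocks hM (G := G) N
  obtain ⟨e, hes, hne⟩ : ∃ e ∈ s, eG hM B * e ≠ 0 := by
    by_contra hcon
    simp only [not_exists, not_and, not_not] at hcon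
    exact hb.ne_zero (by rw [← mul_one (eG hM B), ← hsum, Finset.mul_sum]; exact Finset.sum_eq_zero hcon)
  obtain ⟨c', hc', rfl⟩ := exists_eA_eq hM (hs e hes)
  obtain ⟨χ', hχ', θ', hθ', hθne'⟩ := covers_of_mul_ne_zero N hM hB hc' hne
  obtain ⟨χ, hχ, θ, hθ, hθne⟩ := hcov
  obtain ⟨g, θ₀, hθ₀, hg⟩ := BlockCover.mem_orbitSet_of_congr N hM hc hθ fun n =>
    BlockCover.induced_congr_of_cover N hM ((Blocks.IsPBlock.mem_iff hM hB hχ χ').1 hχ') hθne hθne' n
  have hK : ∀ k, k ∈ N ↔ g⁻¹⁻¹ * k * g⁻¹ ∈ N := fun k => by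
    rw [inv_inv]
    exact ⟨fun h => ‹N.Normal›.conj_mem k h g, fun h => by
      simpa [mul_assoc] using ‹N.Normal›.conj_mem _ h g⁻¹⟩
  have hmem : θ' ∈ twistIrr (conjEquiv g⁻¹ hK) '' c := by
    refine ⟨θ₀, hθ₀, ?_⟩
    rw [← hg, conjIrr]
    apply Subtype.ext
    funext n
    rw [twistIrr_apply, twistIrr_apply]
    exact congrArg _ (Subtype.ext (by simp [conjEquiv]))
  have heq : twistIrr (conjEquiv g⁻¹ hK) '' c = c' := by
    rw [Blocks.IsPBlock.eq_blockOf hM (isPBlock_twist _ hc) hmem,
      Blocks.IsPBlock.eq_blockOf hM hc' hθ']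
  apply hne
  rw [← heq, ← conjA_eA hM g⁻¹ hK c, ← hb.fixed g⁻¹ (Subgroup.mem_top _), ← conjA_mul, h0,
    conjA_zero]

theorem conjA_eA_isBlockIdem (hM : IsPModular p M) (hc : IsPBlock M c) (x : G) :
    IsBlockIdem N (conjA x (eA hM N c)) := by
  have := (isBlockIdem_eA hM hc).conjA x
  rwa [map_conj_eq_self (show x ∈ Subgroup.normalizer (N : Set G) by
    rw [Subgroup.normalizer_eq_top]; trivial)] at this

/-- A defect group fixes a covered block at which the Brauer image survives. -/
theorem exists_fixed_covered_block (hM : IsPModular p M) (hB : IsPBlock M B) {P : Subgroup G}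
    (hPp : IsPGroup p P) (hbr : brMap (ResK M) P (eG hM B) ≠ 0) :
    ∃ c : Set (IrrCharacter N), IsPBlock M c ∧ (∀ x ∈ P, conjA x (eA hM N c) = eA hM N c) ∧
      brMap (ResK M) P (eG hM B * eA hM N c) ≠ 0 := by
  classical
  have := charP_res hM
  have hb := isBlockIdem_eG hM hB
  obtain ⟨s, hs, hsum⟩ := hasBlocks hM (G := G) N
  have hmem : ∀ x : G, ∀ e ∈ s, conjA x e ∈ s := by
    intro x e he
    have hxe : IsBlockIdem N (conjA x e) := by
      obtain ⟨c, hc, rfl⟩ := exists_eA_eq hM (hs e he)
      exact conjA_eA_isBlockIdem N hM hc x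
    obtain ⟨e', he', hne⟩ : ∃ e' ∈ s, conjA x e * e' ≠ 0 := by
      by_contra hcon
      simp only [not_exists, not_and, not_not] at hcon
      exact hxe.ne_zero (by rw [← mul_one (conjA x e), ← hsum, Finset.mul_sum]
                            exact Finset.sum_eq_zero hcon)
    rwa [hxe.eq_of_mul_ne_zero (hs e' he') hne]
  obtain ⟨g, hg⟩ : ∃ g, (brMap (ResK M) P (eG hM B)).coeff g ≠ 0 := by
    by_contra hcon
    simp only [not_exists, not_not] at hcon
    exact hbr (by ext g; simp [hcon g])
  have hgP : g ∈ cz P := not_not.1 fun h => hg (coeff_brMap_of_notMem _ h)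
  let _ : MulAction P s :=
    { smul := fun u e => ⟨conjA (u : G) e.1, hmem _ _ e.2⟩
      one_smul := fun e => Subtype.ext (conjA_one_left e.1)
      mul_smul := fun u v e => Subtype.ext (conjA_mul_left _ _ _) }
  have hsum' : (brMap (ResK M) P (eG hM B)).coeff g =
      ∑ e : s, (eG hM B * e.1).coeff g := by
    rw [coeff_brMap_of_mem _ hgP]
    conv_lhs => rw [← mul_one (eG hM B), ← hsum, Finset.mul_sum, coeff_sum, Finsupp.finsetSum_apply]
    exact (Finset.sum_coe_sort s fun e => (eG hM B * e).coeff g).symm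
  rw [hsum', sum_eq_sum_fixedPoints (p := p) hPp] at hg
  · obtain ⟨e, he, hne⟩ := Finset.exists_ne_zero_of_sum_ne_zero hg
    obtain ⟨c, hc, hce⟩ := exists_eA_eq hM (hs e.1 e.2)
    refine ⟨c, hc, fun x hx => ?_, fun h => hne ?_⟩
    · rw [hce]
      exact congrArg Subtype.val ((Finset.mem_filter.1 he).2 ⟨x, hx⟩)
    · rw [← coeff_brMap_of_mem (Q := P) _ hgP, ← hce, h]
      rfl
  · intro u e
    show (eG hM B * conjA (u : G) e.1).coeff g = _
    rw [← hb.fixed (u : G) (Subgroup.mem_top _), ← conjA_mul, coeff_conjA,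
      hb.fixed (u : G) (Subgroup.mem_top _), mul_assoc, ← mem_cz.1 hgP u u.2, inv_mul_cancel_left]

/-- At every defect group of a covered block the Brauer image of the covering block survives. -/
theorem brMap_ne_zero_of_cover (hM : IsPModular p M) (hB : IsPBlock M B) (hc : IsPBlock M c)
    (hne : eG hM B * eA hM N c ≠ 0) {D : Subgroup N}
    (hD : IsDefect p (⊥ : Subgroup N) (eG hM c) ⊤ D) :
    brMap (ResK M) (D.map N.subtype) (eG hM B) ≠ 0 := by
  have := charP_res hM
  have hb := isBlockIdem_eG hM hB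
  have he := isBlockIdem_eA hM hc
  have hbf : eG hM B ∈ fixAlg (ResK M) N := fixAlg_anti le_top hb.fixed
  have hcomm : eA hM N c * eG hM B = eG hM B * eA hM N c :=
    ((commute_of_supp_fix (mem_suppAlg_top _) hb.fixed)).eq
  have hTr : InTr (⊥ : Subgroup G) (D.map N.subtype) N (eA hM N c) := by
    obtain ⟨a, -, haD, hae⟩ := hD.inTr
    refine ⟨inclA (ResK M) N a, by rw [cz_bot]; exact mem_suppAlg_top _, inclA_mem_fixAlg haD, ?_⟩
    rw [← inclA_eG, ← hae, inclA_relTr haD, ← MonoidHom.range_eq_map, Subgroup.range_subtype]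
  have hbr : brMap (ResK M) (D.map N.subtype) (eA hM N c) ≠ 0 := by
    rw [← inclA_eG, ← inclA_brMap]
    exact fun h => hD.br_ne (inclA_injective N (by rw [h, map_zero]))
  have h := brMap_ne_zero_of_normal N he (hD.pgroup.map N.subtype) (Subgroup.map_subtype_le D) hTr hbr
    ((fixAlg (ResK M) N).mul_mem hbf he.fixed)
    (by rw [mul_assoc, ← mul_assoc (eA hM N c), hcomm, mul_assoc, he.idem, ← mul_assoc, hb.idem])
    hne (by rw [← mul_assoc, hcomm, mul_assoc, he.idem]) (by rw [mul_assoc, he.idem])
  intro h0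
  apply h
  rw [brMap_mul (hD.pgroup.map _) (fixAlg_anti (Subgroup.map_subtype_le D) hbf)
    (fixAlg_anti (Subgroup.map_subtype_le D) he.fixed), h0, zero_mul]

/-- The trace of a defect group of a block on a normal subgroup is the defect group of a covered
block it fixes. -/
theorem exists_covered_defect (hM : IsPModular p M) (hB : IsPBlock M B) {P : Subgroup G}
    (hP : IsDefectGroup p M B P) :
    ∃ c : Set (IrrCharacter N), IsPBlock M c ∧ (∀ x ∈ P, conjA x (eA hM N c) = eA hM N c) ∧
      brMap (ResK M) P (eG hM B * eA hM N c) ≠ 0 ∧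
      IsDefectGroup p M c ((P ⊓ N).subgroupOf N) := by
  classical
  have := charP_res hM
  have hPd := (isDefectGroup_iff hM hB P).1 hP
  have hS := brSetup_block (p := p) hM hB
  obtain ⟨c, hc, hfix, hbr⟩ := exists_fixed_covered_block N hM hB hPd.pgroup hPd.br_ne
  refine ⟨c, hc, hfix, hbr, ?_⟩
  have hne : eG hM B * eA hM N c ≠ 0 := fun h => hbr (by rw [h, map_zero])
  obtain ⟨D, hD'⟩ := exists_defectGroup hM hc
  have hD := (isDefectGroup_iff hM hc D).1 hD'
  set R := (P ⊓ N).subgroupOf N with hR
  have hmap : R.map N.subtype = P ⊓ N := Subgroup.map_subgroupOf_eq_of_le inf_le_right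
  refine (isDefectGroup_iff hM hc R).2 ((brSetup_block hM hc).isDefect_of_card hD
    (hPd.pgroup.to_le inf_le_left).comap_subtype le_top ?_ ?_)
  · intro h
    have hbf : eG hM B ∈ fixAlg (ResK M) P := fixAlg_anti le_top (isBlockIdem_eG hM hB).fixed
    have h2 : brMap (ResK M) P (eA hM N c) ≠ 0 := fun h3 => hbr (by
      rw [brMap_mul hPd.pgroup hbf hfix, h3, mul_zero])
    refine brMap_ne_zero_of_le (inf_le_left : P ⊓ N ≤ P) h2 ?_
    rw [← inclA_eG, ← hmap, ← inclA_brMap, h, map_zero]
  · obtain ⟨t, -, ht⟩ := hS.exists_le_conj hPd.inTr (hD.pgroup.map N.subtype) le_top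
      (brMap_ne_zero_of_cover N hM hB hc hne hD)
    have hle : D.map N.subtype ≤ (P ⊓ N).map (MulAut.conj t).toMonoidHom := by
      intro y hy
      obtain ⟨z, hz, rfl⟩ := ht hy
      refine ⟨z, ⟨hz, ?_⟩, rfl⟩
      have h1 : (MulAut.conj t).toMonoidHom z ∈ N := Subgroup.map_subtype_le _ hy
      simpa [mul_assoc] using ‹N.Normal›.conj_mem _ h1 t⁻¹
    have h2 := Subgroup.card_le_of_le hle
    rw [Subgroup.card_map_of_injective N.subtype_injective,
      Subgroup.card_map_of_injective (MulAut.conj t).injective, ← hmap,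
      Subgroup.card_map_of_injective N.subtype_injective] at h2
    exact h2

/-- Over a covering block with defect group inside `N`, only `N` stabilises `c` inside a normal
overgroup of `p`-power index. -/
theorem mem_of_stabilizes (hM : IsPModular p M) (hB : IsPBlock M B) (hc : IsPBlock M c)
    (hne : eG hM B * eA hM N c ≠ 0) {L : Subgroup G} [L.Normal] (hNL : N ≤ L) {n : ℕ}
    (hLN : (N.subgroupOf L).index = p ^ n) {D : Subgroup G} (hD : IsDefectGroup p M B D)
    (hDN : D ≤ N) {x : G} (hxL : x ∈ L) (hx : conjA x (eA hM N c) = eA hM N c) : x ∈ N := by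
  classical
  have hp : p.Prime := Fact.out
  have := charP_res hM
  let _ : Fintype L := Fintype.ofFinite _
  set e := eA hM N c with hedef
  have he : IsBlockIdem N e := isBlockIdem_eA hM hc
  have hb := isBlockIdem_eG hM hB
  have hDd := (isDefectGroup_iff hM hB D).1 hD
  obtain ⟨s, hs, hsum⟩ := hasBlocks hM (G := G) L
  obtain ⟨e', he's, hprod⟩ : ∃ e' ∈ s, eG hM B * e' * e ≠ 0 := by
    by_contra hcon
    simp only [not_exists, not_and, not_not] at hcon
    exact hne (by rw [← mul_one (eG hM B), ← hsum, Finset.mul_sum, Finset.sum_mul]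
                  exact Finset.sum_eq_zero hcon)
  obtain ⟨f, hf, rfl⟩ := exists_eA_eq hM (hs e' he's)
  have he' := isBlockIdem_eA hM hf
  have hregN : eA hM L f ∈ suppAlg (ResK M) N := by
    intro y hy
    by_contra hyN
    have hyL := he'.supp y hy
    apply hy
    have hsing : p ∣ orderOf (⟨y, hyL⟩ : L) := by
      by_contra hreg
      apply hyN
      have hxp := pow_index_mem_of_normal (N.subgroupOf L) (⟨y, hyL⟩ : L)
      rw [hLN] at hxp
      exact Subgroup.mem_subgroupOf.1 (mem_of_pow_mem (a := orderOf (⟨y, hyL⟩ : L)) (b := p ^ n)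
        ((hp.coprime_iff_not_dvd.2 hreg).symm.pow_right n)
        (by rw [pow_orderOf_eq_one]; exact (N.subgroupOf L).one_mem) hxp)
    have h0 : subgroupBlockCoeff L f y = 0 :=
      (subgroupBlockCoeff_coe L f ⟨y, hyL⟩).trans
        (Blocks.blockCoeff_eq_zero_of_singular hM hf hsing)
    rw [eA, coeff_redFun (h := by rw [h0]; exact Subring.zero_mem _)]
    simp only [h0]
    exact map_zero (resK hM)
  have hee : eA hM L f * e = e :=
    (he.mul_idem hregN (fixAlg_anti hNL he'.fixed) he'.idem).resolve_left fun h =>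
      hprod (by rw [mul_assoc, h, mul_zero])
  obtain ⟨D', hD'⟩ := exists_defectGroup hM hf
  have hD'd := (isDefectGroup_iff hM hf D').1 hD'
  have hD'N : D'.map L.subtype ≤ N := by
    obtain ⟨t, -, ht⟩ := (brSetup_block (p := p) hM hB).exists_le_conj hDd.inTr
      (hD'd.pgroup.map L.subtype) le_top
      (brMap_ne_zero_of_cover L hM hB hf (fun h => hprod (by rw [h, zero_mul])) hD'd)
    intro y hy
    obtain ⟨z, hz, rfl⟩ := ht hy
    exact ‹N.Normal›.conj_mem z (hDN hz) t
  obtain ⟨a, -, haD, hae⟩ := hD'd.inTr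
  set b := relTr (ResK M) (D'.map L.subtype) N (inclA (ResK M) L a) with hbdef
  have hbN : b ∈ fixAlg (ResK M) N := relTr_mem_fixAlg (inclA_mem_fixAlg haD)
  have hbe : relTr (ResK M) N L b = eA hM L f := by
    rw [hbdef, relTr_relTr hD'N hNL (inclA_mem_fixAlg haD), ← inclA_eG, ← hae, inclA_relTr haD,
      ← MonoidHom.range_eq_map, Subgroup.range_subtype]
  set β := cosetPart N 1 b with hβ
  have hβf : β ∈ fixAlg (ResK M) N := cosetPart_mem_fixAlg N hbN 1
  have hβs : β ∈ suppAlg (ResK M) N := cosetPart_one_mem N b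
  have hconjπ : ∀ u : G, ∀ a : MonoidAlgebra (ResK M) G,
      conjA u (cosetPart N 1 a) = cosetPart N 1 (conjA u a) := by
    intro u a
    ext g
    simp only [coeff_conjA, coeff_cosetPart]
    refine if_congr ?_ rfl rfl
    rw [QuotientGroup.mk_mul, QuotientGroup.mk_mul, QuotientGroup.mk_inv]
    constructor
    · intro h
      have h2 := congrArg (fun z => (u : G ⧸ N) * z * (u : G ⧸ N)⁻¹) h
      simpa [mul_assoc] using h2
    · intro h
      rw [h, mul_one, inv_mul_cancel]
  have hsumq : e = ∑ q : L ⧸ N.subgroupOf L, conjA ((q.out : L) : G) β * e := by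
    have h1 : cosetPart N 1 (eA hM L f) = eA hM L f := cosetPart_self N fun g hg =>
      (QuotientGroup.eq_one_iff g).2 (hregN g hg)
    conv_lhs => rw [← hee, ← h1, ← hbe, relTr_eq_sum, cosetPart_sum, Finset.sum_mul]
    exact Finset.sum_congr rfl fun q _ => by rw [hβ, hconjπ]
  -- scalars of the conjugates
  have hconjs : ∀ u : G, conjA u β ∈ suppAlg (ResK M) N ∧ conjA u β ∈ fixAlg (ResK M) N := by
    intro u
    refine ⟨fun y hy => ?_, fun v hv => ?_⟩
    · rw [coeff_conjA] at hy
      simpa [mul_assoc] using ‹N.Normal›.conj_mem _ (hβs _ hy) u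
    · rw [← conjA_mul_left, show v * u = u * (u⁻¹ * v * u) by group, conjA_mul_left,
        hβf _ (by simpa using ‹N.Normal›.conj_mem v hv u⁻¹)]
  choose t ht using fun u : G => he.locally _ (hconjs u).1 (hconjs u).2
  have hcommn : ∀ u v : G, Commute (conjA u β * e - t u • e) (conjA v β * e - t v • e) := fun u v =>
    commute_of_supp_fix (sub_mem (mul_mem (hconjs u).1 he.supp) (Subalgebra.smul_mem _ he.supp _))
      (sub_mem (mul_mem (hconjs v).2 he.fixed) (Subalgebra.smul_mem _ he.fixed _))
  by_contra hxN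
  -- a `p`-element outside `N` stabilising `c`
  obtain ⟨a', m, hm, hord⟩ :=
    Nat.exists_eq_pow_mul_and_not_dvd (orderOf_pos (⟨x, hxL⟩ : L)).ne' p hp.ne_one
  set y := x ^ m with hy
  have hyL : y ∈ L := L.pow_mem hxL m
  have hyN : y ∉ N := by
    intro h
    have hxp := pow_index_mem_of_normal (N.subgroupOf L) (⟨x, hxL⟩ : L)
    rw [hLN, Subgroup.mem_subgroupOf] at hxp
    exact hxN (mem_of_pow_mem (a := m) (b := p ^ n)
      ((hp.coprime_iff_not_dvd.2 hm).symm.pow_right n) h hxp)
  have hye : conjA y e = e := by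
    rw [hy]
    clear hyN hy hyL hord hm
    clear_value e
    induction m with
    | zero => simp
    | succ m ih => rw [pow_succ, conjA_mul_left, hx, ih]
  have hyp : IsPGroup p (Subgroup.zpowers (⟨y, hyL⟩ : L)) := by
    have h1 : orderOf (⟨y, hyL⟩ : L) ∣ p ^ a' := orderOf_dvd_of_pow_eq_one (by
      rw [show (⟨y, hyL⟩ : L) = (⟨x, hxL⟩ : L) ^ m from Subtype.ext rfl, ← pow_mul, mul_comm,
        ← hord, pow_orderOf_eq_one])
    obtain ⟨i, -, hi⟩ := (Nat.dvd_prime_pow hp).1 h1
    exact IsPGroup.of_card (by rw [Nat.card_zpowers, hi])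
  have hzero : ∑ q : L ⧸ N.subgroupOf L, t ((q.out : L) : G) = 0 := by
    rw [sum_eq_sum_fixedPoints (p := p) hyp]
    · refine Finset.sum_eq_zero fun q hq => absurd (Finset.mem_filter.1 hq).2 fun hfix => hyN ?_
      have h1 := hfix ⟨⟨y, hyL⟩, Subgroup.mem_zpowers _⟩
      obtain ⟨z, rfl⟩ := QuotientGroup.mk_surjective q
      change ((((⟨y, hyL⟩ : L) * z : L)) : L ⧸ N.subgroupOf L) = (z : L ⧸ N.subgroupOf L) at h1
      rw [QuotientGroup.mk_mul, mul_eq_right, QuotientGroup.eq_one_iff,
        Subgroup.mem_subgroupOf] at h1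
      exact h1
    · rintro ⟨u, hu⟩ q
      have hue : conjA (u : G) e = e := by
        have hle : Subgroup.zpowers (⟨y, hyL⟩ : L) ≤ (pairStab N e).subgroupOf L :=
          Subgroup.zpowers_le.2 (Subgroup.mem_subgroupOf.2 ⟨by
            rw [Subgroup.normalizer_eq_top]; trivial, hye⟩)
        exact (Subgroup.mem_subgroupOf.1 (hle hu)).2
      obtain ⟨z, rfl⟩ := QuotientGroup.mk_surjective q
      change t (((((u * z : L)) : L ⧸ N.subgroupOf L).out : L) : G) = t (((z : L ⧸ N.subgroupOf L).out : L) : G)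
      have hout : ∀ v : L, conjA (((v : L ⧸ N.subgroupOf L).out : L) : G) β = conjA (v : G) β :=
        fun v => conjA_out_eq hβf v
      set A := (((z : L ⧸ N.subgroupOf L).out : L) : G)
      set A' := (((((u * z : L)) : L ⧸ N.subgroupOf L).out : L) : G)
      have hA : conjA A' β = conjA (u : G) (conjA A β) := by
        rw [hout, hout, Subgroup.coe_mul, conjA_mul_left]
      have h1 : IsNilpotent (conjA A' β * e - t A • e) := by
        obtain ⟨i, hi⟩ := ht A
        refine ⟨i, ?_⟩
        rw [show conjA A' β * e - t A • e = conjA (u : G) (conjA A β * e - t A • e) by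
          rw [hA, show conjA (u : G) (conjA A β * e - t A • e) = conjA (u : G) (conjA A β * e) - conjA (u : G) (t A • e) from map_sub (conjHom (u : G)) _ _, conjA_mul, conjA_smul, hue], ← conjA_pow, hi, conjA_zero]
      have hcomm : Commute (conjA A' β * e - t A • e) (conjA A' β * e - t A' • e) :=
        commute_of_supp_fix
          (sub_mem (mul_mem (hconjs A').1 he.supp) (Subalgebra.smul_mem _ he.supp _))
          (sub_mem (mul_mem (hconjs A').2 he.fixed) (Subalgebra.smul_mem _ he.fixed _))
      have h2 := hcomm.isNilpotent_sub h1 (ht A')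
      rw [sub_sub_sub_cancel_left, ← sub_smul] at h2
      by_contra hne'
      have h3 := h2.smul (t A' - t A)⁻¹
      rw [smul_smul, inv_mul_cancel₀ (sub_ne_zero.2 hne'), one_smul] at h3
      exact he.ne_zero (eq_zero_of_nilpotent_idem h3 he.idem)
  apply he.ne_zero
  refine eq_zero_of_nilpotent_idem ?_ he.idem
  have h1 : IsNilpotent (∑ q : L ⧸ N.subgroupOf L,
      (conjA ((q.out : L) : G) β * e - t ((q.out : L) : G) • e)) :=
    Commute.isNilpotent_sum (fun q _ => ht _) fun q r _ _ => hcommn _ _
  rwa [Finset.sum_sub_distrib, ← hsumq, ← Finset.sum_smul, hzero, zero_smul, sub_zero] at h1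

end Blocks

end CfsgLib.BrauerPairs
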