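import Cfsg.Agent.Lib.BrauerPairs.Nilpotent
import Cfsg.Agent.Lib.Blocks.CentralChar

/-!
# The principal block and its Brauer pairs
-/

namespace CfsgLib.BrauerPairs

open Cfsg MonoidAlgebra Cfsg.FusionSystem

set_option linter.unusedSectionVars false

section Algebra

variable (k : Type*) [Field k] (G : Type*) [Group G]

/-- The augmentation. -/
noncomputable def aug : MonoidAlgebra k G →ₐ[k] k := MonoidAlgebra.lift k k G 1

variable {k G} [Fintype G] {p : ℕ}

theorem aug_eq_sum (a : MonoidAlgebra k G) : aug k G a = ∑ x, a.coeff x := by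
  rw [aug, MonoidAlgebra.lift_apply]
  simp only [MonoidHom.one_apply, smul_eq_mul, mul_one]
  exact Finsupp.sum_fintype _ _ fun _ => rfl

theorem aug_conjA (g : G) (a : MonoidAlgebra k G) : aug k G (conjA g a) = aug k G a := by
  rw [aug_eq_sum, aug_eq_sum]
  refine Fintype.sum_equiv (MulAut.conj g⁻¹).toEquiv _ _ fun x => ?_
  rw [coeff_conjA]
  simp

theorem aug_inclA (H : Subgroup G) [Fintype H] (a : MonoidAlgebra k H) :
    aug k G (inclA k H a) = aug k H a := by
  show ((aug k G).comp (inclA k H)) a = aug k H a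
  congr 1
  ext x
  simp [inclA, aug]

theorem aug_idem {a : MonoidAlgebra k G} (ha : a * a = a) : aug k G a = 0 ∨ aug k G a = 1 := by
  have h : aug k G a * aug k G a = aug k G a := by rw [← map_mul, ha]
  rcases eq_or_ne (aug k G a) 0 with h0 | h0
  · exact Or.inl h0
  · exact Or.inr (mul_left_cancel₀ h0 (h.trans (mul_one _).symm))

variable [CharP k p] [Fact p.Prime]

/-- The Brauer map preserves the augmentation. -/
theorem aug_brMap {R : Subgroup G} (hR : IsPGroup p R) {a : MonoidAlgebra k G}
    (ha : a ∈ fixAlg k R) : aug k G (brMap k R a) = aug k G a := by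
  classical
  let _ : MulAction R G := MulAction.compHom G ((MulAut.conj : G →* MulAut G).comp R.subtype)
  have hsmul : ∀ (u : R) (x : G), u • x = (u : G) * x * (u : G)⁻¹ := fun u x => rfl
  rw [aug_eq_sum, aug_eq_sum,
    sum_eq_sum_fixedPoints (p := p) hR (fun x => a.coeff x) fun u x => by
      rw [hsmul]; exact mem_fixAlg_iff_coeff.1 ha u u.2 x,
    Finset.sum_filter]
  refine Finset.sum_congr rfl fun x _ => ?_
  by_cases hx : x ∈ cz R
  · have hfix : x ∈ MulAction.fixedPoints R G := fun u => by
      rw [hsmul]; exact mem_cz_iff_conj.1 hx u u.2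
    rw [coeff_brMap_of_mem _ hx, if_pos hfix]
  · have hfix : x ∉ MulAction.fixedPoints R G := fun h =>
      hx (mem_cz_iff_conj.2 fun q hq => by simpa [hsmul] using h ⟨q, hq⟩)
    rw [coeff_brMap_of_notMem _ hx, if_neg hfix]

theorem NormalSub.aug_left {a b : Subgroup G × MonoidAlgebra k G} (h : NormalSub p a b)
    (hb : aug k G b.2 = 1) : aug k G a.2 = 1 := by
  have h1 := congrArg (aug k G) h.cover
  rw [map_mul, aug_brMap h.pgroup_right h.fixed, hb, mul_one] at h1
  exact h1

theorem PairLE.aug_left {a b : Subgroup G × MonoidAlgebra k G} (h : PairLE p a b)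
    (hb : aug k G b.2 = 1) : aug k G a.2 = 1 := by
  induction h using Relation.ReflTransGen.head_induction_on with
  | refl => exact hb
  | head h1 _ ih => exact h1.aug_left ih

theorem eq_of_aug_eq_one {H : Subgroup G} {e e' : MonoidAlgebra k G} (he : IsBlockIdem H e)
    (he' : IsBlockIdem H e') (h : aug k G e = 1) (h' : aug k G e' = 1) : e = e' := by
  by_contra hne
  have h1 := congrArg (aug k G) (he.mul_eq_zero he' hne)
  rw [map_mul, h, h', map_zero, one_mul] at h1
  exact one_ne_zero h1

/-- An idempotent with augmentation one survives at a pair with augmentation one. -/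
theorem cover_of_aug {R : Subgroup G} (hR : IsPGroup p R) {B h : MonoidAlgebra k G}
    (hBf : B ∈ fixAlg k (⊤ : Subgroup G)) (hBB : B * B = B) (hB : aug k G B = 1)
    (hh : IsBlockIdem (cz R) h) (hh1 : aug k G h = 1) : brMap k R B * h = h := by
  have hfix : B ∈ fixAlg k R := fixAlg_anti le_top hBf
  refine (hh.mul_idem (brMap_mem_suppAlg R B)
    (brMap_mem_fixAlg (cz_le_normalizer R) (fixAlg_anti le_top hBf))
    (by rw [← brMap_mul hR hfix hfix, hBB])).resolve_left fun h0 => ?_
  have h1 := congrArg (aug k G) h0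
  rw [map_mul, aug_brMap hR hfix, hB, hh1, map_zero, one_mul] at h1
  exact one_ne_zero h1

end Algebra

variable {p : ℕ} {M : Ideal AlgInt} [M.IsMaximal] {G : Type*} [Group G] [Fintype G] [Fact p.Prime]

theorem aug_eG_principal (hM : IsPModular p M) :
    aug (ResK M) G (eG hM (principalBlock M G)) = 1 := by
  classical
  have hB : IsPBlock M (principalBlock M G) := Blocks.isPBlock_principalBlock M
  have hid : eG hM (principalBlock M G) * eG hM (principalBlock M G) =
      eG hM (principalBlock M G) := (isBlockIdem_eG hM hB).idem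
  have hmem : Characters.principalIrr G ∈ principalBlock M G := by
    obtain ⟨χ, hχ⟩ := Blocks.IsPBlock.nonempty hM hB
    exact (Blocks.IsPBlock.mem_iff hM hB hχ _).2 (Blocks.SameBlock.symm hM hχ)
  have h := (mul_eq_iff_memLocalIdeal hM hB hmem (c := blockCoeff (principalBlock M G))
    (blockCoeff_mem hM hB) (fun g x => blockCoeff_conj _ g x) hid).1 hid
  rw [finsum_eq_sum_of_fintype] at h
  simp only [Characters.principalIrr_apply, mul_one, div_one] at h
  let c : G → Blocks.lRing hM := fun x =>
    ⟨blockCoeff (principalBlock M G) x, blockCoeff_mem hM hB x⟩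
  rw [aug_eq_sum, show (∑ x, (eG hM (principalBlock M G)).coeff x) = resK hM (∑ x, c x) by
    rw [map_sum]; exact Finset.sum_congr rfl fun x _ => coeff_redFun hM _]
  rw [← map_one (resK hM), resK_eq_iff hM]
  simpa [c] using h

theorem aug_eA_principal (hM : IsPModular p M) (K : Subgroup G) :
    aug (ResK M) G (eA hM K (principalBlock M K)) = 1 := by
  let _ : Fintype K := Fintype.ofFinite K
  rw [← inclA_eG, aug_inclA]
  exact aug_eG_principal hM

theorem eq_principal_of_aug (hM : IsPModular p M) {K : Subgroup G} {f : Set (IrrCharacter K)}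
    (hf : IsPBlock M f) (h : aug (ResK M) G (eA hM K f) = 1) : f = principalBlock M K := by
  have := charP_res hM
  exact eA_inj hM hf (Blocks.isPBlock_principalBlock M) (eq_of_aug_eq_one
    (isBlockIdem_eA hM hf) (isBlockIdem_eA hM (Blocks.isPBlock_principalBlock M)) h
    (aug_eA_principal hM K))

theorem isBrauerPairOf_principal (hM : IsPModular p M) {Q : Subgroup G} (hQ : IsPGroup p Q) :
    IsBrauerPairOf p M (principalBlock M G) Q (principalBlock M (cz Q)) := by
  have := charP_res hM
  have hB : IsPBlock M (principalBlock M G) := Blocks.isPBlock_principalBlock M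
  have he : IsPBlock M (principalBlock M (cz Q)) := Blocks.isPBlock_principalBlock M
  have hb := isBlockIdem_eG hM hB
  exact (isBrauerPairOf_iff hM _ Q _).2 ⟨he, hB, hQ, bot_le, le_top, isBlockIdem_eA hM he,
    cover_of_aug hQ hb.fixed hb.idem (aug_eG_principal hM) (isBlockIdem_eA hM he)
      (aug_eA_principal hM _)⟩

theorem isMaximalBrauerPair_principal (hM : IsPModular p M) (S : Sylow p G) :
    IsMaximalBrauerPair p M (principalBlock M G) (S : Subgroup G)
      (principalBlock M (cz (S : Subgroup G))) := by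
  have := charP_res hM
  have hpair := isBrauerPairOf_principal hM S.2
  obtain ⟨-, hB, hO⟩ := (isBrauerPairOf_iff hM _ _ _).1 hpair
  refine (isMaximalBrauerPair_iff hM _ _ _).2 ⟨hpair, ?_⟩
  have hS := brSetup_block (p := p) hM hB
  obtain ⟨D, hD, hle⟩ := hS.exists_defect_ge hO.pgroup le_top (hS.brMap_ne_zero hO)
  rwa [S.3 hD.pgroup hle] at hD

/-- Brauer's third main theorem. -/
theorem eq_principal_of_isBrauerPairOf (hM : IsPModular p M) {Q : Subgroup G}
    {e : Set (IrrCharacter (cz Q))} (h : IsBrauerPairOf p M (principalBlock M G) Q e) :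
    e = principalBlock M (cz Q) := by
  have := charP_res hM
  obtain ⟨he, hB, hOQ⟩ := (isBrauerPairOf_iff hM _ Q e).1 h
  obtain ⟨S⟩ : Nonempty (Sylow p G) := inferInstance
  obtain ⟨hP, hD⟩ := (isMaximalBrauerPair_iff hM _ _ _).1 (isMaximalBrauerPair_principal hM S)
  obtain ⟨t, -, ht⟩ := (brSetup_block hM hB).exists_conj_le (hasBlocks hM) hOQ hD
    ((isBrauerPairOf_iff hM _ _ _).1 hP).2.2
  refine eq_principal_of_aug hM he ?_
  have h1 := ht.aug_left (aug_eA_principal hM _)
  exact (aug_conjA t _).symm.trans h1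

theorem isPairSystem_principal_iff (hM : IsPModular p M) (S : Sylow p G) (g : G) (Q : Subgroup G) :
    ConnPair p (S : Subgroup G)
        (eA hM (cz (S : Subgroup G)) (principalBlock M (cz (S : Subgroup G)))) g Q ↔
      Q ≤ S ∧ Q.map (MulAut.conj g).toMonoidHom ≤ S := by
  have := charP_res hM
  refine ⟨fun h => ⟨h.le, h.map_le⟩, fun ⟨hQ, hgQ⟩ => ?_⟩
  have he := isBlockIdem_eA hM
    (Blocks.isPBlock_principalBlock (G := cz (S : Subgroup G)) M)
  obtain ⟨a, ha, hle⟩ := exists_pairLE (hasBlocks hM) hQ S.2 he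
  obtain ⟨b, hb, hle'⟩ := exists_pairLE (hasBlocks hM) hgQ S.2 he
  refine ⟨a, hle, ?_⟩
  have h1 := hle.aug_left (aug_eA_principal hM _)
  have h2 := hle'.aug_left (aug_eA_principal hM _)
  have hconj : IsBlockIdem (cz (Q.map (MulAut.conj g).toMonoidHom)) (conjA g a) := by
    rw [cz_map_conj]; exact ha.conjA g
  have h3 : b = conjA g a :=
    eq_of_aug_eq_one hb hconj h2 ((aug_conjA g a).trans h1)
  rw [h3] at hle'
  exact hle'

theorem principal_fusion (hM : IsPModular p M) (S : Sylow p G)
    {F : FusionSystem (S : Subgroup G)}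
    (hF : IsBlockFusionSystemOn p M (principalBlock M G) (S : Subgroup G)
      (principalBlock M (cz (S : Subgroup G))) F) (Q : Subgroup G) :
    F.Hom Q = (groupFusionSystem (S : Subgroup G)).Hom Q := by
  ext φ
  rw [isPairSystem_of_isBlockFusionSystemOn hM hF Q φ]
  constructor
  · rintro ⟨g, hg, hc⟩
    obtain ⟨hQ, hgQ⟩ := (isPairSystem_principal_iff hM S g Q).1 hc
    exact ⟨hQ, fun x => hgQ ((map_range_of_conj hg).ge ⟨x, rfl⟩), g, hg⟩
  · rintro ⟨hQ, hval, g, hg⟩
    refine ⟨g, hg, (isPairSystem_principal_iff hM S g Q).2 ⟨hQ, ?_⟩⟩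
    rw [map_range_of_conj hg]
    rintro _ ⟨x, rfl⟩
    exact hval x

end CfsgLib.BrauerPairs
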