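import Cfsg.Agent.Lib.BrauerPairs.System
import Cfsg.Agent.Lib.BrauerPairs.Fusion
import Cfsg.Agent.Lib.BrauerPairs.Normalizer

/-!
# The fusion system of a block as the system of a pair of idempotents
-/

namespace CfsgLib.BrauerPairs

open Cfsg MonoidAlgebra

variable {p : ℕ} {M : Ideal AlgInt} [M.IsMaximal] {G : Type*} [Group G] [Fintype G]
  [Fact p.Prime] {B : Set (IrrCharacter G)} {P : Subgroup G} {e : Set (IrrCharacter (cz P))}
  {F : FusionSystem P}

omit [M.IsMaximal] [Fintype G] [Fact p.Prime] in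
theorem isPBlock_of_subpairLE {Q : Subgroup G} {f : Set (IrrCharacter (cz Q))}
    (he : IsPBlock M e) (hle : SubpairLE p M Q f P e) : IsPBlock M f := by
  rcases Relation.ReflTransGen.cases_head hle with h | ⟨c, hc, -⟩
  · obtain ⟨rfl, h⟩ := Sigma.mk.inj_iff.1 h
    exact (eq_of_heq h) ▸ he
  · exact hc.1.2

theorem subpairLE_conj_iff (hM : IsPModular p M) (he : IsPBlock M e) {Q : Subgroup G}
    {f : Set (IrrCharacter (cz Q))} (hf : IsPBlock M f) (g : G) :
    SubpairLE p M (Q.map (MulAut.conj g).toMonoidHom) (conjBlock Q g f) P e ↔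
      PairLE p (conjPair g (Q, eA hM (cz Q) f)) (P, eA hM (cz P) e) := by
  rw [subpairLE_iff hM (isPBlock_conjBlock Q g hf) he, ← conjA_eA_conjBlock hM Q g f]
  rfl

/-- The condition of the definition of the fusion system of a block, algebraically. -/
theorem connPair_iff (hM : IsPModular p M) (he : IsPBlock M e) (g : G) (Q : Subgroup G) :
    (Q ≤ P ∧ Q.map (MulAut.conj g).toMonoidHom ≤ P ∧ ∃ f : Set (IrrCharacter (cz Q)),
      SubpairLE p M Q f P e ∧
        SubpairLE p M (Q.map (MulAut.conj g).toMonoidHom) (conjBlock Q g f) P e) ↔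
      ConnPair p P (eA hM (cz P) e) g Q := by
  constructor
  · rintro ⟨-, -, f, hf, hgf⟩
    have hfB := isPBlock_of_subpairLE he hf
    exact ⟨_, (subpairLE_iff hM hfB he).1 hf, (subpairLE_conj_iff hM he hfB g).1 hgf⟩
  · intro h
    refine ⟨h.le, h.map_le, ?_⟩
    obtain ⟨a, ha, ha'⟩ := h
    have hb : IsBlockIdem (cz Q) a := ha.block_left (isBlockIdem_eA hM he)
    obtain ⟨f, hf, rfl⟩ := exists_eA_eq hM hb
    exact ⟨f, (subpairLE_iff hM hf he).2 ha, (subpairLE_conj_iff hM he hf g).2 ha'⟩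

theorem isPairSystem_of_isBlockFusionSystemOn (hM : IsPModular p M)
    (hF : IsBlockFusionSystemOn p M B P e F) : IsPairSystem p P (eA hM (cz P) e) F := by
  intro Q φ
  rw [hF.2 Q φ]
  constructor
  · rintro ⟨hQ, g, hg, hgQ, hf⟩
    exact ⟨g, hg, (connPair_iff hM hF.1.1.1.2 g Q).1 ⟨hQ, hgQ, hf⟩⟩
  · rintro ⟨g, hg, hc⟩
    obtain ⟨hQ, hgQ, hf⟩ := (connPair_iff hM hF.1.1.1.2 g Q).2 hc
    exact ⟨hQ, g, hg, hgQ, hf⟩

theorem isBlockFusionSystemOn_of_isPairSystem (hM : IsPModular p M)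
    (hmax : IsMaximalBrauerPair p M B P e) (hF : IsPairSystem p P (eA hM (cz P) e) F) :
    IsBlockFusionSystemOn p M B P e F := by
  refine ⟨hmax, fun Q φ => ?_⟩
  rw [hF Q φ]
  constructor
  · rintro ⟨g, hg, hc⟩
    obtain ⟨hQ, hgQ, hf⟩ := (connPair_iff hM hmax.1.1.2 g Q).2 hc
    exact ⟨hQ, g, hg, hgQ, hf⟩
  · rintro ⟨hQ, g, hg, hgQ, hf⟩
    exact ⟨g, hg, (connPair_iff hM hmax.1.1.2 g Q).1 ⟨hQ, hgQ, hf⟩⟩

theorem isSaturated_blockFusion (hM : IsPModular p M) (hF : IsBlockFusionSystemOn p M B P e F) :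
    F.IsSaturated p := by
  have := charP_res hM
  obtain ⟨hP, hD⟩ := (isMaximalBrauerPair_iff hM B P e).1 hF.1
  obtain ⟨-, hB, hOP⟩ := (isBrauerPairOf_iff hM B P e).1 hP
  exact (isPairSystem_of_isBlockFusionSystemOn hM hF).isSaturated (hasBlocks hM)
    (brSetup_block hM hB) hD hOP

theorem exists_blockFusion (hM : IsPModular p M) (hmax : IsMaximalBrauerPair p M B P e) :
    ∃ F : FusionSystem P, IsBlockFusionSystemOn p M B P e F := by
  have := charP_res hM
  obtain ⟨he, -, hOP⟩ := (isBrauerPairOf_iff hM B P e).1 hmax.1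
  exact ⟨pairSystem (hasBlocks hM) hOP.pgroup (isBlockIdem_eA hM he),
    isBlockFusionSystemOn_of_isPairSystem hM hmax fun _ _ => Iff.rfl⟩

end CfsgLib.BrauerPairs
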